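import Mathlib
import Cfsg.Prelude.Def_SevenCases
import Cfsg.Agent.LThree.Base
import Cfsg.Agent.EvenType.KSection
import Cfsg.Agent.OddOrderLocal.RankQuot
set_option linter.all false

/-!
# S1814: format of the rows

* `CompsCT p H` : every component of `H / O_{p'}(H)` is a `C_p`- or `T_p`-group (`LThree.Comps p H` : a `C_p`-group);
* `AutC p X`, `AutCT p X` : for every automorphism `x` of `X` of order `p` the fixed subgroup has `Comps` / `CompsCT`;
  `AutC.congr`, `AutCT.congr`;
* `autC_of_inner`, `autCT_of_inner` : all automorphisms of order `p` are inner;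
* `inner_of_pow` : an automorphism of order `p` with an inner power `x ^ n`, `n` prime to `p`, is inner.
-/

set_option autoImplicit false

namespace Cfsg.Agent.CpAut

open Subgroup Cfsg
open Cfsg.Agent.LThree (Comps)

universe u v

/-- Every component of `H / O_{p'}(H)` is a `C_p`-group or a `T_p`-group. -/
def CompsCT (p : ℕ) (H : Type*) [Group H] : Prop :=
  ∀ K : Subgroup (H ⧸ pPrimeCore p H), IsComponent K → InCT p ↥K

/-- For every automorphism of `X` of order `p` every component of `C_X(x) / O_{p'}(C_X(x))` is a `C_p`-group. -/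
def AutC (p : ℕ) (X : Type*) [Group X] : Prop :=
  ∀ x : MulAut X, orderOf x = p → Comps p ↥(fixedSubgroup x)

/-- For every automorphism of `X` of order `p` every component of `C_X(x) / O_{p'}(C_X(x))` is a `C_p`- or
`T_p`-group. -/
def AutCT (p : ℕ) (X : Type*) [Group X] : Prop :=
  ∀ x : MulAut X, orderOf x = p → CompsCT p ↥(fixedSubgroup x)

/-- Every finite simple group of the universe is known (`S0000`). -/
def AllKnown : Prop := ∀ (G : Type u) [Group G] [Finite G] [IsSimpleGroup G], IsKnownSimple' G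

theorem _root_.Cfsg.Agent.LThree.Comps.ct {p : ℕ} {H : Type*} [Group H] (h : Comps p H) : CompsCT p H :=
  fun K hK => Or.inl (h K hK)

theorem AutC.ct {p : ℕ} {X : Type*} [Group X] (h : AutC p X) : AutCT p X := fun x hx => (h x hx).ct

theorem inCT_iff {X : Type u} {Y : Type v} [Group X] [Group Y] (e : X ≃* Y) (p : ℕ) : InCT p X ↔ InCT p Y := by
  unfold InCT
  rw [CpQuot.Congr.inC_iff e p, CpQuot.Congr.inT_iff e p]

theorem CompsCT.congr {H : Type u} {H' : Type v} [Group H] [Group H'] {p : ℕ} (e : H ≃* H') (h : CompsCT p H) :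
    CompsCT p H' := by
  intro K hK
  have h1 := h _ (LThree.isComponent_map (LThree.quo p e).symm hK)
  exact (inCT_iff (K.equivMapOfInjective (LThree.quo p e).symm.toMonoidHom (LThree.quo p e).symm.injective) p).2 h1

theorem CompsCT.of_solvable {H : Type u} [Group H] {p : ℕ} (hs : Group.IsSolvable H) : CompsCT p H :=
  (Comps.of_solvable hs).ct

theorem CompsCT.of_normal {H : Type u} [Group H] [Finite H] {p : ℕ} (hp : p.Prime) (N : Subgroup H) [N.Normal]
    (hN : InCT p ↥N) (hs : Group.IsSolvable (H ⧸ N)) : CompsCT p H := by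
  intro K hK
  have h1 : IsQuasisimple ↥N ∧ IsPGroup p ↥(center ↥N) := by
    rcases hN with h | h
    · exact ⟨h.1, h.2.1⟩
    · exact ⟨h.1, h.2.1⟩
  obtain ⟨e⟩ := LThree.comp_equiv_of_normal hp N h1.1 h1.2 hs K hK
  exact (inCT_iff e p).1 hN

/-! ### Automorphisms -/

section Transport

variable {X : Type u} {Y : Type v} [Group X] [Group Y]

theorem map_fixedSubgroup (e : X ≃* Y) (x : MulAut X) :
    (fixedSubgroup x).map e.toMonoidHom = fixedSubgroup (MulAut.congr e x) := by
  ext y
  constructor
  · rintro ⟨a, ha, rfl⟩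
    have ha' : x a = a := ha
    change e (x (e.symm (e a))) = e a
    rw [e.symm_apply_apply, ha']
  · intro hy
    have hy' : e (x (e.symm y)) = y := hy
    refine ⟨e.symm y, ?_, e.apply_symm_apply y⟩
    change x (e.symm y) = e.symm y
    apply e.injective
    rw [hy', e.apply_symm_apply]

/-- fixed subgroups correspond under `MulAut.congr` -/
noncomputable def fixEquiv (e : X ≃* Y) (x : MulAut X) :
    ↥(fixedSubgroup x) ≃* ↥(fixedSubgroup (MulAut.congr e x)) :=
  ((fixedSubgroup x).equivMapOfInjective e.toMonoidHom e.injective).trans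
    (MulEquiv.subgroupCongr (map_fixedSubgroup e x))

theorem AutC.congr {p : ℕ} (e : X ≃* Y) (h : AutC p X) : AutC p Y := by
  intro y hy
  have h1 : MulAut.congr e ((MulAut.congr e).symm y) = y := (MulAut.congr e).apply_symm_apply y
  have h2 : orderOf ((MulAut.congr e).symm y) = p := by rw [MulEquiv.orderOf_eq, hy]
  have h3 := (h _ h2).congr (fixEquiv e ((MulAut.congr e).symm y))
  rwa [h1] at h3

theorem AutCT.congr {p : ℕ} (e : X ≃* Y) (h : AutCT p X) : AutCT p Y := by
  intro y hy
  have h1 : MulAut.congr e ((MulAut.congr e).symm y) = y := (MulAut.congr e).apply_symm_apply y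
  have h2 : orderOf ((MulAut.congr e).symm y) = p := by rw [MulEquiv.orderOf_eq, hy]
  have h3 := (h _ h2).congr (fixEquiv e ((MulAut.congr e).symm y))
  rwa [h1] at h3

end Transport

section Inner

variable {X : Type u} [Group X]

theorem fixedSubgroup_conj (g : X) : fixedSubgroup (MulAut.conj g) = centralizer ({g} : Set X) := by
  ext y
  rw [mem_centralizer_singleton_iff]
  change g * y * g⁻¹ = y ↔ y * g = g * y
  rw [mul_inv_eq_iff_eq_mul]
  exact ⟨fun h => h.symm, fun h => h.symm⟩

theorem orderOf_conj (hc : center X = ⊥) (g : X) : orderOf (MulAut.conj g) = orderOf g := by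
  apply orderOf_injective (MulAut.conj : X →* MulAut X)
  rw [← MonoidHom.ker_eq_bot_iff, eq_bot_iff, ← hc]
  intro a ha
  rw [mem_center_iff]
  intro b
  have h1 : MulAut.conj a b = b := by rw [(MonoidHom.mem_ker).1 ha]; rfl
  have h2 : a * b * a⁻¹ = b := h1
  rw [mul_inv_eq_iff_eq_mul] at h2
  exact h2.symm

/-- all automorphisms of order `p` are inner -/
def AutInner (p : ℕ) (X : Type*) [Group X] : Prop :=
  ∀ x : MulAut X, orderOf x = p → ∃ g : X, x = MulAut.conj g

theorem AutInner.congr {Y : Type v} [Group Y] {p : ℕ} (e : X ≃* Y) (h : AutInner p X) : AutInner p Y := by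
  intro y hy
  obtain ⟨g, hg⟩ := h ((MulAut.congr e).symm y) (by rw [MulEquiv.orderOf_eq, hy])
  refine ⟨e g, ?_⟩
  have h1 : y = MulAut.congr e (MulAut.conj g) := by rw [← hg, MulEquiv.apply_symm_apply]
  rw [h1]
  ext b
  change e (g * e.symm b * g⁻¹) = e g * b * (e g)⁻¹
  rw [map_mul, map_mul, e.apply_symm_apply, map_inv]

theorem autC_of_inner {p : ℕ} (hc : center X = ⊥) (hi : AutInner p X)
    (h : ∀ g : X, orderOf g = p → Comps p ↥(centralizer ({g} : Set X))) : AutC p X := by
  intro x hx
  obtain ⟨g, rfl⟩ := hi x hx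
  rw [orderOf_conj hc] at hx
  rw [fixedSubgroup_conj]
  exact h g hx

theorem autCT_of_inner {p : ℕ} (hc : center X = ⊥) (hi : AutInner p X)
    (h : ∀ g : X, orderOf g = p → CompsCT p ↥(centralizer ({g} : Set X))) : AutCT p X := by
  intro x hx
  obtain ⟨g, rfl⟩ := hi x hx
  rw [orderOf_conj hc] at hx
  rw [fixedSubgroup_conj]
  exact h g hx

/-- `x` of order `p` with `x ^ n` inner, `n` prime to `p`, is inner -/
theorem inner_of_pow {p n : ℕ} {x : MulAut X} (hx : orderOf x = p) (hn : n.Coprime p)
    (h : ∃ g : X, x ^ n = MulAut.conj g) : ∃ g : X, x = MulAut.conj g := by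
  obtain ⟨g, hg⟩ := h
  have h1 : x ^ n ∈ (MulAut.conj : X →* MulAut X).range := ⟨g, hg.symm⟩
  have h2 : x ∈ (MulAut.conj : X →* MulAut X).range := by
    obtain ⟨m, hm⟩ := exists_pow_eq_self_of_coprime (x := x) (n := n) (by rw [hx]; exact hn)
    rw [← hm]
    exact pow_mem h1 m
  obtain ⟨a, ha⟩ := h2
  exact ⟨a, ha.symm⟩

/-- if squares of automorphisms are inner, the automorphisms of odd order are inner -/
theorem autInner_of_sq {p : ℕ} (hp : p.Prime) (hp2 : p ≠ 2)
    (h : ∀ x : MulAut X, ∃ g : X, x * x = MulAut.conj g) : AutInner p X := by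
  intro x hx
  refine inner_of_pow (n := 2) hx ?_ ?_
  · exact (Nat.coprime_primes Nat.prime_two hp).2 hp2.symm
  · rw [pow_two]
    exact h x

/-- if `Inn(X)` has index `n` prime to `p` in `Aut(X)`, the automorphisms of order `p` are inner -/
theorem autInner_of_index {p : ℕ} (h : ((MulAut.conj : X →* MulAut X).range.index).Coprime p)
    (hn : ((MulAut.conj : X →* MulAut X).range).Normal) : AutInner p X := by
  intro x hx
  have h1 := Subgroup.pow_index_mem ((MulAut.conj : X →* MulAut X).range) x
  obtain ⟨g, hg⟩ := h1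
  exact inner_of_pow hx h ⟨g, hg.symm⟩

/-- an automorphism group whose `p'`-multiples are inner: version for non-abelian simple groups -/
theorem center_eq_bot_of_simple [IsSimpleGroup X] (hX : ¬ IsMulCommutative X) : center X = ⊥ := by
  rcases (inferInstance : (center X).Normal).eq_bot_or_eq_top with h | h
  · exact h
  · exfalso
    apply hX
    refine ⟨⟨fun a b => ?_⟩⟩
    have : b ∈ center X := by rw [h]; exact mem_top b
    exact mem_center_iff.1 this a

end Inner

/-! ### Components of `p`-rank one -/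

section RankOne

variable {H : Type u} [Group H] [Finite H] {p : ℕ}

/-- the order of a component of `H / O_{p'}(H)` is divisible by `p` -/
theorem dvd_card_comp (hp : p.Prime) (K : Subgroup (H ⧸ pPrimeCore p H)) (hK : IsComponent K) :
    p ∣ Nat.card ↥K := by
  by_contra hc
  have hO := Lib.Cores.pPrimeCore_normal (G := H) p
  have h0 : pPrimeCore p (H ⧸ pPrimeCore p H) = ⊥ := Lib.Cores.pPrimeCore_quotient_pPrimeCore p
  have h1 : (pPrimeCore p K).map K.subtype = ⊥ := by
    rw [SignalizersComponents.CompBasic.map_subtype_pPrimeCore_of_subnormal p hK.1, h0, inf_bot_eq]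
  have h2 : pPrimeCore p K = ⊥ := (map_eq_bot_iff_of_injective _ K.subtype_injective).1 h1
  have h3 : (⊤ : Subgroup ↥K) ≤ pPrimeCore p ↥K := by
    refine Lib.Cores.le_pPrimeCore inferInstance ?_
    rw [card_top]
    exact (hp.coprime_iff_not_dvd.2 hc).symm
  rw [h2, le_bot_iff] at h3
  have := SignalizersComponents.Components.quasisimple_nontrivial hK.2
  exact top_ne_bot h3

theorem isPGroup_center_comp (hp : p.Prime) (K : Subgroup (H ⧸ pPrimeCore p H)) (hK : IsComponent K) :
    IsPGroup p ↥(center ↥K) := by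
  have hO := Lib.Cores.pPrimeCore_normal (G := H) p
  exact EvenType.KSection.isPGroup_center_of_subnormal hp (Lib.Cores.pPrimeCore_quotient_pPrimeCore p) hK.1

omit [Finite H] in
/-- a subgroup has smaller `p`-rank -/
theorem prankLE_subgroup {k : ℕ} (K : Subgroup H) (h : PRankLE p k H) : PRankLE p k ↥K :=
  OddOrderLocal.RankQuot.pRankLE_of_injective' K.subtype K.subtype_injective h

theorem prankAtLeast_one (hp : p.Prime) (h : p ∣ Nat.card H) : PRankAtLeast p 1 H := by
  have : Fact p.Prime := ⟨hp⟩
  obtain ⟨x, hx⟩ := exists_prime_orderOf_dvd_card' p h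
  refine ⟨zpowers x, inferInstance, ?_, ?_⟩
  · rintro a ha
    obtain ⟨n, rfl⟩ := mem_zpowers_iff.1 ha
    rw [← zpow_natCast, ← zpow_mul, mul_comm, zpow_mul, zpow_natCast, ← hx, pow_orderOf_eq_one, one_zpow]
  · rw [Nat.card_zpowers, hx, pow_one]

/-- components of `p`-rank at most one are `C_p`- or `T_p`-groups (`p` odd) -/
theorem inCT_of_rank_one (hS : AllKnown.{u}) (hp : p.Prime) (hp2 : p ≠ 2)
    (K : Subgroup (H ⧸ pPrimeCore p H)) (hK : IsComponent K) (hr : PRankLE p 1 ↥K) : InCT p ↥K := by
  by_cases hC : InC p ↥K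
  · exact Or.inl hC
  · right
    have := hK.2.2
    refine ⟨hK.2, isPGroup_center_comp hp K hK, hS _, hC, ?_⟩
    right; right; right
    exact ⟨hp2, hr, prankAtLeast_one hp (dvd_card_comp hp K hK)⟩

theorem CompsCT.of_rank_one (hS : AllKnown.{u}) (hp : p.Prime) (hp2 : p ≠ 2) (hr : PRankLE p 1 H) :
    CompsCT p H := by
  intro K hK
  have : Fact p.Prime := ⟨hp⟩
  have hO := Lib.Cores.pPrimeCore_normal (G := H) p
  refine inCT_of_rank_one hS hp hp2 K hK ?_
  apply prankLE_subgroup
  exact OddOrderLocal.RankQuot.pRankLE_quotient_of_not_dvd _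
    ((hp.coprime_iff_not_dvd.1 (Lib.Cores.pPrimeCore_coprime (G := H) p).symm)) hr

/-- `T_p` with `m_p(X) = 1`, `p` odd -/
theorem autCT_of_rank_one {X : Type u} [Group X] [Finite X] (hS : AllKnown.{u}) (hp : p.Prime) (hp2 : p ≠ 2)
    (hr : PRankLE p 1 X) : AutCT p X :=
  fun x _ => CompsCT.of_rank_one hS hp hp2 (prankLE_subgroup (fixedSubgroup x) hr)

end RankOne

end Cfsg.Agent.CpAut
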