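import Mathlib
import Cfsg.Prelude.Def_SevenCases
import Cfsg.Prelude.Def_CaseTheorems
import Cfsg.Agent.Lib.Cores
import Cfsg.Agent.Lib.ThompsonPQ
import Cfsg.Agent.SignalizersComponents.Components
import Cfsg.Agent.CTwoTab.Good
import Cfsg.Agent.CpAut.Base
set_option linter.all false

/-!
# S1814, `p = 2`: the abstract part (helper6)

* `ct_iff`, `ct_congr`, `ct_of` : groups of characteristic 2;
* `ct_of_normal` : normal subgroups; `ct_fix` : fixed points of an involutory automorphism;
* `ct_cent_fix` : `C_X(u)` for `X = C_K(x)`, `u ∈ X`;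
* `exists_lift_invo`, `cent_equiv` : involutions of `X / O`, `O` a normal subgroup of odd order;
* `frame` : a component `L` of `X / O(X)` is isomorphic to a component of some `C_X(u)`, or it is simple, normal and
  self-centralizing, and the centralizers of its involutions in `X / O(X)` come from `X`;
* `comps_two` : the frame with `S0000` and the table "known of characteristic 2 type implies `C₂`-group";
* `autC_of_ct` : the row of a group in which all the centralizers of involutions are of characteristic 2.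
-/

set_option autoImplicit false
set_option linter.unusedSectionVars false

namespace Cfsg.Agent.CpAut.TwoAbs

open Subgroup Cfsg
open Cfsg.Agent.LThree (Comps)

universe u v

/-! ### Groups of characteristic 2 -/

section ct

theorem isPGroup_two_of_odd {G : Type*} [Group G] [Finite G] {W : Subgroup G}
    (h : ∀ b ∈ W, Odd (orderOf b) → b = 1) : IsPGroup 2 ↥W := by
  intro x
  obtain ⟨k, m, hm, hkm⟩ := Nat.exists_eq_pow_mul_and_not_dvd (orderOf_pos (x : G)).ne' 2 (by norm_num)
  refine ⟨k, Subtype.ext ?_⟩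
  refine h ((x : G) ^ 2 ^ k) (W.pow_mem x.2 _) ?_
  have ho : orderOf ((x : G) ^ 2 ^ k) = m := by
    rw [orderOf_pow, hkm, Nat.gcd_eq_right (Dvd.intro _ rfl)]
    exact Nat.mul_div_cancel_left m (by positivity)
  rw [ho]
  exact Nat.odd_iff.2 (by omega)

/-- an element of odd order of a 2-subgroup is trivial -/
theorem eq_one_of_odd {G : Type*} [Group G] {Q : Subgroup G} (hQ : IsPGroup 2 ↥Q) {b : G} (hb : b ∈ Q)
    (ho : Odd (orderOf b)) : b = 1 := by
  obtain ⟨k, hk⟩ := hQ ⟨b, hb⟩
  have h1 : b ^ 2 ^ k = 1 := congrArg Subtype.val hk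
  have h2 : orderOf b ∣ 2 ^ k := orderOf_dvd_of_pow_eq_one h1
  have h3 : orderOf b = 1 := Nat.eq_one_of_dvd_coprimes (Nat.Coprime.pow_right k ho.coprime_two_right) dvd_rfl h2
  exact orderOf_eq_one_iff.1 h3

variable {H : Type u} [Group H] [Finite H]

theorem ct_iff : IsOfCharacteristicTwo H ↔
    ∃ Q : Subgroup H, Q.Normal ∧ IsPGroup 2 ↥Q ∧ centralizer (Q : Set H) ≤ Q := by
  constructor
  · intro h
    exact ⟨pCore 2 H, Lib.Cores.pCore_normal 2, Lib.Cores.pCore_isPGroup 2, h⟩
  · rintro ⟨Q, h1, h2, h3⟩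
    have h4 := Lib.Cores.le_pCore h1 h2
    exact (centralizer_le h4).trans (h3.trans h4)

/-- `H` is of characteristic 2 if the elements of odd order commuting with the normal 2-subgroup `R` are trivial. -/
theorem ct_of {R : Subgroup H} (hR : R.Normal) (hR2 : IsPGroup 2 ↥R)
    (h : ∀ b : H, b ∈ centralizer (R : Set H) → Odd (orderOf b) → b = 1) : IsOfCharacteristicTwo H := by
  have hW : (centralizer (R : Set H)).Normal := normal_centralizer
  have hW2 : IsPGroup 2 ↥(centralizer (R : Set H)) := isPGroup_two_of_odd h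
  refine ct_iff.2 ⟨R ⊔ centralizer (R : Set H), sup_normal _ _, hR2.to_sup_of_normal_right hW2, ?_⟩
  exact (centralizer_le (show (R : Set H) ⊆ ((R ⊔ centralizer (R : Set H) : Subgroup H) : Set H) from
    SetLike.coe_subset_coe.2 le_sup_left)).trans le_sup_right

theorem ct_congr {H' : Type v} [Group H'] [Finite H'] (e : H ≃* H') (h : IsOfCharacteristicTwo H) :
    IsOfCharacteristicTwo H' := by
  intro y hy
  rw [← Lib.Cores.map_equiv_pCore e 2] at hy ⊢
  refine ⟨e.symm y, h ?_, e.apply_symm_apply y⟩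
  rw [mem_centralizer_iff] at hy ⊢
  intro q hq
  have h1 := hy (e q) ⟨q, hq, rfl⟩
  apply e.injective
  rw [map_mul, map_mul, e.apply_symm_apply, h1]

/-- Normal subgroups of a group of characteristic 2. -/
theorem ct_of_normal (h : IsOfCharacteristicTwo H) (N : Subgroup H) [N.Normal] : IsOfCharacteristicTwo ↥N := by
  have hQn : (pCore 2 H).Normal := Lib.Cores.pCore_normal 2
  have hQ2 : IsPGroup 2 ↥(pCore 2 H) := Lib.Cores.pCore_isPGroup 2
  have hRn : ((pCore 2 H).subgroupOf N).Normal := inferInstance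
  have hR2 : IsPGroup 2 ↥((pCore 2 H).subgroupOf N) := hQ2.comap_subtype
  refine ct_of hRn hR2 ?_
  rintro ⟨b, hb⟩ hc ho
  rw [Subgroup.orderOf_mk] at ho
  apply Subtype.ext
  change b = 1
  -- `b` commutes with `Q`
  refine eq_one_of_odd hQ2 (h ?_) ho
  rw [mem_centralizer_iff]
  intro q hq
  obtain ⟨r, hr⟩ : ∃ r, r = q⁻¹ * (b * q * b⁻¹) := ⟨_, rfl⟩
  have hrQ : r ∈ pCore 2 H := by
    rw [hr]
    exact mul_mem (inv_mem hq) (hQn.conj_mem q hq b)
  have hrN : r ∈ N := by
    have h1 : r = (q⁻¹ * b * q⁻¹⁻¹) * b⁻¹ := by rw [hr]; group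
    rw [h1]
    exact N.mul_mem (Normal.conj_mem inferInstance b hb q⁻¹) (N.inv_mem hb)
  have hbr : r * b = b * r := by
    have h1 := mem_centralizer_iff.1 hc ⟨r, hrN⟩ (mem_subgroupOf.2 hrQ)
    exact congrArg Subtype.val h1
  have hbq : b * q * b⁻¹ = q * r := by rw [hr]; group
  have hpow : ∀ n : ℕ, b ^ n * q * (b ^ n)⁻¹ = q * r ^ n := by
    intro n
    induction n with
    | zero => simp
    | succ n ih =>
      have hcr : b * r ^ n * b⁻¹ = r ^ n := by
        rw [mul_inv_eq_iff_eq_mul]
        exact ((show Commute r b from hbr).pow_left n).eq.symm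
      calc b ^ (n + 1) * q * (b ^ (n + 1))⁻¹ = b * (b ^ n * q * (b ^ n)⁻¹) * b⁻¹ := by rw [pow_succ']; group
        _ = b * q * b⁻¹ * (b * r ^ n * b⁻¹) := by rw [ih]; group
        _ = q * r * r ^ n := by rw [hbq, hcr]
        _ = q * r ^ (n + 1) := by rw [pow_succ', mul_assoc]
  have h1 := hpow (orderOf b)
  rw [pow_orderOf_eq_one] at h1
  have h2 : r ^ orderOf b = 1 := by
    have : q = q * r ^ orderOf b := by simpa using h1
    exact (mul_eq_left.1 this.symm)
  have h3 : Odd (orderOf r) := ho.of_dvd_nat (orderOf_dvd_of_pow_eq_one h2)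
  have h4 : r = 1 := eq_one_of_odd hQ2 hrQ h3
  rw [h4, mul_one] at hbq
  exact (mul_inv_eq_iff_eq_mul.1 hbq).symm

end ct

/-! ### Fixed points -/

section fix

variable {H : Type u} [Group H] [Finite H]

/-- Thompson's `A × B` lemma for an involutory automorphism. -/
theorem comm_of_fix {Q : Subgroup H} (hQ : IsPGroup 2 ↥Q) {x : MulAut H} (hx : x * x = 1) (hxQ : ∀ q ∈ Q, x q ∈ Q)
    {b : H} (ho : Odd (orderOf b)) (hbx : x b = b) (hbQ : ∀ q ∈ Q, b * q * b⁻¹ ∈ Q)
    (hc : ∀ q ∈ Q, x q = q → b * q = q * b) : ∀ q ∈ Q, b * q = q * b := by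
  have : Fact (Nat.Prime 2) := ⟨Nat.prime_two⟩
  let φ : MulAut H →* MulAut H := MonoidHom.id (MulAut H)
  have hfin : Finite (H ⋊[φ] MulAut H) := Finite.of_equiv _ SemidirectProduct.equivProd.symm
  let il : H →* H ⋊[φ] MulAut H := SemidirectProduct.inl
  let ir : MulAut H →* H ⋊[φ] MulAut H := SemidirectProduct.inr
  have hinj : Function.Injective il := SemidirectProduct.inl_injective
  have haut : ∀ (y : MulAut H) (h : H), ir y * il h * (ir y)⁻¹ = il (y h) := by
    intro y h
    rw [← map_inv]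
    exact (SemidirectProduct.inl_aut (φ := φ) y h).symm
  have hU : ∀ y : H, y ∈ Q → il y ∈ Q.map il := fun y hy => mem_map_of_mem il hy
  have hUi : ∀ y : H, il y ∈ Q.map il → y ∈ Q := by
    rintro y ⟨z, hz, hzy⟩
    rw [← hinj hzy]; exact hz
  have hxx : ir x * ir x = 1 := by rw [← map_mul, hx, map_one]
  have hxi : (ir x)⁻¹ = ir x := inv_eq_of_mul_eq_one_left hxx
  have key : zpowers (il b) ≤ centralizer ((Q.map il : Subgroup (H ⋊[φ] MulAut H)) : Set (H ⋊[φ] MulAut H)) := by
    refine Lib.ThompsonPQ.thompson_p_times_q 2 (zpowers (ir x)) (zpowers (il b)) (Q.map il) ?_ ?_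
      (hQ.map il) ?_ ?_ ?_ ?_
    · intro y
      obtain ⟨y, n, rfl⟩ := y
      refine ⟨1, Subtype.ext ?_⟩
      change ((ir x) ^ n) ^ 2 ^ 1 = 1
      rw [pow_one, ← zpow_natCast, ← zpow_mul, mul_comm, zpow_mul]
      norm_num
      rw [pow_two, hxx, one_zpow]
    · rw [Nat.card_zpowers, orderOf_injective il hinj]
      exact ho.coprime_two_right
    · rw [zpowers_le, mem_centralizer_iff]
      rintro _ ⟨n, rfl⟩
      have h1 : Commute (il b) (ir x) := by
        have := haut x b
        rw [hbx, mul_inv_eq_iff_eq_mul] at this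
        exact this.symm
      exact (h1.zpow_left n).eq
    · rw [zpowers_le, mem_normalizer_iff]
      have hh : ∀ y ∈ Q.map il, ir x * y * (ir x)⁻¹ ∈ Q.map il := by
        rintro _ ⟨y, hy, rfl⟩
        rw [haut]
        exact hU _ (hxQ y hy)
      intro y
      refine ⟨hh y, fun hy => ?_⟩
      have h1 := hh _ hy
      have h2 : ir x * (ir x * y * (ir x)⁻¹) * (ir x)⁻¹ = y := by
        rw [hxi]
        calc ir x * (ir x * y * ir x) * ir x = (ir x * ir x) * y * (ir x * ir x) := by group
          _ = y := by rw [hxx, one_mul, mul_one]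
      rwa [h2] at h1
    · rw [zpowers_le, mem_normalizer_iff]
      have hbi : ∀ q ∈ Q, b⁻¹ * q * b ∈ Q := by
        intro q hq
        have h1 : ∀ n : ℕ, b ^ n * q * (b ^ n)⁻¹ ∈ Q := by
          intro n
          induction n with
          | zero => simpa using hq
          | succ n ih =>
            have := hbQ _ ih
            have e : b * (b ^ n * q * (b ^ n)⁻¹) * b⁻¹ = b ^ (n + 1) * q * (b ^ (n + 1))⁻¹ := by
              rw [pow_succ']; group
            rwa [e] at this
        have h2 := h1 (orderOf b - 1)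
        have h3 : b ^ (orderOf b - 1) = b⁻¹ := by
          rw [eq_inv_iff_mul_eq_one, ← pow_succ, Nat.sub_add_cancel (orderOf_pos b), pow_orderOf_eq_one]
        rw [h3, inv_inv] at h2
        exact h2
      intro y
      constructor
      · rintro ⟨y, hy, rfl⟩
        refine ⟨b * y * b⁻¹, hbQ y hy, ?_⟩
        rw [map_mul, map_mul, map_inv]
      · rintro ⟨z, hz, hzy⟩
        refine ⟨b⁻¹ * z * b, hbi z hz, ?_⟩
        rw [map_mul, map_mul, map_inv, hzy]
        group
    · rintro _ ⟨⟨y, hy, rfl⟩, h2⟩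
      rw [mem_centralizer_iff]
      have h3 : x y = y := by
        have h4 := mem_centralizer_iff.1 h2 (ir x) (mem_zpowers _)
        apply hinj
        rw [← haut x y, h4, mul_inv_cancel_right]
      have h5 : Commute (il b) (il y) := by
        have := congrArg il (hc y hy h3)
        rw [map_mul, map_mul] at this
        exact this
      rintro _ ⟨n, rfl⟩
      exact (h5.zpow_left n).eq
  intro q hq
  have h1 := mem_centralizer_iff.1 (key (mem_zpowers _)) (il q) (hU q hq)
  apply hinj
  rw [map_mul, map_mul, h1]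

/-- **Fixed points** of an involutory automorphism of a group of characteristic 2. -/
theorem ct_fix (h : IsOfCharacteristicTwo H) {x : MulAut H} (hx : x * x = 1) :
    IsOfCharacteristicTwo ↥(fixedSubgroup x) := by
  have hQn : (pCore 2 H).Normal := Lib.Cores.pCore_normal 2
  have hQ2 : IsPGroup 2 ↥(pCore 2 H) := Lib.Cores.pCore_isPGroup 2
  have hRn : ((pCore 2 H).subgroupOf (fixedSubgroup x)).Normal := inferInstance
  have hR2 : IsPGroup 2 ↥((pCore 2 H).subgroupOf (fixedSubgroup x)) := hQ2.comap_subtype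
  have hxQ : ∀ q ∈ pCore 2 H, x q ∈ pCore 2 H := by
    intro q hq
    have h1 := Lib.Cores.map_equiv_pCore (x : H ≃* H) 2
    rw [← h1]
    exact ⟨q, hq, rfl⟩
  refine ct_of hRn hR2 ?_
  rintro ⟨b, hb⟩ hc ho
  rw [Subgroup.orderOf_mk] at ho
  apply Subtype.ext
  change b = 1
  refine eq_one_of_odd hQ2 (h ?_) ho
  rw [mem_centralizer_iff]
  intro q hq
  refine (comm_of_fix hQ2 hx hxQ ho hb (fun q hq => hQn.conj_mem q hq b) ?_ q hq).symm
  intro q hq hxq
  have h1 := mem_centralizer_iff.1 hc ⟨q, hxq⟩ (mem_subgroupOf.2 hq)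
  exact (congrArg Subtype.val h1).symm

/-- The restriction of an involutory automorphism to an invariant subgroup. -/
def restr {x : MulAut H} (hx : x * x = 1) (C : Subgroup H) (hC : ∀ a ∈ C, x a ∈ C) : MulAut ↥C where
  toFun a := ⟨x a, hC a a.2⟩
  invFun a := ⟨x a, hC a a.2⟩
  left_inv a := Subtype.ext (DFunLike.congr_fun hx (a : H))
  right_inv a := Subtype.ext (DFunLike.congr_fun hx (a : H))
  map_mul' a b := Subtype.ext (map_mul x (a : H) b)

/-- `C ∩ C_H(x)` for an invariant subgroup `C` of characteristic 2 -/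
theorem ct_subgroupOf_fix {x : MulAut H} (hx : x * x = 1) {C : Subgroup H} (hC : ∀ a ∈ C, x a ∈ C)
    (h : IsOfCharacteristicTwo ↥C) : IsOfCharacteristicTwo ↥(C.subgroupOf (fixedSubgroup x)) := by
  let r := restr hx C hC
  have hr : r * r = 1 := by
    ext a
    exact DFunLike.congr_fun hx (a : H)
  refine ct_congr (H := ↥(fixedSubgroup r)) ?_ (ct_fix h hr)
  exact
    { toFun := fun a => ⟨⟨(a : ↥C), congrArg Subtype.val a.2⟩, a.1.2⟩
      invFun := fun a => ⟨⟨(a : ↥(fixedSubgroup x)), a.2⟩, Subtype.ext a.1.2⟩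
      left_inv := fun a => rfl
      right_inv := fun a => rfl
      map_mul' := fun a b => rfl }

theorem cent_subgroupOf {X : Subgroup H} (u : ↥X) :
    centralizer ({u} : Set ↥X) = (centralizer ({(u : H)} : Set H)).subgroupOf X := by
  ext y
  rw [mem_subgroupOf, mem_centralizer_singleton_iff, mem_centralizer_singleton_iff]
  exact ⟨fun h => congrArg Subtype.val h, fun h => Subtype.ext h⟩

/-- **Centralizers in `X = C_K(x)`.** -/
theorem ct_cent_fix {x : MulAut H} (hx : x * x = 1) (u : ↥(fixedSubgroup x))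
    (h : IsOfCharacteristicTwo ↥(centralizer ({(u : H)} : Set H))) :
    IsOfCharacteristicTwo ↥(centralizer ({u} : Set ↥(fixedSubgroup x))) := by
  rw [cent_subgroupOf]
  refine ct_subgroupOf_fix hx ?_ h
  intro a ha
  rw [mem_centralizer_singleton_iff] at ha ⊢
  have hu : x u = u := u.2
  have h1 := congrArg x ha
  rwa [map_mul, map_mul, hu] at h1

/-- The core of a group of characteristic 2 is trivial. -/
theorem core_of_ct (h : IsOfCharacteristicTwo H) : pPrimeCore 2 H = ⊥ := by
  rw [eq_bot_iff]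
  intro b hb
  have hQn : (pCore 2 H).Normal := Lib.Cores.pCore_normal 2
  have hQ2 : IsPGroup 2 ↥(pCore 2 H) := Lib.Cores.pCore_isPGroup 2
  have hOn : (pPrimeCore 2 H).Normal := Lib.Cores.pPrimeCore_normal 2
  have hO : (Nat.card ↥(pPrimeCore 2 H)).Coprime 2 := Lib.Cores.pPrimeCore_coprime 2
  have hodd : ∀ y ∈ pPrimeCore 2 H, Odd (orderOf y) := by
    intro y hy
    have h1 : orderOf y ∣ Nat.card ↥(pPrimeCore 2 H) := by
      have := orderOf_dvd_natCard (⟨y, hy⟩ : ↥(pPrimeCore 2 H))
      rwa [Subgroup.orderOf_mk] at this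
    exact (Nat.coprime_two_right.1 hO).of_dvd_nat h1
  rw [mem_bot]
  refine eq_one_of_odd hQ2 (h ?_) (hodd b hb)
  rw [mem_centralizer_iff]
  intro q hq
  have h1 : q * b * q⁻¹ * b⁻¹ ∈ pPrimeCore 2 H :=
    mul_mem (hOn.conj_mem b hb q) (inv_mem hb)
  have h2 : q * b * q⁻¹ * b⁻¹ ∈ pCore 2 H := by
    have h3 : q * b * q⁻¹ * b⁻¹ = q * (b * q⁻¹ * b⁻¹) := by group
    rw [h3]
    exact mul_mem hq (hQn.conj_mem _ (inv_mem hq) b)
  have h3 := eq_one_of_odd hQ2 h2 (hodd _ h1)
  rw [mul_inv_eq_one, mul_inv_eq_iff_eq_mul] at h3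
  exact h3

/-- A group of characteristic 2 has no components. -/
theorem no_component_of_ct (h : IsOfCharacteristicTwo H) (K : Subgroup H) : ¬ IsComponent K := by
  intro hK
  have hQn : (pCore 2 H).Normal := Lib.Cores.pCore_normal 2
  have hQ2 : IsPGroup 2 ↥(pCore 2 H) := Lib.Cores.pCore_isPGroup 2
  have : Fact (Nat.Prime 2) := ⟨Nat.prime_two⟩
  have hnil := hQ2.isNilpotent
  have hs : Group.IsSolvable ↥(pCore 2 H) := inferInstance
  have h1 : K ≤ normalizer ((pCore 2 H : Subgroup H) : Set H) := by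
    rw [normalizer_eq_top_iff.2 hQn]
    exact le_top
  have h2 := SignalizersComponents.Components.component_commutator_solvable hK h1 hs
  rw [commutator_eq_bot_iff_le_centralizer] at h2
  have h3 : K ≤ pCore 2 H := h2.trans h
  apply SignalizersComponents.Components.quasisimple_not_isSolvable hK.2
  exact Group.isSolvable_of_isSolvable_injective (f := inclusion h3) (inclusion_injective h3)

end fix

/-! ### Involutions modulo a normal subgroup of odd order -/

section quot

variable {X : Type u} [Group X] [Finite X] {O : Subgroup X} [O.Normal]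

theorem exists_lift_invo (hO : Odd (Nat.card ↥O)) {v : X ⧸ O} (hv : orderOf v = 2) :
    ∃ u : X, orderOf u = 2 ∧ (QuotientGroup.mk u : X ⧸ O) = v := by
  obtain ⟨w, rfl⟩ := QuotientGroup.mk_surjective v
  have h1 : w ^ 2 ∈ O := by
    rw [← QuotientGroup.eq_one_iff, QuotientGroup.mk_pow, ← hv, pow_orderOf_eq_one]
  have h2 : (w ^ 2) ^ Nat.card ↥O = 1 := by
    have := pow_card_eq_one' (x := (⟨w ^ 2, h1⟩ : ↥O))
    exact congrArg Subtype.val this
  have hmk : (QuotientGroup.mk (w ^ Nat.card ↥O) : X ⧸ O) = QuotientGroup.mk w := by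
    obtain ⟨k, hk⟩ := hO
    have h3 : (QuotientGroup.mk w : X ⧸ O) ^ 2 = 1 := by rw [← hv, pow_orderOf_eq_one]
    rw [QuotientGroup.mk_pow, hk, pow_succ, pow_mul, h3, one_pow, one_mul]
  refine ⟨w ^ Nat.card ↥O, ?_, hmk⟩
  refine orderOf_eq_prime ?_ ?_
  · rw [← pow_mul, mul_comm, pow_mul, h2]
  · intro h3
    rw [h3, QuotientGroup.mk_one] at hmk
    rw [← hmk, orderOf_one] at hv
    omega

/-- Elements commuting with the involution `u` modulo `O`. -/
theorem exists_comm_lift (hO : Odd (Nat.card ↥O)) {u : X} (hu : u * u = 1) {c : X}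
    (hc : (QuotientGroup.mk c : X ⧸ O) * QuotientGroup.mk u = QuotientGroup.mk u * QuotientGroup.mk c) :
    ∃ y ∈ O, (y * c) * u = u * (y * c) := by
  -- `c u c⁻¹ = u o`
  obtain ⟨o, ho⟩ : ∃ o, o = u * (c * u * c⁻¹) := ⟨_, rfl⟩
  have hoO : o ∈ O := by
    rw [← QuotientGroup.eq_one_iff, ho]
    change (QuotientGroup.mk u : X ⧸ O) * (QuotientGroup.mk c * QuotientGroup.mk u * (QuotientGroup.mk c)⁻¹) = 1
    rw [hc, mul_inv_cancel_right, ← QuotientGroup.mk_mul, hu, QuotientGroup.mk_one]
  have hcu : c * u * c⁻¹ = u * o := by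
    rw [ho, ← mul_assoc, hu, one_mul]
  have hinv : u * o * u = o⁻¹ := by
    have h1 : (c * u * c⁻¹) * (c * u * c⁻¹) = 1 := by
      calc (c * u * c⁻¹) * (c * u * c⁻¹) = c * (u * u) * c⁻¹ := by group
        _ = 1 := by rw [hu]; group
    rw [hcu] at h1
    exact eq_inv_of_mul_eq_one_left (by rw [← h1]; group)
  have hui : u⁻¹ = u := inv_eq_of_mul_eq_one_left hu
  have hpow : ∀ n : ℕ, u * o ^ n * u = (o ^ n)⁻¹ := by
    intro n
    calc u * o ^ n * u = u * o ^ n * u⁻¹ := by rw [hui]
      _ = (u * o * u⁻¹) ^ n := by rw [conj_pow]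
      _ = (o⁻¹) ^ n := by rw [hui, hinv]
      _ = (o ^ n)⁻¹ := inv_pow o n
  have hoo : Odd (orderOf o) := by
    have : orderOf o ∣ Nat.card ↥O := by
      have := orderOf_dvd_natCard (⟨o, hoO⟩ : ↥O)
      rwa [Subgroup.orderOf_mk] at this
    exact hO.of_dvd_nat this
  obtain ⟨k, hk⟩ := hoo
  -- `y = o ^ (k + 1)`, `y² = o`
  have hy2 : o ^ (k + 1) * o ^ (k + 1) = o := by
    rw [← pow_add]
    have e : k + 1 + (k + 1) = orderOf o + 1 := by omega
    rw [e, pow_succ, pow_orderOf_eq_one, one_mul]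
  refine ⟨o ^ (k + 1), O.pow_mem hoO _, ?_⟩
  have h1 : c * u = u * o * c := by
    rw [← hcu]; group
  have h2 : o ^ (k + 1) * u = u * (o ^ (k + 1))⁻¹ := by
    rw [← hpow (k + 1), ← mul_assoc, ← mul_assoc, hu, one_mul]
  calc o ^ (k + 1) * c * u = o ^ (k + 1) * (c * u) := by group
    _ = (o ^ (k + 1) * u) * o * c := by rw [h1]; group
    _ = u * ((o ^ (k + 1))⁻¹ * o) * c := by rw [h2]; group
    _ = u * ((o ^ (k + 1))⁻¹ * (o ^ (k + 1) * o ^ (k + 1))) * c := by rw [hy2]
    _ = u * (o ^ (k + 1) * c) := by group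

/-- `C_X(u) ≅ C_{X / O}(u O)` if `C_O(u) = 1`. -/
theorem cent_equiv (hO : Odd (Nat.card ↥O)) {u : X} (hu : u * u = 1) (h1 : ∀ o ∈ O, o * u = u * o → o = 1) :
    ∃ e : ↥(centralizer ({u} : Set X)) ≃* ↥(centralizer ({(QuotientGroup.mk u : X ⧸ O)} : Set (X ⧸ O))),
      ∀ c, ((e c : ↥(centralizer ({(QuotientGroup.mk u : X ⧸ O)} : Set (X ⧸ O)))) : X ⧸ O) =
        QuotientGroup.mk (c : X) := by
  let f : ↥(centralizer ({u} : Set X)) →* ↥(centralizer ({(QuotientGroup.mk u : X ⧸ O)} : Set (X ⧸ O))) :=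
    { toFun := fun c => ⟨QuotientGroup.mk (c : X), by
        rw [mem_centralizer_singleton_iff, ← QuotientGroup.mk_mul, ← QuotientGroup.mk_mul,
          mem_centralizer_singleton_iff.1 c.2]⟩
      map_one' := rfl
      map_mul' := fun a b => rfl }
  refine ⟨MulEquiv.ofBijective f ⟨?_, ?_⟩, fun c => rfl⟩
  · rw [injective_iff_map_eq_one]
    intro c hc
    have h2 : (QuotientGroup.mk (c : X) : X ⧸ O) = 1 := congrArg Subtype.val hc
    exact Subtype.ext (h1 c ((QuotientGroup.eq_one_iff _).1 h2) (mem_centralizer_singleton_iff.1 c.2))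
  · rintro ⟨c, hc⟩
    obtain ⟨c, rfl⟩ := QuotientGroup.mk_surjective c
    obtain ⟨y, hy, hyc⟩ := exists_comm_lift hO hu (mem_centralizer_singleton_iff.1 hc)
    refine ⟨⟨y * c, mem_centralizer_singleton_iff.2 hyc⟩, Subtype.ext ?_⟩
    change (QuotientGroup.mk (y * c) : X ⧸ O) = QuotientGroup.mk c
    rw [QuotientGroup.mk_mul, (QuotientGroup.eq_one_iff y).2 hy, one_mul]

omit [O.Normal] in
/-- `C_O(u) = 1` if `O(C_X(u)) = 1`. -/
theorem inf_of_core (hn : O.Normal) (hO : Odd (Nat.card ↥O)) {u : X}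
    (hc : pPrimeCore 2 ↥(centralizer ({u} : Set X)) = ⊥) (o : X) (ho : o ∈ O) (hou : o * u = u * o) : o = 1 := by
  have h1 : (O.subgroupOf (centralizer ({u} : Set X))).Normal := inferInstance
  have h2 : O.subgroupOf (centralizer ({u} : Set X)) ≤ pPrimeCore 2 ↥(centralizer ({u} : Set X)) := by
    refine Lib.Cores.le_pPrimeCore h1 ?_
    have h3 : Nat.card ↥(O.subgroupOf (centralizer ({u} : Set X))) ∣ Nat.card ↥O := by
      have h4 : Nat.card ↥(O.subgroupOf (centralizer ({u} : Set X))) =
          Nat.card ↥(O ⊓ centralizer ({u} : Set X) : Subgroup X) := by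
        rw [← card_map_of_injective (centralizer ({u} : Set X)).subtype_injective, subgroupOf_map_subtype]
      rw [h4]
      exact card_dvd_of_le inf_le_left
    exact Nat.Coprime.coprime_dvd_left h3 hO.coprime_two_right
  rw [hc] at h2
  have h3 := h2 (show (⟨o, mem_centralizer_singleton_iff.2 hou⟩ : ↥(centralizer ({u} : Set X))) ∈ _ from
    mem_subgroupOf.2 ho)
  exact congrArg Subtype.val (mem_bot.1 h3)

end quot

/-! ### The frame -/

section frame

variable {X : Type u} [Group X] [Finite X]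

theorem odd_core : Odd (Nat.card ↥(pPrimeCore 2 X)) := Nat.coprime_two_right.1 (Lib.Cores.pPrimeCore_coprime 2)

/-- **The frame.** -/
theorem frame (hloc : ∀ u : X, orderOf u = 2 → pPrimeCore 2 ↥(centralizer ({u} : Set X)) = ⊥)
    (L : Subgroup (X ⧸ pPrimeCore 2 X)) (hL : IsComponent L) :
    (∃ (u : X) (K : Subgroup X), orderOf u = 2 ∧ IsComponentOf K (centralizer ({u} : Set X)) ∧
      Nonempty (↥K ≃* ↥L)) ∨
    (IsSimpleGroup ↥L ∧ L.Normal ∧ centralizer (L : Set (X ⧸ pPrimeCore 2 X)) = ⊥ ∧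
      ∀ v ∈ L, orderOf v = 2 → ∃ (u : X)
        (e : ↥(centralizer ({u} : Set X)) ≃* ↥(centralizer ({v} : Set (X ⧸ pPrimeCore 2 X)))), orderOf u = 2 ∧
        (QuotientGroup.mk u : X ⧸ pPrimeCore 2 X) = v ∧ ∀ c, ((e c : ↥(centralizer ({v} : Set (X ⧸ pPrimeCore 2 X)))) : X ⧸ pPrimeCore 2 X) =
          QuotientGroup.mk (c : X)) := by
  have hOn : (pPrimeCore 2 X).Normal := Lib.Cores.pPrimeCore_normal 2
  -- involutions come from `X`
  have hinv : ∀ v : X ⧸ pPrimeCore 2 X, orderOf v = 2 → ∃ (u : X)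
      (e : ↥(centralizer ({u} : Set X)) ≃* ↥(centralizer ({v} : Set (X ⧸ pPrimeCore 2 X)))), orderOf u = 2 ∧
      (QuotientGroup.mk u : X ⧸ pPrimeCore 2 X) = v ∧ ∀ c, ((e c : ↥(centralizer ({v} : Set (X ⧸ pPrimeCore 2 X)))) : X ⧸ pPrimeCore 2 X) =
        QuotientGroup.mk (c : X) := by
    intro v hv
    obtain ⟨u, hu, rfl⟩ := exists_lift_invo odd_core hv
    have huu : u * u = 1 := by rw [← pow_two, ← hu, pow_orderOf_eq_one]
    obtain ⟨e, he⟩ := cent_equiv odd_core huu (inf_of_core hOn odd_core (hloc u hu))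
    exact ⟨u, e, hu, rfl, he⟩
  by_cases h : ∃ v ∈ centralizer (L : Set (X ⧸ pPrimeCore 2 X)), orderOf v = 2
  · left
    obtain ⟨v, hvL, hv⟩ := h
    obtain ⟨u, e, hu, -, he⟩ := hinv v hv
    have hLv : L ≤ centralizer ({v} : Set (X ⧸ pPrimeCore 2 X)) := by
      intro l hl
      rw [mem_centralizer_singleton_iff]
      exact mem_centralizer_iff.1 hvL l hl
    have h1 := SignalizersComponents.Components.isComponent_subgroupOf hLv hL
    have h2 := SignalizersComponents.Components.isComponent_map_equiv e.symm h1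
    let K' : Subgroup ↥(centralizer ({u} : Set X)) := (L.subgroupOf (centralizer {v})).map e.symm.toMonoidHom
    refine ⟨u, K'.map (centralizer ({u} : Set X)).subtype, hu, ⟨map_subtype_le _, ?_⟩, ⟨?_⟩⟩
    · have h3 : (K'.map (centralizer ({u} : Set X)).subtype).subgroupOf (centralizer ({u} : Set X)) = K' := by
        rw [subgroupOf, comap_map_eq_self_of_injective (subtype_injective _)]
      rw [h3]
      exact h2
    · exact (K'.equivMapOfInjective _ (subtype_injective _)).symm.trans
        (((L.subgroupOf (centralizer {v})).equivMapOfInjective _ e.symm.injective).symm.trans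
          (subgroupOfEquivOfLe hLv))
  · right
    have hodd : Odd (Nat.card ↥(centralizer (L : Set (X ⧸ pPrimeCore 2 X)))) := by
      rw [← Nat.not_even_iff_odd]
      intro hev
      have : Fact (Nat.Prime 2) := ⟨Nat.prime_two⟩
      obtain ⟨v, hv⟩ := exists_prime_orderOf_dvd_card' 2 hev.two_dvd
      exact h ⟨v, v.2, by rw [Subgroup.orderOf_coe, hv]⟩
    have hLn : L.Normal := by
      constructor
      intro l hl g
      by_contra hne
      have h1 := SignalizersComponents.Components.isComponent_conj g hL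
      have h2 : L.map (MulAut.conj g).toMonoidHom ≠ L := by
        intro h3
        apply hne
        rw [← h3]
        exact ⟨l, hl, rfl⟩
      have h3 := SignalizersComponents.Components.component_le_centralizer_of_ne h1 hL h2
      have h4 : 2 ∣ Nat.card ↥(L.map (MulAut.conj g).toMonoidHom) := dvd_card_comp Nat.prime_two _ h1
      have h5 := h4.trans (card_dvd_of_le h3)
      exact (Nat.not_even_iff_odd.2 hodd) (even_iff_two_dvd.2 h5)
    have hC : centralizer (L : Set (X ⧸ pPrimeCore 2 X)) = ⊥ := by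
      have h1 : (centralizer (L : Set (X ⧸ pPrimeCore 2 X))).Normal := normal_centralizer
      have h2 := Lib.Cores.le_pPrimeCore (p := 2) h1 hodd.coprime_two_right
      rwa [Lib.Cores.pPrimeCore_quotient_pPrimeCore 2, le_bot_iff] at h2
    have hZ : center ↥L = ⊥ := by
      rw [eq_bot_iff]
      intro z hz
      have h1 : (z : X ⧸ pPrimeCore 2 X) ∈ centralizer (L : Set (X ⧸ pPrimeCore 2 X)) := by
        rw [mem_centralizer_iff]
        intro l hl
        exact congrArg Subtype.val (mem_center_iff.1 hz ⟨l, hl⟩)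
      rw [hC, mem_bot] at h1
      exact Subtype.ext h1
    have hs : IsSimpleGroup ↥L := by
      have h1 := hL.2.2
      exact ((QuotientGroup.quotientMulEquivOfEq hZ).trans QuotientGroup.quotientBot).symm.isSimpleGroup
    exact ⟨hs, hLn, hC, fun v _ hv => hinv v hv⟩

/-- The table "a known simple group in which the centralizers of the involutions are of characteristic 2 is on the
`C₂` list". -/
def Table : Prop :=
  ∀ (S : Type u) [Group S] [Finite S] [IsSimpleGroup S], ¬ IsMulCommutative S → IsKnownSimple' S →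
    (∀ v : S, orderOf v = 2 → IsOfCharacteristicTwo ↥(centralizer ({v} : Set S))) → IsCpSimple 2 S

/-- **The frame with `S0000` and the table.** The components of the involution centralizers of `X` are good, and no
simple group outside the `C₂` list has, for an involution `v`, a centralizer isomorphic to a normal subgroup `N ∋ u` of
`C_X(u)`, not of characteristic 2. -/
theorem comps_two (hS : AllKnown.{u}) (hT : Table.{u})
    (hcore : ∀ u : X, orderOf u = 2 → pPrimeCore 2 ↥(centralizer ({u} : Set X)) = ⊥)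
    (hcomp : ∀ (u : X) (K : Subgroup X), orderOf u = 2 → IsComponentOf K (centralizer ({u} : Set X)) →
      CTwoTab.Good ↥K)
    (hexc : ∀ (S : Type u) [Group S] [Finite S] [IsSimpleGroup S], ¬ IsMulCommutative S → IsKnownSimple' S →
      ¬ IsCpSimple 2 S → Nat.card S ∣ Nat.card X →
      ∀ v : S, orderOf v = 2 → ¬ IsOfCharacteristicTwo ↥(centralizer ({v} : Set S)) →
      ∀ (u : X) (N : Subgroup ↥(centralizer ({u} : Set X))), orderOf u = 2 →
        ¬ IsOfCharacteristicTwo ↥(centralizer ({u} : Set X)) → N.Normal →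
        (⟨u, mem_centralizer_singleton_iff.2 rfl⟩ : ↥(centralizer ({u} : Set X))) ∈ N →
        Nonempty (↥N ≃* ↥(centralizer ({v} : Set S))) → False) :
    Comps 2 X := by
  intro L hL
  have hLq := hL.2
  rcases frame hcore L hL with ⟨u, K, hu, hK, ⟨e⟩⟩ | ⟨hs, hLn, hC, hinv⟩
  · have hg := (hcomp u K hu hK).congr e
    have h2 := isPGroup_center_comp Nat.prime_two L hL
    exact ⟨hLq, h2, hg.1, hg.2⟩
  · have hna : ¬ IsMulCommutative ↥L := SignalizersComponents.Components.quasisimple_not_isMulCommutative hLq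
    by_cases hCp : IsCpSimple 2 ↥L
    · have hg := CTwoTab.good_of_simple hna hCp
      exact ⟨hLq, isPGroup_center_comp Nat.prime_two L hL, hg.1, hg.2⟩
    · exfalso
      have h1 : ∃ v : ↥L, orderOf v = 2 ∧ ¬ IsOfCharacteristicTwo ↥(centralizer ({v} : Set ↥L)) := by
        by_contra hcon
        push Not at hcon
        exact hCp (hT ↥L hna (hS ↥L) hcon)
      obtain ⟨v, hv, hvc⟩ := h1
      obtain ⟨u, e, hu, huv, he⟩ := hinv v v.2 (by rw [Subgroup.orderOf_coe, hv])
      -- the normal subgroup `C_L(v)` of `C(v)`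
      let M : Subgroup ↥(centralizer ({(v : X ⧸ pPrimeCore 2 X)} : Set (X ⧸ pPrimeCore 2 X))) :=
        L.subgroupOf (centralizer {(v : X ⧸ pPrimeCore 2 X)})
      have hMn : M.Normal := inferInstance
      let N : Subgroup ↥(centralizer ({u} : Set X)) := M.map e.symm.toMonoidHom
      have hNn : N.Normal := hMn.map _ e.symm.surjective
      let f : ↥M ≃* ↥(centralizer ({v} : Set ↥L)) :=
        { toFun := fun m => ⟨⟨m.1.1, m.2⟩, by
            rw [mem_centralizer_singleton_iff]
            exact Subtype.ext (mem_centralizer_singleton_iff.1 m.1.2)⟩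
          invFun := fun c => ⟨⟨c.1.1, by
            rw [mem_centralizer_singleton_iff]
            exact congrArg Subtype.val (mem_centralizer_singleton_iff.1 c.2)⟩, c.1.2⟩
          left_inv := fun m => rfl
          right_inv := fun c => rfl
          map_mul' := fun a b => rfl }
      let g : ↥N ≃* ↥(centralizer ({v} : Set ↥L)) :=
        (M.equivMapOfInjective e.symm.toMonoidHom e.symm.injective).symm.trans f
      have hNu : (⟨u, mem_centralizer_singleton_iff.2 rfl⟩ : ↥(centralizer ({u} : Set X))) ∈ N := by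
        refine ⟨e ⟨u, mem_centralizer_singleton_iff.2 rfl⟩, ?_, e.symm_apply_apply _⟩
        change _ ∈ M
        rw [mem_subgroupOf, he]
        change (QuotientGroup.mk u : X ⧸ pPrimeCore 2 X) ∈ L
        rw [huv]
        exact v.2
      have hNc : ¬ IsOfCharacteristicTwo ↥(centralizer ({u} : Set X)) := fun h => hvc (ct_congr g (ct_of_normal h N))
      refine hexc ↥L hna (hS ↥L) hCp ?_ v hv hvc u N hu hNc hNn hNu ⟨g⟩
      exact (card_subgroup_dvd_card L).trans (card_quotient_dvd_card (pPrimeCore 2 X))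

/-- All the centralizers of involutions of `X` are of characteristic 2. -/
theorem comps_of_ct (hS : AllKnown.{u}) (hT : Table.{u})
    (h : ∀ u : X, orderOf u = 2 → IsOfCharacteristicTwo ↥(centralizer ({u} : Set X))) : Comps 2 X := by
  refine comps_two hS hT (fun u hu => core_of_ct (h u hu))
    (fun u K hu hK => absurd hK.2 (no_component_of_ct (h u hu) _)) ?_
  intro S _ _ _ _ _ _ _ v _ _ u N hu hc
  exact absurd (h u hu) hc

/-- **The row of a group in which all the centralizers of involutions are of characteristic 2.** -/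
theorem autC_of_ct {K : Type u} [Group K] [Finite K] (hS : AllKnown.{u}) (hT : Table.{u})
    (h : ∀ u : K, orderOf u = 2 → IsOfCharacteristicTwo ↥(centralizer ({u} : Set K))) : AutC 2 K := by
  intro x hx
  have hxx : x * x = 1 := by rw [← pow_two, ← hx, pow_orderOf_eq_one]
  refine comps_of_ct hS hT fun u hu => ct_cent_fix hxx u (h u ?_)
  rw [Subgroup.orderOf_coe, hu]

end frame

end Cfsg.Agent.CpAut.TwoAbs
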