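import Mathlib
import Cfsg.Agent.CpAut.Base
import Cfsg.Agent.KFacts.RgdLieCharP
set_option linter.all false

/-!
# Groups of Lie type in characteristic `p`: no components in the centralisers of the elements of order `p`

* `comps_of_charP` : `C_H(O_p(H)) ≤ O_p(H)` implies `Comps p H`; `comps_of_normal_charP` : the same for the normal
  subgroups of such a group;
* `comps_cent` : `Comps p (C_G(x))` for `G` simple with a filtered root group datum of characteristic `p`, `x` of
  order `p`; `comps_conj` : the inner automorphisms.
-/

set_option autoImplicit false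

namespace Cfsg.Agent.CpAut.RgdNoComp

open Subgroup Cfsg
open Cfsg.Agent.LThree (Comps)

universe u

/-- a component centralises `O_p` -/
theorem comp_le_centralizer {H : Type u} [Group H] [Finite H] {p : ℕ} [Fact p.Prime] {L : Subgroup H}
    (hL : IsComponent L) : L ≤ centralizer (pCore p H : Set H) := by
  have hn : (pCore p H).Normal := Lib.Cores.pCore_normal p
  rw [← commutator_eq_bot_iff_le_centralizer]
  rcases SignalizersComponents.Components.component_le_or_commutator_eq_bot_of_le_normalizer hL
    (H := pCore p H) (by rw [Subgroup.normalizer_eq_top]; exact le_top) with h1 | h1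
  · exfalso
    apply SignalizersComponents.Components.quasisimple_not_isSolvable hL.2
    have h2 : IsPGroup p ↥L := (Lib.Cores.pCore_isPGroup p).to_le h1
    have : Group.IsNilpotent ↥L := h2.isNilpotent
    infer_instance
  · exact h1

/-- **no components if `C_H(O_p(H)) ≤ O_p(H)`** -/
theorem no_comp_of_charP {H : Type u} [Group H] [Finite H] {p : ℕ} [Fact p.Prime]
    (h : centralizer (pCore p H : Set H) ≤ pCore p H) {L : Subgroup H} (hL : IsComponent L) : False := by
  have h1 := (comp_le_centralizer (p := p) hL).trans h
  apply SignalizersComponents.Components.quasisimple_not_isSolvable hL.2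
  have h2 : IsPGroup p ↥L := (Lib.Cores.pCore_isPGroup p).to_le h1
  have : Group.IsNilpotent ↥L := h2.isNilpotent
  infer_instance

/-- `O_{p'}(H) = 1` if `C_H(O_p(H)) ≤ O_p(H)` -/
theorem core_of_charP {H : Type u} [Group H] [Finite H] {p : ℕ} [Fact p.Prime]
    (h : centralizer (pCore p H : Set H) ≤ pCore p H) : pPrimeCore p H = ⊥ := by
  have hn : (pCore p H).Normal := Lib.Cores.pCore_normal p
  have hn' : (pPrimeCore p H).Normal := Lib.Cores.pPrimeCore_normal p
  have hdis : pCore p H ⊓ pPrimeCore p H = ⊥ := Lib.Cores.pCore_inf_pPrimeCore p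
  have h1 : pPrimeCore p H ≤ centralizer (pCore p H : Set H) := by
    rw [← commutator_eq_bot_iff_le_centralizer, eq_bot_iff, ← hdis]
    exact le_inf (commutator_le_right _ _) (commutator_le_left _ _)
  have h2 : pPrimeCore p H ≤ pCore p H ⊓ pPrimeCore p H := le_inf (h1.trans h) le_rfl
  rw [hdis] at h2
  exact le_bot_iff.1 h2

/-- **a normal subgroup `N` of a group `H` of characteristic `p` has no components modulo `O_{p'}`** -/
theorem comps_of_normal_charP {H : Type u} [Group H] [Finite H] {p : ℕ} [Fact p.Prime]
    (h : centralizer (pCore p H : Set H) ≤ pCore p H) (N : Subgroup H) [hN : N.Normal] : Comps p ↥N := by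
  intro K hK
  exfalso
  have h1 : pPrimeCore p ↥N = ⊥ := by
    have h2 := Lib.Cores.map_subtype_pPrimeCore p hN
    rw [core_of_charP h, inf_bot_eq] at h2
    exact (map_eq_bot_iff_of_injective _ N.subtype_injective).1 h2
  let e : ↥N ⧸ pPrimeCore p ↥N ≃* ↥N := (QuotientGroup.quotientMulEquivOfEq h1).trans QuotientGroup.quotientBot
  exact no_comp_of_charP h (SignalizersComponents.Components.isComponent_map_subtype hN.isSubnormal
    (LThree.isComponent_map e hK))

/-- **`H` of characteristic `p` has no components modulo `O_{p'}`** -/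
theorem comps_of_charP {H : Type u} [Group H] [Finite H] {p : ℕ} [Fact p.Prime]
    (h : centralizer (pCore p H : Set H) ≤ pCore p H) : Comps p H :=
  (comps_of_normal_charP h (⊤ : Subgroup H)).congr Subgroup.topEquiv

variable {G : Type u} [Group G] [Finite G] [IsSimpleGroup G] {p : ℕ} [Fact p.Prime]

/-- **the centraliser of an element of order `p`** -/
theorem comps_cent (hG : KFacts.RgdFilt.HasFilt p G) (hc : ∃ a b : G, a * b ≠ b * a) {x : G} (hx : orderOf x = p) :
    Comps p ↥(centralizer ({x} : Set G)) := by
  have hp : p.Prime := Fact.out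
  have hK : IsPGroup p (zpowers x) := by
    rw [IsPGroup.iff_card]
    exact ⟨1, by rw [Nat.card_zpowers, hx, pow_one]⟩
  have hK1 : zpowers x ≠ ⊥ := by
    rw [Ne, zpowers_eq_bot]
    rintro rfl
    rw [orderOf_one] at hx
    exact hp.one_lt.ne hx
  have hch := hG.local_char hc hK hK1
  have he : centralizer ({x} : Set G) = centralizer (zpowers x : Set G) := by
    apply le_antisymm
    · rw [le_centralizer_iff, zpowers_le]
      intro y hy
      exact ((mem_centralizer_singleton_iff).1 hy)
    · exact centralizer_le (Set.singleton_subset_iff.2 (mem_zpowers x))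
  have h1 := comps_of_normal_charP hch
    ((centralizer (zpowers x : Set G)).subgroupOf (Subgroup.normalizer (zpowers x : Set G)))
  rw [he]
  exact h1.congr (Subgroup.subgroupOfEquivOfLe (centralizer_le_normalizer _))

/-- inner automorphisms of order `p` -/
theorem comps_conj (hG : KFacts.RgdFilt.HasFilt p G) (hc : ∃ a b : G, a * b ≠ b * a) {x : G}
    (hx : orderOf (MulAut.conj x) = p) : Comps p ↥(fixedSubgroup (MulAut.conj x)) := by
  rw [orderOf_conj (KFacts.RgdLieCharP.center_eq_bot hc)] at hx
  rw [fixedSubgroup_conj]
  exact comps_cent hG hc hx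

end Cfsg.Agent.CpAut.RgdNoComp
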