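import Mathlib
import Cfsg.Agent.CpAut.Base
set_option linter.all false

/-!
# Components of `H / O_{p'}(H)` for groups with a normal `C_p`-subgroup of index prime to `p`

* `comp_equiv` : `N` normal in `H` of index prime to `p`, `N` quasisimple, `Z(N)` a `p`-group: the components of
  `H / O_{p'}(H)` are isomorphic to `N`;
* `comps_of_normal_coprime`, `compsCT_of_normal_coprime`.
-/

set_option autoImplicit false

namespace Cfsg.Agent.CpAut.RgdComps

open Subgroup Cfsg
open Cfsg.Agent.LThree (Comps)

universe u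

variable {H : Type u} [Group H] [Finite H] {p : ℕ}

/-- a component of `H / O_{p'}(H)` lies in the image of every normal subgroup of index prime to `p` -/
theorem comp_le_map (hp : p.Prime) (N : Subgroup H) [N.Normal] (hc : ¬ p ∣ N.index)
    (K : Subgroup (H ⧸ pPrimeCore p H)) (hK : IsComponent K) :
    K ≤ N.map (QuotientGroup.mk' (pPrimeCore p H) : H →* H ⧸ pPrimeCore p H) := by
  have hO := Lib.Cores.pPrimeCore_normal (G := H) p
  have : Fact p.Prime := ⟨hp⟩
  have hπ : Function.Surjective (QuotientGroup.mk' (pPrimeCore p H) : H →* H ⧸ pPrimeCore p H) :=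
    QuotientGroup.mk'_surjective _
  have hNn : (N.map (QuotientGroup.mk' (pPrimeCore p H) : H →* H ⧸ pPrimeCore p H)).Normal :=
    Subgroup.Normal.map inferInstance _ hπ
  rcases SignalizersComponents.Components.component_le_or_commutator_eq_bot_of_le_normalizer hK
    (H := N.map (QuotientGroup.mk' (pPrimeCore p H) : H →* H ⧸ pPrimeCore p H))
    (by rw [Subgroup.normalizer_eq_top]; exact le_top) with h1 | h1
  · exact h1
  · exfalso
    obtain ⟨P⟩ : Nonempty (Sylow p ↥K) := inferInstance
    refine SignalizersComponents.CompBasic.sylow_not_le_center_of_perfect hK.2.1 p (dvd_card_comp hp K hK) P ?_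
    intro x hx
    have hidx : ¬ p ∣ (N.map (QuotientGroup.mk' (pPrimeCore p H) : H →* H ⧸ pPrimeCore p H)).index :=
      fun h2 => hc (h2.trans (Subgroup.index_map_dvd _ hπ))
    -- `x ∈ π(N)`
    have hxN : (x : H ⧸ pPrimeCore p H) ∈ N.map (QuotientGroup.mk' (pPrimeCore p H) : H →* H ⧸ pPrimeCore p H) := by
      obtain ⟨m, hm⟩ := P.2 ⟨x, hx⟩
      have h2 : (x : H ⧸ pPrimeCore p H) ^ p ^ m = 1 := by
        have := congrArg (fun y : ↥(P : Subgroup ↥K) => ((y : ↥K) : H ⧸ pPrimeCore p H)) hm
        simpa using this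
      rw [← QuotientGroup.eq_one_iff]
      have h3 : (QuotientGroup.mk (x : H ⧸ pPrimeCore p H) :
          (H ⧸ pPrimeCore p H) ⧸ N.map (QuotientGroup.mk' (pPrimeCore p H))) ^ p ^ m = 1 := by
        rw [← QuotientGroup.mk_pow, h2, QuotientGroup.mk_one]
      have h4 := orderOf_dvd_of_pow_eq_one h3
      have h5 := orderOf_dvd_natCard (QuotientGroup.mk (x : H ⧸ pPrimeCore p H) :
          (H ⧸ pPrimeCore p H) ⧸ N.map (QuotientGroup.mk' (pPrimeCore p H)))
      rw [← Subgroup.index_eq_card] at h5
      have h6 : (p ^ m).Coprime (N.map (QuotientGroup.mk' (pPrimeCore p H) : H →* H ⧸ pPrimeCore p H)).index :=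
        Nat.Coprime.pow_left m (hp.coprime_iff_not_dvd.2 hidx)
      exact orderOf_eq_one_iff.1 (Nat.eq_one_of_dvd_coprimes h6 h4 h5)
    rw [mem_center_iff]
    intro y
    have h2 := Subgroup.commutator_mem_commutator y.2 hxN
    rw [h1, mem_bot, commutatorElement_eq_one_iff_mul_comm] at h2
    exact Subtype.ext h2

theorem comp_equiv (hp : p.Prime) (N : Subgroup H) [N.Normal] (hc : ¬ p ∣ N.index) (hN : IsQuasisimple ↥N)
    (hZ : IsPGroup p ↥(center ↥N)) (K : Subgroup (H ⧸ pPrimeCore p H))
    (hK : IsComponent K) : Nonempty (↥N ≃* ↥K) := by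
  have hO := Lib.Cores.pPrimeCore_normal (G := H) p
  have : Fact p.Prime := ⟨hp⟩
  let π : H →* H ⧸ pPrimeCore p H := QuotientGroup.mk' (pPrimeCore p H)
  have hπ : Function.Surjective π := QuotientGroup.mk'_surjective _
  have hKN : K ≤ N.map π := comp_le_map hp N hc K hK
  have hKne : K ≠ ⊥ := SignalizersComponents.Components.component_ne_bot hK
  have hinf : N ⊓ pPrimeCore p H = ⊥ := by
    have h1 : ((pPrimeCore p H).subgroupOf N).Normal := inferInstance
    rcases SignalizersComponents.Components.quasisimple_subnormal hN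
      (N := (pPrimeCore p H).subgroupOf N) h1.isSubnormal with h2 | h2
    · exfalso
      apply hKne
      rw [eq_bot_iff]
      refine hKN.trans ?_
      rw [le_bot_iff, Subgroup.map_eq_bot_iff, QuotientGroup.ker_mk']
      exact subgroupOf_eq_top.1 h2
    · have h3 : IsPGroup p ↥((pPrimeCore p H).subgroupOf N) := hZ.to_le h2
      have h4 : (Nat.card ↥((pPrimeCore p H).subgroupOf N)).Coprime p := by
        have h5 : Nat.card ↥((pPrimeCore p H).subgroupOf N) ∣ Nat.card ↥(pPrimeCore p H) := by
          rw [Nat.card_congr (((pPrimeCore p H).subgroupOf N).equivMapOfInjective N.subtype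
            N.subtype_injective).toEquiv]
          apply card_dvd_of_le
          rintro _ ⟨x, hx, rfl⟩
          exact hx
        exact Nat.Coprime.coprime_dvd_left h5 (Lib.Cores.pPrimeCore_coprime p)
      have h6 : Nat.card ↥((pPrimeCore p H).subgroupOf N) = 1 := by
        obtain ⟨m, hm⟩ := IsPGroup.iff_card.1 h3
        rw [hm] at h4 ⊢
        rcases Nat.eq_zero_or_pos m with h0 | h0
        · rw [h0, pow_zero]
        · exfalso
          have := (Nat.coprime_pow_left_iff h0 p p).1 h4
          rw [Nat.coprime_self] at this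
          exact hp.one_lt.ne' this
      have h7 := Subgroup.card_eq_one.1 h6
      rw [eq_bot_iff]
      rintro x ⟨hx1, hx2⟩
      have h8 : (⟨x, hx1⟩ : ↥N) ∈ (pPrimeCore p H).subgroupOf N := hx2
      rw [h7, mem_bot] at h8
      exact congrArg Subtype.val h8
  let f : ↥N →* H ⧸ pPrimeCore p H := π.comp N.subtype
  have hf : Function.Injective f := by
    rw [injective_iff_map_eq_one]
    intro x hx
    have h1 : (x : H) ∈ pPrimeCore p H := (QuotientGroup.eq_one_iff _).1 hx
    have h2 : (x : H) ∈ N ⊓ pPrimeCore p H := ⟨x.2, h1⟩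
    rw [hinf, mem_bot] at h2
    exact Subtype.ext h2
  have hr : f.range = N.map π := by
    rw [MonoidHom.range_comp, range_subtype]
  let e : ↥N ≃* ↥(N.map π) := (MonoidHom.ofInjective hf).trans (MulEquiv.subgroupCongr hr)
  have hq : IsQuasisimple ↥(N.map π) := SignalizersComponents.Components.isQuasisimple_of_mulEquiv e hN
  have hKeq : K = N.map π := by
    have h1 : (K.subgroupOf (N.map π)).IsSubnormal := by
      have h2 := hK.1.comap (N.map π).subtype
      exact h2
    rcases SignalizersComponents.Components.quasisimple_subnormal hq h1 with h2 | h2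
    · exact le_antisymm hKN (subgroupOf_eq_top.1 h2)
    · exfalso
      apply SignalizersComponents.Components.quasisimple_not_isMulCommutative hK.2
      refine ⟨⟨fun a b => ?_⟩⟩
      have ha : (⟨a, hKN a.2⟩ : ↥(N.map π)) ∈ center ↥(N.map π) := h2 (mem_subgroupOf.2 a.2)
      have := mem_center_iff.1 ha ⟨b, hKN b.2⟩
      exact Subtype.ext (congrArg Subtype.val this).symm
  exact ⟨e.trans (MulEquiv.subgroupCongr hKeq.symm)⟩

/-- a normal `C_p`-subgroup of index prime to `p` -/
theorem comps_of_normal_coprime (hp : p.Prime) (N : Subgroup H) [N.Normal] (hc : ¬ p ∣ N.index)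
    (hN : InC p ↥N) : Comps p H := by
  intro K hK
  obtain ⟨e⟩ := comp_equiv hp N hc hN.1 hN.2.1 K hK
  exact (CpQuot.Congr.inC_iff e p).1 hN

theorem compsCT_of_normal_coprime (hp : p.Prime) (N : Subgroup H) [N.Normal] (hc : ¬ p ∣ N.index)
    (hN : InCT p ↥N) : CompsCT p H := by
  intro K hK
  have h1 : IsQuasisimple ↥N ∧ IsPGroup p ↥(center ↥N) := by
    rcases hN with h | h
    · exact ⟨h.1, h.2.1⟩
    · exact ⟨h.1, h.2.1⟩
  obtain ⟨e⟩ := comp_equiv hp N hc h1.1 h1.2 K hK
  exact (inCT_iff e p).1 hN

/-- no component at all if `H` has a solvable normal subgroup of index prime to `p` -/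
theorem comps_of_solvable_coprime (hp : p.Prime) (N : Subgroup H) [N.Normal] (hc : ¬ p ∣ N.index)
    (hN : Group.IsSolvable ↥N) : Comps p H := by
  intro K hK
  exfalso
  have h1 := comp_le_map hp N hc K hK
  apply SignalizersComponents.Components.quasisimple_not_isSolvable hK.2
  have h2 : Group.IsSolvable ↥(N.map (QuotientGroup.mk' (pPrimeCore p H) : H →* H ⧸ pPrimeCore p H)) :=
    Group.isSolvable_of_surjective ((QuotientGroup.mk' (pPrimeCore p H)).subgroupMap_surjective N)
  exact Group.isSolvable_of_isSolvable_injective (f := Subgroup.inclusion h1) (Subgroup.inclusion_injective h1)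

end Cfsg.Agent.CpAut.RgdComps
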