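import Mathlib
import Cfsg.Agent.CpAut.RgdTwStd
import Cfsg.Agent.CpAut.RgdNoComp
import Cfsg.Agent.KFacts.TwESix.OutTwo
import Cfsg.Agent.KFacts.RgdFiltTwAll
import Cfsg.Agent.S1070
set_option linter.all false

/-!
# S1814: `²E₆(q)` in odd characteristic `p`

* `map_DD` : the fixed points on the root groups of a standard field automorphism `τ` generate `²E₆` over the fixed
  field;
* `autC_twistedE6` : `AutC p ²E₆(q)`.
-/

set_option autoImplicit false
set_option linter.unusedSectionVars false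
set_option maxHeartbeats 400000

namespace Cfsg.Agent.CpAut.RgdTwE6

open CoxeterSystem Cfsg.Agent.ChevalleyStructure.CoxeterGeom Cfsg.Agent.Tits.Roots Cfsg.Agent.Tits.Core
  Cfsg.Agent.Tits.Exchange Cfsg.Agent.Nodes.Reps Cfsg.Agent.Nodes.BNOf Cfsg.Agent.Nodes.StabComb
  Cfsg.Agent.Nodes.Bruhat Cfsg.Agent.Nodes.OppDec Cfsg.Agent.Nodes.RGDTwGen Cfsg.Agent.Nodes.RGDChev
  Cfsg.Agent.Nodes.RGDFold Cfsg.Agent.Nodes.RGDFoldSL
open Cfsg.Agent.KFacts.RgdOpp Cfsg.Agent.KFacts.RgdAut Cfsg.Agent.KFacts.RgdDiag Cfsg.Agent.KFacts.RgdRigid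
  Cfsg.Agent.KFacts.RgdField Cfsg.Agent.KFacts.RgdTau Cfsg.Agent.KFacts.RgdNodes
open Cfsg.Lie Cfsg.Agent.ChevalleyStructure Cfsg.Agent.ChevalleyStructure.Elts Cfsg.Agent.ChevStructure.FieldMap
open Cfsg.Agent.ChevalleyStructure.SL2Hom (up lo)
open Cfsg.Agent.KFacts.TwESix.NodeCoord Cfsg.Agent.KFacts.TwESix.Out Cfsg.Agent.KFacts.TwESix.OutTwo
open Cfsg.Agent.Nodes.RGDTwE6 Cfsg.Agent.Nodes.RGDTwNode.E6
open Cfsg.Agent.ChevalleyStructure.TwE6Basic (hE6 single_mem pair_mem twisted_le_iff exists_frob)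
open Cfsg.Agent.CpAut.RgdFix Cfsg.Agent.CpAut.RgdCoh Cfsg.Agent.CpAut.RgdConj Cfsg.Agent.CpAut.RgdSub
  Cfsg.Agent.CpAut.RgdTwStd
open Cfsg.Agent.LThree (Comps)

universe u

section Words

variable {K : Type u} [Field K] (τ : K ≃+* K) (q : ℕ)

theorem le_comap : twistedE6 K q ≤ (twistedE6 K q).comap (glEquiv chevE6 τ).toMonoidHom := by
  rw [twisted_le_iff]
  refine ⟨fun t ht r hr => ?_, fun t rs hr => ?_⟩
  · show glEquiv chevE6 τ (xG hE6 r t) ∈ twistedE6 K q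
    rw [glE_xG]
    exact single_mem (by rw [← map_pow, ht]) hr
  · show glEquiv chevE6 τ (xG hE6 rs.1 t * xG hE6 rs.2 (t ^ q)) ∈ twistedE6 K q
    rw [map_mul, glE_xG, glE_xG, map_pow]
    exact pair_mem (τ t) hr

theorem map_tw : (twistedE6 K q).map (glEquiv chevE6 τ).toMonoidHom = twistedE6 K q := by
  refine le_antisymm (Subgroup.map_le_iff_le_comap.2 (le_comap τ q)) fun g hg => ?_
  refine ⟨glEquiv chevE6 τ⁻¹ g, le_comap τ⁻¹ q hg, ?_⟩
  show glEquiv chevE6 τ (glEquiv chevE6 τ⁻¹ g) = g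
  rw [← glE_mul, mul_inv_cancel, glE_one]

theorem tw_congr {q q' : ℕ} (h : ∀ t : K, t ^ q = t ^ q') : twistedE6 K q = twistedE6 K q' := by
  have h1 : e6Words K q = e6Words K q' := by
    unfold e6Words
    simp only [h]
  unfold twistedE6
  rw [h1]

end Words

section Std

variable {K : Type u} [Field K] [Fintype K] {q : ℕ} {φ : K →+* K} (hφ : ∀ x, φ x = x ^ q)
  (hqq : ∀ t : K, (t ^ q) ^ q = t) (τ : K ≃+* K)

include hφ in
theorem tau_phi (a : K) : τ (φ a) = φ (τ a) := by rw [hφ, hφ, map_pow]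

variable (q) in
/-- the standard field automorphism -/
noncomputable def st : MulAut ↥(twistedE6 K q) := fldG τ (map_tw τ q)

/-- the restriction of the field automorphism to the coordinate field of a node -/
noncomputable def rs (i : Fin 4) : KF φ i ≃+* KF φ i := res (KF φ i) τ (mem_Fx_iff (tau_phi hφ τ) _)

theorem st_up (i : Fin 4) (a : KF φ i) :
    st q τ (PhiE hφ hqq i (up a)) = PhiE hφ hqq i (up (rs hφ τ i a)) :=
  fldG_up (foldGrp hφ hqq) (nodeOK i) (hf i) (tau_phi hφ τ) (map_tw τ q) a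

theorem st_n (i : Fin 4) : st q τ (nn hφ i) = nn hφ i := fldG_nI (map_tw τ q) i _

theorem st_pow {k : ℕ} (hk : τ ^ k = 1) : st q τ ^ k = 1 := fldG_pow τ (map_tw τ q) hk

theorem st_T : Fix (st q τ) (T K q) := fix_T (map_tw τ q) hE6

variable {W : Type*} [Group W] (cs : CoxeterSystem CoxeterMatrix.F₄ W)

include cs in
theorem ntau_st (p : ℕ) [Fact p.Prime] [CharP K p] :
    NTau (T K q) (X φ q) (chE hφ hqq) (st q τ) (rs hφ τ) :=
  ntau_std (Cfsg.Agent.Nodes.RGDTwE6.rgd cs hφ hqq p) (mem_X hφ hqq) (PhiE_wS hφ hqq) (st_up hφ hqq τ) (st_n hφ τ)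
    (coordE hφ hqq) (st_T τ)

variable {τ}

theorem ntau_of_ftau {β : MulAut ↥(twistedE6 K q)} (S : FTau hφ hqq β τ) :
    NTau (T K q) (X φ q) (chE hφ hqq) β (rs hφ τ) := ⟨S.diag, fun i t ht => Subtype.ext (S.char i t ht)⟩

theorem ftau_pow {β : MulAut ↥(twistedE6 K q)} (S : FTau hφ hqq β τ) (k : ℕ) : FTau hφ hqq (β ^ k) (τ ^ k) := by
  induction k with
  | zero => rw [pow_zero, pow_zero]; exact FTau.one hφ hqq
  | succ k ih => rw [pow_succ, pow_succ]; exact ih.mul hφ hqq S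

include hqq in
theorem eq_one_of_rs {p : ℕ} (hp : p.Prime) (hp2 : p ≠ 2) (hτ : τ ^ p = 1) (i : Fin 4) (h : rs hφ τ i = 1) :
    τ = 1 := by
  refine eq_one_of_coprime (n := 2) ((Nat.coprime_primes Nat.prime_two hp).2 hp2.symm)
    (pow_two_of_trivial (φ := φ) (tau_phi hφ τ) (fun a => by rw [hφ, hφ, hqq]) fun a ha => ?_) hτ
  have ha' : a ∈ KF φ i := by
    show a ∈ Fx φ _
    rw [mem_Fx]
    exact Function.iterate_fixed ha _
  exact congrArg Subtype.val (congrArg (fun e : KF φ i ≃+* KF φ i => e ⟨a, ha'⟩) h)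

/-- the negatives of the roots of the nodes -/
def negO : Fin 4 → List ℕ := ![[25], [32], [29, 34], [15, 35]]

theorem negO_eq : ∀ i : Fin 4, (rep i :: rest i).map chevE6.neg = negO i := by decide +kernel

theorem coe_up (i : Fin 4) (a : KF φ i) : ((PhiE hφ hqq i (up a) : ↥(twistedE6 K q)) : GL chevE6.Idx K) =
    yv (xG hE6) φ (rep i :: rest i) (a : K) := coe_Phi_up (foldGrp hφ hqq) (nodeOK i) (hf i) a

theorem coe_lo (i : Fin 4) (a : KF φ i) : ((PhiE hφ hqq i (lo a) : ↥(twistedE6 K q)) : GL chevE6.Idx K) =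
    yv (xG hE6) φ (negO i) (a : K) := by
  rw [← negO_eq]
  exact coe_Phi_lo (foldGrp hφ hqq) (nodeOK i) (hf i) a

variable (τ)

include hφ hqq in
/-- **The fixed points on the root groups generate `²E₆` over the fixed field.** -/
theorem map_DD (p : ℕ) [Fact p.Prime] [CharP K p] {m : ℕ} (hm : τ ^ p ^ m = 1) :
    (DD cs isCartan (X φ q) (st q τ)).map (twistedE6 K q).subtype =
      (twistedE6 ↥(fixF τ) q).map (glm chevE6 (fixF τ)) := by
  have : Finite W := Cfsg.Agent.Nodes.RGDFold.finite_W (hp := hp) cs isCartan foldData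
  have R := Cfsg.Agent.Nodes.RGDTwE6.rgd cs hφ hqq p
  have hs : ∀ r ∈ [46, 25, 39, 32], ∀ a : K, τ a = a → φ a = a →
      xG hE6 r a * 1 ∈ (twistedE6 ↥(fixF τ) q).map (glm chevE6 (fixF τ)) := by
    intro r hr a ha ha'
    rw [mul_one]
    refine ⟨xG hE6 r (⟨a, ha⟩ : ↥(fixF τ)), single_mem (Subtype.ext ?_) hr, glm_xG hE6 _ r _⟩
    rw [SubmonoidClass.coe_pow]
    exact (hφ a).symm.trans ha'
  have hd : ∀ rs ∈ [(56, 36), (15, 35), (42, 37), (29, 34)], ∀ a : K, τ a = a →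
      xG hE6 rs.1 a * (xG hE6 rs.2 (φ a) * 1) ∈ (twistedE6 ↥(fixF τ) q).map (glm chevE6 (fixF τ)) := by
    intro rs hr a ha
    rw [mul_one]
    refine ⟨_, pair_mem (⟨a, ha⟩ : ↥(fixF τ)) hr, ?_⟩
    rw [map_mul]
    show glm chevE6 (fixF τ) (xG hE6 rs.1 _) * glm chevE6 (fixF τ) (xG hE6 rs.2 _) = _
    rw [glm_xG, glm_xG, SubmonoidClass.coe_pow, hφ]
  have hcases : ∀ i : Fin 4, i = 0 ∨ i = 1 ∨ i = 2 ∨ i = 3 := by decide
  apply le_antisymm
  · rw [Subgroup.map_le_iff_le_comap]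
    refine DD_le R (mem_X hφ hqq) (PhiE_wS hφ hqq) (st_up hφ hqq τ) (st_n hφ τ) (coordE hφ hqq)
      (ntau_st hφ hqq τ cs p).diag (st_pow τ hm) (fun i a ha => ?_) (fun i a ha => ?_)
    · rw [Subgroup.mem_comap]
      show ((PhiE hφ hqq i (up a) : ↥(twistedE6 K q)) : GL chevE6.Idx K) ∈ _
      rw [coe_up]
      have ha1 : τ (a : K) = a := congrArg Subtype.val ha
      rcases hcases i with rfl | rfl | rfl | rfl
      · exact hs 46 (by simp) a ha1 (mem_Fx.1 a.2)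
      · exact hs 39 (by simp) a ha1 (mem_Fx.1 a.2)
      · exact hd (42, 37) (by simp) a ha1
      · exact hd (56, 36) (by simp) a ha1
    · rw [Subgroup.mem_comap]
      show ((PhiE hφ hqq i (lo a) : ↥(twistedE6 K q)) : GL chevE6.Idx K) ∈ _
      rw [coe_lo]
      have ha1 : τ (a : K) = a := congrArg Subtype.val ha
      rcases hcases i with rfl | rfl | rfl | rfl
      · exact hs 25 (by simp) a ha1 (mem_Fx.1 a.2)
      · exact hs 32 (by simp) a ha1 (mem_Fx.1 a.2)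
      · exact hd (29, 34) (by simp) a ha1
      · exact hd (15, 35) (by simp) a ha1
  · rw [Subgroup.map_le_iff_le_comap, twisted_le_iff]
    have hup : ∀ (i : Fin 4) (a : KF φ i), τ (a : K) = a →
        yv (xG hE6) φ (rep i :: rest i) (a : K) ∈ (DD cs isCartan (X φ q) (st q τ)).map (twistedE6 K q).subtype := by
      intro i a ha
      rw [← coe_up hφ hqq]
      exact ⟨_, up_mem_DD (mem_X hφ hqq) (st_up hφ hqq τ) (Subtype.ext ha), rfl⟩
    have hlo : ∀ (i : Fin 4) (a : KF φ i), τ (a : K) = a →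
        yv (xG hE6) φ (negO i) (a : K) ∈ (DD cs isCartan (X φ q) (st q τ)).map (twistedE6 K q).subtype := by
      intro i a ha
      rw [← coe_lo hφ hqq]
      exact ⟨_, lo_mem_DD R (mem_X hφ hqq) (PhiE_wS hφ hqq) (st_up hφ hqq τ) (st_n hφ τ) (Subtype.ext ha), rfl⟩
    have h1 : ∀ a : K, φ a = a → a ∈ Fx φ 1 := fun a ha => mem_Fx.2 ha
    have h2 : ∀ a : K, a ∈ Fx φ 2 := fun a => mem_Fx.2 (by
      show φ (φ a) = a
      rw [hφ, hφ, hqq])
    refine ⟨fun t ht r hr => ?_, fun t rs hr => ?_⟩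
    · rw [Subgroup.mem_comap]
      show glm chevE6 (fixF τ) (xG hE6 r t) ∈ _
      rw [glm_xG, ← mul_one (xG hE6 r (t : K))]
      have ht' : φ (t : K) = t := by
        rw [hφ]
        have := congrArg Subtype.val ht
        rwa [SubmonoidClass.coe_pow] at this
      simp only [List.mem_cons, List.not_mem_nil, or_false] at hr
      rcases hr with rfl | rfl | rfl | rfl
      · exact hup 0 ⟨t, h1 _ ht'⟩ t.2
      · exact hlo 0 ⟨t, h1 _ ht'⟩ t.2
      · exact hup 1 ⟨t, h1 _ ht'⟩ t.2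
      · exact hlo 1 ⟨t, h1 _ ht'⟩ t.2
    · rw [Subgroup.mem_comap]
      show glm chevE6 (fixF τ) (xG hE6 rs.1 t * xG hE6 rs.2 (t ^ q)) ∈ _
      rw [map_mul, glm_xG, glm_xG, SubmonoidClass.coe_pow, ← hφ, ← mul_one (xG hE6 rs.2 (φ (t : K)))]
      simp only [List.mem_cons, List.not_mem_nil, or_false] at hr
      rcases hr with rfl | rfl | rfl | rfl
      · exact hup 3 ⟨t, h2 _⟩ t.2
      · exact hlo 3 ⟨t, h2 _⟩ t.2
      · exact hup 2 ⟨t, h2 _⟩ t.2
      · exact hlo 2 ⟨t, h2 _⟩ t.2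

include hφ hqq in
theorem DD_equiv (p : ℕ) [Fact p.Prime] [CharP K p] {m : ℕ} (hm : τ ^ p ^ m = 1) :
    Nonempty (↥(DD cs isCartan (X φ q) (st q τ)) ≃* ↥(twistedE6 ↥(fixF τ) q)) :=
  ⟨((DD cs isCartan (X φ q) (st q τ)).equivMapOfInjective (twistedE6 K q).subtype
    (twistedE6 K q).subtype_injective).trans ((MulEquiv.subgroupCongr (map_DD hφ hqq τ cs p hm)).trans
    ((twistedE6 ↥(fixF τ) q).equivMapOfInjective (glm chevE6 (fixF τ)) (glm_injective _)).symm)⟩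

end Std

/-- the fixed field -/
theorem inC_sub {K : Type} [Field K] [Fintype K] (p : ℕ) [Fact p.Prime] [CharP K p] (hp2 : p ≠ 2) {q : ℕ}
    (hq : IsPrimePow q) (hK : Fintype.card K = q ^ 2) {τ : K ≃+* K} (hτ : τ ^ p = 1) (hτ1 : τ ≠ 1) :
    InC p ↥(twistedE6 ↥(fixF τ) q) := by
  have hp : p.Prime := Fact.out
  have hk := card_fixF hp hτ hτ1
  have := Fintype.ofFinite ↥(fixF τ)
  obtain ⟨q', hq', h1, h2⟩ := exists_root (n := 2) hp Nat.prime_two hp2 hq (k := Nat.card ↥(fixF τ))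
    Finite.one_lt_card (by rw [← hk, Nat.card_eq_fintype_card, hK])
  obtain ⟨j, hj⟩ := hp.odd_of_ne_two hp2
  have h3 : ∀ t : ↥(fixF τ), t ^ q = t ^ q' := by
    intro t
    have h4 : t ^ (q' ^ 2) = t := by
      rw [← h1, Nat.card_eq_fintype_card]
      exact FiniteField.pow_card t
    rw [h2, hj, pow_succ, pow_mul, pow_mul q' 2 j, pow_iter h4 j]
  rw [tw_congr h3]
  have hK' : Fintype.card ↥(fixF τ) = q' ^ 2 := by rw [← Nat.card_eq_fintype_card, h1]
  obtain ⟨hs, hna⟩ := Cfsg.Agent.S1070.result hq' hK'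
  have := charP_fixF p τ
  refine inC_of_simple hs hna hp2 ?_
  have h5 : IsTwistedE6D4Char p ↥(twistedE6 ↥(fixF τ) q') :=
    ⟨↥(fixF τ), inferInstance, inferInstance, inferInstance, q', hq', Or.inl ⟨hK', ⟨MulEquiv.refl _⟩⟩⟩
  unfold IsLieTypeChar
  tauto

/-- **`²E₆(q)` in odd characteristic `p`.** -/
theorem autC_twistedE6 {K : Type} [Field K] [Fintype K] (p : ℕ) [Fact p.Prime] [CharP K p] (hp2 : p ≠ 2) {q : ℕ}
    (hq : IsPrimePow q) (hK : Fintype.card K = q ^ 2) : AutC p ↥(twistedE6 K q) := by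
  intro x hx
  have hp : p.Prime := Fact.out
  obtain ⟨φ, hφ, hqq⟩ := exists_frob hq hK
  have hW : Finite CoxeterMatrix.F₄.Group :=
    Nodes.RGDFold.finite_W (hp := Nodes.RGDTwE6.hp) CoxeterMatrix.F₄.toCoxeterSystem Nodes.RGDTwE6.isCartan
      Nodes.RGDTwE6.foldData
  obtain ⟨cs, hcs⟩ : ∃ cs : CoxeterSystem CoxeterMatrix.F₄ CoxeterMatrix.F₄.Group, cs = cs := ⟨CoxeterMatrix.F₄.toCoxeterSystem, rfl⟩
  have R := Cfsg.Agent.Nodes.RGDTwE6.rgd cs hφ hqq p
  have hG1 := G1_top cs hφ hqq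
  obtain ⟨hs, hna⟩ := Cfsg.Agent.S1070.result hq hK
  have hc : ∃ a b : ↥(twistedE6 K q), a * b ≠ b * a := by
    by_contra hcon
    push Not at hcon
    exact hna ⟨⟨hcon⟩⟩
  have hxp : x ^ p = 1 := by rw [← hx, pow_orderOf_eq_one]
  have hτ : ∀ (β : MulAut ↥(twistedE6 K q)) (τ' : ∀ i, KF φ i ≃+* KF φ i),
      NTau (T K q) (X φ q) (chE hφ hqq) β τ' → β ^ p = 1 →
      ∃ τ : K ≃+* K, τ' = rs hφ τ ∧ τ ^ p = 1 := by
    intro β τ' S hβ
    obtain ⟨τ, S'⟩ := exists_ftau hφ hqq cs p S.diag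
    refine ⟨τ, NTau.unique (coordE hφ hqq) S (ntau_of_ftau hφ hqq S'), ?_⟩
    have h2 := ftau_pow hφ hqq S' p
    rw [hβ] at h2
    exact FTau.unique hφ hqq h2 (FTau.one hφ hqq)
  have hrs1 : rs hφ (1 : K ≃+* K) = 1 := by
    funext i
    ext a
    rfl
  rcases RgdNConj.inner_or_conj R hG1 (coordE hφ hqq) (fun σ hσ hσ' _ => by
      apply perm_F4 σ hσ
      intro h3
      have h4 := hσ' 0
      rw [h3] at h4
      exact card_ne hφ hqq hK hq.one_lt h4) (fun β τ' S hβ => by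
      obtain ⟨τ, rfl, hτp⟩ := hτ β τ' S hβ
      by_cases h1 : τ = 1
      · left
        rw [h1, hrs1]
      · right
        exact fun i hi => h1 (eq_one_of_rs hφ hqq hp hp2 hτp i hi)) hxp with ⟨g, rfl⟩ | ⟨β, τ', S, hβ, hτ1, h1⟩
  · exact RgdNoComp.comps_conj (KFacts.RgdFiltTwAll.hasFilt_E6 hq hK p) hc hx
  · obtain ⟨τ, rfl, hτp⟩ := hτ β τ' S hβ
    have hτ1' : τ ≠ 1 := by
      rintro rfl
      exact hτ1 hrs1
    obtain ⟨e, he⟩ := h1 (st q τ) (st_pow τ hτp) (ntau_st hφ hqq τ cs p)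
    obtain ⟨f⟩ := DD_equiv hφ hqq τ cs p (m := 1) (by rw [pow_one]; exact hτp)
    have h2 : Comps p ↥(fixedSubgroup (st q τ)) :=
      comps_of_DD R hG1 (ntau_st hφ hqq τ cs p).diag (st_pow τ hτp)
        ((CpQuot.Congr.inC_iff f p).2 (inC_sub p hp2 hq hK hτp hτ1'))
    have h3 : MulAut.congr e (st q τ) = x := by
      rw [he]
      ext y
      rfl
    rw [← h3]
    exact h2.congr (fixEquiv e (st q τ))

end Cfsg.Agent.CpAut.RgdTwE6
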