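import Cfsg.Agent.CpAut.Base
import Cfsg.Agent.GenType.Alt
import Cfsg.Agent.StandardComponent.AltAut
set_option linter.all false

/-!
# S1814: the alternating groups, `p` odd

* `autInner_alt` : automorphisms of odd order of `A_n`, `n ≥ 7`, are inner;
* `solvable_quot_odd` : `x ∈ A_n` of order `p` with at most four `p`-cycles: `C(x) / A(fixed points)` is solvable;
* `alt_row` : `AutC p A_n`, `n ∈ {p, 2p, 3p}`, `n ≥ 7`; `alt_seven` : `AutC 3 A_7`; `alt_five` : `AutC 5 A_5`.
-/

set_option autoImplicit false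

namespace Cfsg.Agent.CpAut

open Subgroup Cfsg Equiv Equiv.Perm
open Cfsg.Agent.LThree (Comps)
open Cfsg.Agent.GenType

theorem autInner_alt {n p : ℕ} (hn : 7 ≤ n) (hp : p.Prime) (hp2 : p ≠ 2) :
    AutInner p ↥(alternatingGroup (Fin n)) := by
  apply autInner_of_sq hp hp2
  intro φ
  obtain ⟨m, rfl⟩ : ∃ m, n = m + 2 := ⟨n - 2, by omega⟩
  obtain ⟨σ, hσ⟩ := StandardComponent.AltAut.exists_conj (m := m) (by omega) φ
  have hs : σ * σ ∈ alternatingGroup (Fin (m + 2)) := by
    rw [Equiv.Perm.mem_alternatingGroup, map_mul]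
    exact Int.units_mul_self _
  refine ⟨⟨σ * σ, hs⟩, ?_⟩
  apply MulEquiv.ext
  intro x
  apply Subtype.ext
  rw [MulAut.mul_apply, hσ, hσ]
  show σ * (σ * (x : Equiv.Perm (Fin (m + 2))) * σ⁻¹) * σ⁻¹ = σ * σ * (x : Equiv.Perm (Fin (m + 2))) * (σ * σ)⁻¹
  group

/-- a group of permutations of at most four points is solvable -/
theorem solvable_perm {β : Type} [Fintype β] [DecidableEq β] (h : Fintype.card β ≤ 4) : Group.IsSolvable (Perm β) := by
  have h1 : Nat.card (Perm β) = (Fintype.card β).factorial := by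
    rw [Nat.card_perm, Nat.card_eq_fintype_card]
  have h2 : ∃ a b : ℕ, Nat.card (Perm β) = 2 ^ a * 3 ^ b := by
    rw [h1]
    set m := Fintype.card β
    interval_cases m
    · exact ⟨0, 0, rfl⟩
    · exact ⟨0, 0, rfl⟩
    · exact ⟨1, 0, rfl⟩
    · exact ⟨1, 1, rfl⟩
    · exact ⟨3, 1, rfl⟩
  obtain ⟨a, b, hab⟩ := h2
  exact Cfsg.Agent.S0144.result 2 3 a b Nat.prime_two Nat.prime_three hab

/-- the centralizer of a fixed point free permutation with at most four cycles is solvable -/
theorem solvable_cent {β : Type} [Fintype β] [DecidableEq β] (σ : Perm β) (hs : σ.support = Finset.univ)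
    (hk : σ.cycleFactorsFinset.card ≤ 4) : Group.IsSolvable ↥(centralizer ({σ} : Set (Perm β))) := by
  have hfix : IsEmpty ↑(Function.fixedPoints σ) := by
    refine ⟨fun x => ?_⟩
    have h1 : (x : β) ∈ σ.support := by rw [hs]; exact Finset.mem_univ _
    exact mem_support.1 h1 x.2
  have hP : Group.IsSolvable (Perm ↥(σ.cycleFactorsFinset)) := solvable_perm (by simpa using hk)
  -- the kernel of the action on the cycles is commutative
  have hcomm : ∀ a b : ↥(OnCycleFactors.toPermHom σ).ker, a * b = b * a := by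
    have hr := OnCycleFactors.kerParam_range_eq (g := σ)
    have hmem : ∀ a : ↥(OnCycleFactors.toPermHom σ).ker,
        ∃ u, OnCycleFactors.kerParam σ u = ((a : ↥(centralizer ({σ} : Set (Perm β)))) : Perm β) := by
      intro a
      have h1 : ((a : ↥(centralizer ({σ} : Set (Perm β)))) : Perm β) ∈ (OnCycleFactors.kerParam σ).range := by
        rw [hr]
        exact ⟨a, a.2, rfl⟩
      exact h1
    intro a b
    obtain ⟨u, hu⟩ := hmem a
    obtain ⟨v, hv⟩ := hmem b
    apply Subtype.ext
    apply Subtype.ext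
    change ((a : ↥(centralizer ({σ} : Set (Perm β)))) : Perm β) * ((b : ↥(centralizer ({σ} : Set (Perm β)))) : Perm β) =
      ((b : ↥(centralizer ({σ} : Set (Perm β)))) : Perm β) * ((a : ↥(centralizer ({σ} : Set (Perm β)))) : Perm β)
    rw [← hu, ← hv, ← map_mul, ← map_mul]
    congr 1
    apply Prod.ext
    · apply Equiv.ext
      intro x
      exact hfix.elim x
    · funext c
      obtain ⟨i, hi⟩ := mem_zpowers_iff.1 (u.2 c).2
      obtain ⟨j, hj⟩ := mem_zpowers_iff.1 (v.2 c).2
      apply Subtype.ext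
      change ((u.2 c : ↥(zpowers (c : Perm β))) : Perm β) * ((v.2 c : ↥(zpowers (c : Perm β))) : Perm β) =
        ((v.2 c : ↥(zpowers (c : Perm β))) : Perm β) * ((u.2 c : ↥(zpowers (c : Perm β))) : Perm β)
      rw [← hi, ← hj]
      exact (Commute.refl (c : Perm β)).zpow_zpow i j
  have hker : Group.IsSolvable ↥(OnCycleFactors.toPermHom σ).ker := by
    let _ : CommGroup ↥(OnCycleFactors.toPermHom σ).ker := { mul_comm := hcomm }
    exact inferInstance
  exact Group.isSolvable_of_ker_le_range (OnCycleFactors.toPermHom σ).ker.subtype (OnCycleFactors.toPermHom σ)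
    (by rw [Subgroup.range_subtype])

section

variable {α : Type} [Fintype α] [DecidableEq α] (x : alternatingGroup α) {p : ℕ}

theorem xm_pow (hx : orderOf x = p) : xm x ^ p = 1 := by
  apply Equiv.ext
  intro i
  apply Subtype.ext
  have h1 : ∀ (k : ℕ) (i : Mv x), (((xm x ^ k) i : Mv x) : α) = (((x : Perm α) ^ k) (i : α)) := by
    intro k
    induction k with
    | zero => intro i; rfl
    | succ k ih =>
      intro i
      rw [pow_succ, pow_succ, Perm.mul_apply, Perm.mul_apply, ih]
      rfl
  rw [h1 p i]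
  have h2 : ((x : alternatingGroup α) : Perm α) ^ p = 1 := by
    have : x ^ p = 1 := by rw [← hx]; exact pow_orderOf_eq_one x
    exact congrArg Subtype.val this
  rw [h2]
  rfl

/-- the number of moved points is `k p`, `k` the number of cycles -/
theorem card_moved_odd (hp : p.Prime) (hx : orderOf x = p) :
    Fintype.card (Mv x) = (xm x).cycleFactorsFinset.card * p := by
  have : Fact p.Prime := ⟨hp⟩
  have h2 := cycleType_of_pow_prime_eq_one (xm_pow x hx)
  have h4 := sum_cycleType (xm x)
  rw [h2, Multiset.sum_replicate, smul_eq_mul, support_xm, Finset.card_univ] at h4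
  rw [← h4]
  congr 1
  rw [cycleType_def, Multiset.card_map]
  rfl

theorem moved_pos (hp : p.Prime) (hx : orderOf x = p) : 0 < Fintype.card (Mv x) := by
  rw [Fintype.card_pos_iff]
  by_contra hne
  rw [not_nonempty_iff] at hne
  have : x = 1 := by
    apply Subtype.ext
    ext i
    by_contra hi
    exact hne.elim ⟨i, hi⟩
  rw [this, orderOf_one] at hx
  exact hp.ne_one hx.symm

/-- `C / N` is solvable if there are at most four cycles. -/
theorem solvable_quot_odd (hk : (xm x).cycleFactorsFinset.card ≤ 4) :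
    Group.IsSolvable (↥(centralizer ({x} : Set (alternatingGroup α))) ⧸ (rho x).ker) := by
  have hsol := solvable_cent (xm x) (support_xm x) hk
  have hle : (rho x).range ≤ centralizer ({xm x} : Set (Perm (Mv x))) := by
    rintro _ ⟨c, rfl⟩
    exact rho_comm x c
  have h1 : Group.IsSolvable ↥(rho x).range :=
    Group.isSolvable_of_isSolvable_injective (f := Subgroup.inclusion hle) (Subgroup.inclusion_injective hle)
  exact Group.isSolvable_of_isSolvable_injective (f := (QuotientGroup.quotientKerEquivRange (rho x)).toMonoidHom)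
    (QuotientGroup.quotientKerEquivRange (rho x)).injective

/-- few fixed points: the centralizer is solvable -/
theorem solvable_cent_alt (hk : (xm x).cycleFactorsFinset.card ≤ 4) (h4 : Fintype.card (Fx x) ≤ 4) :
    Group.IsSolvable ↥(centralizer ({x} : Set (alternatingGroup α))) := by
  have hA := solvable_alt_four h4
  have hq := solvable_quot_odd x hk
  have hN : Group.IsSolvable ↥(rho x).ker :=
    Group.isSolvable_of_surjective (f := (kerEquiv x).toMonoidHom) (kerEquiv x).surjective
  exact Group.isSolvable_of_ker_le_range (rho x).ker.subtype (QuotientGroup.mk' (rho x).ker)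
    (by rw [QuotientGroup.ker_mk', Subgroup.range_subtype])

end

theorem not_comm_alt {n : ℕ} (hn : 5 ≤ n) : ¬ IsMulCommutative ↥(alternatingGroup (Fin n)) := by
  intro h
  have hc : ∀ a b : alternatingGroup (Fin n), a * b = b * a := h.is_comm.comm
  have hcard : 5 ≤ Nat.card (Fin n) := by rw [Nat.card_eq_fintype_card, Fintype.card_fin]; exact hn
  have hs : IsSimpleGroup (alternatingGroup (Fin n)) := alternatingGroup.isSimpleGroup hcard
  let _ : CommGroup (alternatingGroup (Fin n)) :=
    { (inferInstance : Group (alternatingGroup (Fin n))) with mul_comm := hc }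
  have hp : (Nat.card (alternatingGroup (Fin n))).Prime := IsSimpleGroup.prime_card
  have hnt : Nontrivial (Fin n) := Fin.nontrivial_iff_two_le.2 (by omega)
  have h1 : 2 * Nat.card (alternatingGroup (Fin n)) = n.factorial := by
    rw [Nat.card_eq_fintype_card, two_mul_card_alternatingGroup, Fintype.card_perm, Fintype.card_fin]
  have h2 : 12 ∣ Nat.card (alternatingGroup (Fin n)) := by
    have h3 : Nat.factorial 4 ∣ n.factorial := Nat.factorial_dvd_factorial (by omega)
    rw [← h1, show Nat.factorial 4 = 2 * 12 by rfl] at h3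
    exact Nat.dvd_of_mul_dvd_mul_left (by norm_num) h3
  have h3 : 2 ∣ Nat.card (alternatingGroup (Fin n)) := dvd_trans (by norm_num) h2
  have h4 := (Nat.prime_dvd_prime_iff_eq Nat.prime_two hp).1 h3
  rw [← h4] at h2
  norm_num at h2

theorem isQuasisimple_of_simple {X : Type*} [Group X] [IsSimpleGroup X] (h : ¬ IsMulCommutative X) :
    IsQuasisimple X := by
  refine ⟨isPerfect_of_simple h, ?_⟩
  have hc := center_eq_bot_of_simple h
  exact (CpQuot.Congr.isSimple_iff ((QuotientGroup.quotientMulEquivOfEq hc).trans QuotientGroup.quotientBot)).2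
    inferInstance

/-- `A_p`, `A_2p`, `A_3p` are `C_p`-groups (`p` odd) -/
theorem inC_alt {p n : ℕ} (hp2 : p ≠ 2) (hn : 5 ≤ n) (h : n = p ∨ n = 2 * p ∨ n = 3 * p) :
    InC p ↥(alternatingGroup (Fin n)) := by
  have hcard : 5 ≤ Nat.card (Fin n) := by rw [Nat.card_eq_fintype_card, Fintype.card_fin]; exact hn
  have hs : IsSimpleGroup (alternatingGroup (Fin n)) := alternatingGroup.isSimpleGroup hcard
  have hna := not_comm_alt hn
  have hc := center_eq_bot_of_simple hna
  let e : ↥(alternatingGroup (Fin n)) ⧸ center ↥(alternatingGroup (Fin n)) ≃* ↥(alternatingGroup (Fin n)) :=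
    (QuotientGroup.quotientMulEquivOfEq hc).trans QuotientGroup.quotientBot
  refine ⟨isQuasisimple_of_simple hna, ?_, Or.inr (Or.inl ⟨n, h, ⟨e⟩⟩), ?_⟩
  · rw [hc]
    exact IsPGroup.of_bot
  · rintro (⟨rfl, _⟩ | ⟨rfl, h3, _⟩)
    · exact hp2 rfl
    · rw [hc, card_bot] at h3
      omega

/-- the centralizers of the elements of order `p` of `A_n`, `n ≤ 4p` -/
theorem comps_alt {p n : ℕ} (hp : p.Prime) (hp2 : p ≠ 2) (hn : n = p ∨ n = 2 * p ∨ n = 3 * p ∨ (p = 3 ∧ n = 7))
    (x : alternatingGroup (Fin n)) (hx : orderOf x = p) :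
    Comps p ↥(centralizer ({x} : Set ↥(alternatingGroup (Fin n)))) := by
  have h1 := card_moved_odd x hp hx
  have h2 := moved_pos x hp hx
  have hsp := card_split x
  rw [Fintype.card_fin] at hsp
  have hp3 : 3 ≤ p := by
    have := hp.two_le
    omega
  set k := (xm x).cycleFactorsFinset.card with hk
  have hk0 : 0 < k := by
    rcases Nat.eq_zero_or_pos k with h | h
    · rw [h, zero_mul] at h1
      omega
    · exact h
  have hk4 : k ≤ 3 := by
    by_contra hlt
    have h3 : 4 * p ≤ k * p := Nat.mul_le_mul_right _ (by omega)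
    omega
  by_cases h4 : Fintype.card (Fx x) ≤ 4
  · exact Comps.of_solvable (solvable_cent_alt x (by omega) h4)
  · have hm : Fintype.card (Fx x) = p ∨ Fintype.card (Fx x) = 2 * p ∨ Fintype.card (Fx x) = 3 * p := by
      have hk' : k = 1 ∨ k = 2 ∨ k = 3 := by omega
      rcases hk' with h | h | h <;> rw [h] at h1 <;> omega
    have hC := inC_alt hp2 (by omega) hm
    have e2 : ↥(rho x).ker ≃* alternatingGroup (Fin (Fintype.card (Fx x))) :=
      (kerEquiv x).symm.trans (Fintype.equivFin (Fx x)).altCongrHom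
    exact Comps.of_normal hp (rho x).ker ((CpQuot.Congr.inC_iff e2 p).2 hC) (solvable_quot_odd x (by omega))

theorem center_alt {n : ℕ} (hn : 5 ≤ n) : center ↥(alternatingGroup (Fin n)) = ⊥ := by
  have hcard : 5 ≤ Nat.card (Fin n) := by rw [Nat.card_eq_fintype_card, Fintype.card_fin]; exact hn
  have hs : IsSimpleGroup (alternatingGroup (Fin n)) := alternatingGroup.isSimpleGroup hcard
  exact center_eq_bot_of_simple (not_comm_alt hn)

/-- **The rows `A_p`, `A_2p`, `A_3p`**, degree at least 7. -/
theorem alt_row {p n : ℕ} (hp : p.Prime) (hp2 : p ≠ 2) (h7 : 7 ≤ n) (hn : n = p ∨ n = 2 * p ∨ n = 3 * p) :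
    AutC p ↥(alternatingGroup (Fin n)) :=
  autC_of_inner (center_alt (by omega)) (autInner_alt h7 hp hp2)
    fun x hx => comps_alt hp hp2 (by tauto) x hx

/-- **The row `A_7`**, `p = 3`. -/
theorem alt_seven : AutC 3 ↥(alternatingGroup (Fin 7)) :=
  autC_of_inner (center_alt (by omega)) (autInner_alt le_rfl Nat.prime_three (by norm_num))
    fun x hx => comps_alt Nat.prime_three (by norm_num) (by tauto) x hx

end Cfsg.Agent.CpAut
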