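import Cfsg.Agent.TypeM.CoverTools
import Cfsg.Agent.H569.KleinIso
import Cfsg.Agent.LThree.Red2
import Cfsg.Agent.SevenLow.DoubleCover
import Cfsg.Agent.CpAut.Base
import Cfsg.Agent.TypeM.OutLyFin
import Cfsg.Agent.TypeM.FactsLy
import Cfsg.Agent.Ly.Setup
import Cfsg.Agent.FastGrp
import Cfsg.Agent.Prune
set_option linter.all false
prune_inst 0x7f00000000000000000000000000000000000000000000000000000000000000000000000000000000000000000000000000000000000000000000000000000000000000000000000000000000000000003fffffffffffffffffffffffffffbeffbdffffffff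
open scoped Cfsg.Agent.FastGrp

-- merged: Cfsg.Agent.CpAut.Cyc
section

/-!
# Elements of double covers of alternating groups lying over cycles (helper89)

`K : Cover α C`, `y : C` over a cycle:

* `cent_of_cycle` : the elements commuting with `y` are the `y ^ i * d`, `d` over the fixed points of `y`;
* `card_cent_dvd` : `|C_C(y)|` divides `2 |C(K.π y)|`.
-/

set_option autoImplicit false

namespace Cfsg.Agent.CpAut.Cyc

open Subgroup Equiv Cfsg.Agent.SporRec.TwoAn

variable {α : Type*} [Fintype α] [DecidableEq α] {C : Type*} [Group C] (K : Cover α C)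

/-- the elements commuting with a lift `y` of a cycle -/
theorem cent_of_cycle {y : C} (hcyc : (K.π y).IsCycle) (g : C) :
    g * y = y * g ↔ ∃ i : ℕ, ∃ d ∈ K.sub (fun i => K.π y i = i), g = y ^ i * d := by
  constructor
  · intro hg
    have hc : K.π g * K.π y = K.π y * K.π g := by rw [← map_mul, hg, map_mul]
    set σ := K.π y with hσ
    have hcomm : ∀ x, K.π g (σ x) = σ (K.π g x) := fun x => by
      have := congrArg (fun f : Perm α => f x) hc
      simpa using this
    obtain ⟨a, ha, hcy⟩ := hcyc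
    have hmov : σ (K.π g a) ≠ K.π g a := by
      rw [← hcomm]
      exact fun e => ha ((K.π g).injective e)
    have hsc : σ.SameCycle a (K.π g a) := hcy hmov
    obtain ⟨i, hi, hi2⟩ := hsc.exists_pow_eq'
    refine ⟨i, (y ^ i)⁻¹ * g, ?_, by group⟩
    rw [Cover.mem_sub]
    intro x hx
    have hx' : σ x ≠ x := hx
    obtain ⟨j, -, hj⟩ := (hcy hx').exists_pow_eq'
    have h5 : K.π ((y ^ i)⁻¹ * g) = (σ ^ i)⁻¹ * K.π g := by
      rw [map_mul, map_inv, map_pow]
    rw [h5, ← hj, Perm.mul_apply]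
    have h6 : K.π g ((σ ^ j) a) = (σ ^ j) (K.π g a) := by
      have h7 : Commute (K.π g) (σ ^ j) := (show Commute (K.π g) σ from hc).pow_right j
      have := congrArg (fun f : Perm α => f a) h7.eq
      simpa using this
    rw [h6, ← hi2, Perm.inv_def, Equiv.symm_apply_eq]
    have h8 : σ ^ j * σ ^ i = σ ^ i * σ ^ j := by rw [← pow_add, ← pow_add, add_comm]
    have := congrArg (fun f : Perm α => f a) h8
    simpa using this
  · rintro ⟨i, d, hd, rfl⟩
    have hd' : ∀ x, ¬ K.π y x = x → K.π d x = x := hd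
    have hdis : (K.π d).Disjoint (K.π y) := by
      intro x
      by_cases hx : K.π y x = x
      · exact Or.inr hx
      · exact Or.inl (hd' x hx)
    have h5 : d * y = y * d := K.commute_of_disjoint hdis
    have h6 : y ^ i * y = y * y ^ i := by rw [← pow_succ, ← pow_succ']
    calc y ^ i * d * y = y ^ i * (d * y) := by group
      _ = y ^ i * y * d := by rw [h5]; group
      _ = y * (y ^ i * d) := by rw [h6]; group

/-- `|ker π| = 2` -/
theorem card_ker : Nat.card K.π.ker = 2 := by
  rw [Nat.card_eq_two_iff' (1 : K.π.ker)]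
  refine ⟨⟨K.z, K.π_z⟩, fun e => K.z_ne (congrArg Subtype.val e), ?_⟩
  rintro ⟨y, hy⟩ hy1
  rcases (K.ker y).1 hy with h1 | h1
  · exact absurd (Subtype.ext h1) hy1
  · exact Subtype.ext h1

/-- `|C_C(y)|` divides `2 |C(K.π y)|` -/
theorem card_cent_dvd (y : C) :
    Nat.card (centralizer ({y} : Set C)) ∣ 2 * Nat.card (centralizer ({K.π y} : Set (Perm α))) := by
  let f : centralizer ({y} : Set C) →* Perm α := K.π.comp (centralizer ({y} : Set C)).subtype
  have hf : f.range ≤ centralizer ({K.π y} : Set (Perm α)) := by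
    rintro _ ⟨g, rfl⟩
    have hg := mem_centralizer_singleton_iff.1 g.2
    rw [mem_centralizer_singleton_iff]
    show K.π g * K.π y = K.π y * K.π g
    rw [← map_mul, hg, map_mul]
  have hker : Nat.card f.ker ∣ 2 := by
    rw [← card_ker K]
    have h6 : f.ker.map (centralizer ({y} : Set C)).subtype ≤ K.π.ker := by
      rintro _ ⟨g, hg, rfl⟩
      exact hg
    have h7 := card_dvd_of_le h6
    rwa [Nat.card_congr (f.ker.equivMapOfInjective _ (subtype_injective _)).toEquiv.symm] at h7
  have h8 : Nat.card f.range * Nat.card f.ker = Nat.card (centralizer ({y} : Set C)) := by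
    rw [← Nat.card_congr (QuotientGroup.quotientKerEquivRange f).toEquiv, mul_comm]
    exact f.ker.card_mul_index
  rw [← h8, mul_comm]
  exact Nat.mul_dvd_mul hker (card_dvd_of_le hf)

/-- elements of odd order over the same permutation are equal; two lifts of conjugate even permutations of odd order are
conjugate -/
theorem exists_conj {y y' : C} {n : ℕ} (hn : Odd n) (hy : y ^ n = 1) (hy' : y' ^ n = 1) {σ : Perm α}
    (hσ : σ ∈ alternatingGroup α) (h : σ * K.π y * σ⁻¹ = K.π y') : ∃ g, g * y * g⁻¹ = y' := by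
  obtain ⟨g, hg⟩ := K.exists_lift hσ
  refine ⟨g, K.odd_lift_unique hn ?_ hy' ?_⟩
  · rw [conj_pow, hy, mul_one, mul_inv_cancel]
  · rw [map_mul, map_mul, map_inv, hg, h]

/-- two cycles of the same length `≤ n - 2` are conjugate by an even permutation -/
theorem exists_even_conj {σ τ : Perm α} (h : σ.cycleType = τ.cycleType) (h2 : σ.support.card + 2 ≤ Fintype.card α) :
    ∃ ρ ∈ alternatingGroup α, ρ * σ * ρ⁻¹ = τ := by
  obtain ⟨ρ, hρ⟩ := isConj_iff.1 (Perm.isConj_iff_cycleType_eq.2 h)
  by_cases hs : ρ ∈ alternatingGroup α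
  · exact ⟨ρ, hs, hρ⟩
  · -- two fixed points of `σ`
    have h3 : 1 < (Finset.univ \ σ.support).card := by
      rw [Finset.card_sdiff_of_subset (Finset.subset_univ _), Finset.card_univ]
      omega
    obtain ⟨a, ha, b, hb, hab⟩ := Finset.one_lt_card.1 h3
    rw [Finset.mem_sdiff, Perm.mem_support, not_not] at ha hb
    have hsw : swap a b * σ * (swap a b)⁻¹ = σ := by
      have hd : (swap a b).Disjoint σ := by
        intro x
        by_cases hxa : x = a
        · exact Or.inr (by rw [hxa]; exact ha.2)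
        · by_cases hxb : x = b
          · exact Or.inr (by rw [hxb]; exact hb.2)
          · exact Or.inl (swap_apply_of_ne_of_ne hxa hxb)
      rw [hd.commute.eq, mul_inv_cancel_right]
    refine ⟨ρ * swap a b, ?_, ?_⟩
    · rw [Perm.mem_alternatingGroup] at hs ⊢
      rw [map_mul, Perm.sign_swap hab]
      rcases Int.units_eq_one_or (Perm.sign ρ) with h | h
      · exact absurd h hs
      · rw [h]; decide
    · calc ρ * swap a b * σ * (ρ * swap a b)⁻¹ = ρ * (swap a b * σ * (swap a b)⁻¹) * ρ⁻¹ := by group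
        _ = τ := by rw [hsw, hρ]

end Cfsg.Agent.CpAut.Cyc

end

-- merged: Cfsg.Agent.CpAut.CycFive
section

/-!
# Elements of order five of `2.A_11` (helper89)

* `five_cases` : a lift `y` of order five lies over a 5-cycle, or over a permutation of type `5^2`;
* `two_elements` : in the second case the 2-elements commuting with `y` are `1`, `z`.
-/

set_option autoImplicit false

namespace Cfsg.Agent.CpAut.CycFive

open Subgroup Equiv Cfsg.Agent.SporRec.TwoAn Cfsg.Agent.CpAut.Cyc

variable {C : Type*} [Group C] (K : Cover (Fin 11) C)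

include K in
theorem five_cases {y : C} (h5 : y ^ 5 = 1) (h1 : y ≠ 1) :
    (K.π y).cycleType = {5} ∨ (K.π y).cycleType = {5, 5} := by
  set σ := K.π y with hσ
  have hσ5 : σ ^ 5 = 1 := by rw [hσ, ← map_pow, h5, map_one]
  have hσ1 : σ ≠ 1 := by
    intro e
    rcases (K.ker y).1 e with e | e
    · exact h1 e
    · apply K.z_ne
      rw [e, pow_succ, show (4 : ℕ) = 2 * 2 by norm_num, pow_mul, K.z_pow_two, one_pow, one_mul] at h5
      exact h5
  have : Fact (Nat.Prime 5) := ⟨Nat.prime_five⟩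
  have hct := Perm.cycleType_of_pow_prime_eq_one hσ5
  have h2 : σ.cycleType.sum ≤ 11 := by
    rw [σ.sum_cycleType]
    exact (Finset.card_le_univ _).trans (by simp)
  have hk1 : 1 ≤ σ.cycleType.card := by
    by_contra hcon
    have : σ.cycleType.card = 0 := by omega
    exact hσ1 (Perm.card_cycleType_eq_zero.1 this)
  rw [hct, Multiset.sum_replicate, smul_eq_mul] at h2
  have hk : σ.cycleType.card = 1 ∨ σ.cycleType.card = 2 := by omega
  rcases hk with hk | hk
  · left
    rw [hct, hk]
    rfl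
  · right
    rw [hct, hk]
    rfl

/-- a permutation of order dividing two, moving a multiple of four letters, commuting with a permutation of type `5^2` of
11 letters, is trivial -/
theorem eq_one_of_comm {σ τ : Perm (Fin 11)} (hσ : σ.cycleType = {5, 5}) (hc : τ * σ = σ * τ)
    (h4 : 4 ∣ τ.support.card) : τ = 1 := by
  have : Fact (Nat.Prime 5) := ⟨Nat.prime_five⟩
  have hcomm : ∀ x, τ (σ x) = σ (τ x) := fun x => by
    have := congrArg (fun f : Perm (Fin 11) => f x) hc
    simpa using this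
  have hinv : ∀ x, σ x ∈ τ.support ↔ x ∈ τ.support := by
    intro x
    rw [Perm.mem_support, Perm.mem_support, hcomm]
    exact not_congr σ.injective.eq_iff
  have hσ5 : σ ^ 5 = 1 := by
    have h6 := σ.lcm_cycleType
    rw [hσ] at h6
    have h7 : orderOf σ = 5 := by rw [← h6]; rfl
    rw [← h7]
    exact pow_orderOf_eq_one σ
  -- `σ` on the support of `τ`
  let ρ : Perm {x // x ∈ τ.support} := σ.subtypePerm hinv
  have h1' : ρ ^ 5 = 1 := by
    ext x
    have h3 : ((ρ ^ 5) x : Fin 11) = (σ ^ 5) x := by rw [Perm.subtypePerm_pow, Perm.subtypePerm_apply]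
    have h4 : (((ρ ^ 5) x : {x // x ∈ τ.support}) : Fin 11) = (((1 : Perm {x // x ∈ τ.support}) x :
        {x // x ∈ τ.support}) : Fin 11) := by
      rw [h3, hσ5]
      rfl
    exact congrArg _ h4
  let f : Function.End {x // x ∈ τ.support} := fun x => ρ x
  have hfn : ∀ n : ℕ, f ^ n = (fun x => (ρ ^ n) x : Function.End {x // x ∈ τ.support}) := by
    intro n
    induction n with
    | zero => rfl
    | succ n ih =>
      rw [pow_succ, ih, pow_succ]
      rfl
  have hρ5 : f ^ 5 ^ 1 = 1 := by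
    rw [pow_one, hfn, h1']
    rfl
  have h1 := Perm.card_fixedPoints_modEq hρ5
  rw [Fintype.card_coe, ← Nat.card_eq_fintype_card (α := Function.fixedPoints f)] at h1
  -- at most one fixed point
  have h2 : Nat.card (Function.fixedPoints f) ≤ 1 := by
    have h3 : (Finset.univ \ σ.support).card = 1 := by
      rw [Finset.card_sdiff_of_subset (Finset.subset_univ _), ← σ.sum_cycleType, hσ]
      rfl
    rw [Nat.card_eq_fintype_card, Fintype.card_le_one_iff]
    rintro ⟨a, ha⟩ ⟨b, hb⟩
    obtain ⟨c, hc⟩ := Finset.card_eq_one.1 h3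
    have key : ∀ a : {x // x ∈ τ.support}, ρ a = a → (a : Fin 11) = c := by
      intro a ha
      have h4 : (a : Fin 11) ∈ Finset.univ \ σ.support := by
        rw [Finset.mem_sdiff, Perm.mem_support, not_not]
        exact ⟨Finset.mem_univ _, congrArg Subtype.val ha⟩
      rw [hc, Finset.mem_singleton] at h4
      exact h4
    apply Subtype.ext
    apply Subtype.ext
    rw [key a ha, key b hb]
  have h3 : τ.support.card ≤ 11 := (Finset.card_le_univ _).trans (by simp)
  have h4' : τ.support.card = 0 := by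
    obtain ⟨m, hm⟩ := h4
    unfold Nat.ModEq at h1
    have h0 : m = 0 ∨ m = 1 ∨ m = 2 := by omega
    rcases h0 with rfl | rfl | rfl
    · rw [hm]
    · rw [hm] at h1
      omega
    · rw [hm] at h1
      omega
  exact Perm.card_support_eq_zero.1 h4'

/-- the 2-elements commuting with a lift of a permutation of type `5^2` -/
theorem two_elements {y : C} (hy : (K.π y).cycleType = {5, 5}) {g : C} (hg : g * y = y * g) {k : ℕ}
    (hk : g ^ 2 ^ k = 1) : g = 1 ∨ g = K.z := by
  apply (K.ker g).1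
  have hc : K.π g * K.π y = K.π y * K.π g := by rw [← map_mul, hg, map_mul]
  set σ := K.π y with hσ
  set τ := K.π g with hτ
  have hcard : Nat.card (centralizer ({σ} : Set (Perm (Fin 11)))) = 50 := by
    rw [Equiv.Perm.nat_card_centralizer, hy]
    decide
  have h50 : τ ^ 50 = 1 := by
    have h1 : τ ∈ centralizer ({σ} : Set (Perm (Fin 11))) := mem_centralizer_singleton_iff.2 hc
    have h2 := pow_card_eq_one' (x := (⟨τ, h1⟩ : centralizer ({σ} : Set (Perm (Fin 11)))))
    rw [hcard] at h2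
    exact congrArg Subtype.val h2
  have h2k : τ ^ 2 ^ k = 1 := by rw [hτ, ← map_pow, hk, map_one]
  have h2 : τ ^ 2 = 1 := by
    apply orderOf_dvd_iff_pow_eq_one.1
    have h3 := orderOf_dvd_of_pow_eq_one h50
    obtain ⟨j, -, hj⟩ := (Nat.dvd_prime_pow Nat.prime_two).1 (orderOf_dvd_of_pow_eq_one h2k)
    rw [hj] at h3 ⊢
    have h4 : j ≤ 1 := by
      by_contra hcon
      have h5 : 2 ^ 2 ∣ 50 := (pow_dvd_pow 2 (by omega)).trans h3
      revert h5
      decide
    exact pow_dvd_pow 2 h4
  exact eq_one_of_comm hy hc (K.four_dvd (by rw [← pow_two]; exact h2))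

end Cfsg.Agent.CpAut.CycFive

end

-- merged: Cfsg.Agent.CpAut.LyFive
section

/-!
# Centralizers of elements of order five in groups with involution centralizer `2.A_11` (helper89)

`comps_five` : `G` with one class of involutions and `C_G(t) = 2.A_11` (`MT 11 G`), with commuting elements `z₀` (order 5,
`125` divides `|C(z₀)|`), `t₀` (order 2), `w₀` (order 3); then `C_G(x) / O_{5'}(C_G(x))` has no component for `x` of
order five.
-/

set_option autoImplicit false

namespace Cfsg.Agent.CpAut.LyFive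

open Subgroup Equiv Cfsg
open Cfsg.Agent.SporRec.TwoAn Cfsg.Agent.TypeM.Two Cfsg.Agent.CpAut.Cyc Cfsg.Agent.CpAut.CycFive

universe u

theorem card_cent_five {C : Type*} [Group C] (K : Cover (Fin 11) C) {y : C} (hy : (K.π y).cycleType = {5}) :
    Nat.card (centralizer ({y} : Set C)) ∣ 7200 := by
  refine (card_cent_dvd K y).trans ?_
  rw [Equiv.Perm.nat_card_centralizer, hy]
  decide

theorem card_cent_five_two {C : Type*} [Group C] (K : Cover (Fin 11) C) {y : C} (hy : (K.π y).cycleType = {5, 5}) :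
    Nat.card (centralizer ({y} : Set C)) ∣ 100 := by
  refine (card_cent_dvd K y).trans ?_
  rw [Equiv.Perm.nat_card_centralizer, hy]
  decide

/-- the cover over the fixed points of a 5-cycle is quasisimple -/
theorem quasisimple_sub {C : Type*} [Group C] (K : Cover (Fin 11) C) {y : C} (hy : (K.π y).cycleType = {5}) :
    IsQuasisimple ↥(K.sub (fun i => K.π y i = i)) := by
  have hcard : Fintype.card {i // K.π y i = i} = 6 := by
    have h1 : (Finset.univ \ (K.π y).support).card = 6 := by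
      rw [Finset.card_sdiff_of_subset (Finset.subset_univ _), ← (K.π y).sum_cycleType, hy]
      rfl
    rw [Fintype.card_subtype, ← h1]
    congr 1
    ext i
    simp [Perm.mem_support]
  exact SevenLow.DoubleCover.quasisimple_of_cover (n := 6) (by norm_num)
    ((K.restrict (fun i => K.π y i = i)).congr (Fintype.equivFinOfCardEq hcard))

/-- the only involution over the fixed points of a 5-cycle -/
theorem eq_of_sub {C : Type*} [Group C] (K : Cover (Fin 11) C) {y : C} (hy : (K.π y).cycleType = {5})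
    {s : C} (hs : s ∈ K.sub (fun i => K.π y i = i)) (h2 : s * s = 1) : s = 1 ∨ s = K.z := by
  have hcard : Fintype.card {i // K.π y i = i} < 8 := by
    have h1 : (Finset.univ \ (K.π y).support).card = 6 := by
      rw [Finset.card_sdiff_of_subset (Finset.subset_univ _), ← (K.π y).sum_cycleType, hy]
      rfl
    have h3 : Fintype.card {i // K.π y i = i} = 6 := by
      rw [Fintype.card_subtype, ← h1]
      congr 1
      ext i
      simp [Perm.mem_support]
    omega
  rcases (K.restrict (fun i => K.π y i = i)).eq_one_or_eq_z_of_card_lt hcard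
    (g := ⟨s, hs⟩) (Subtype.ext h2) with h | h
  · exact Or.inl (congrArg Subtype.val h)
  · exact Or.inr ((congrArg Subtype.val h).trans (K.restrict_z (p := fun i => K.π y i = i)))

variable {G : Type u} [Group G] [Finite G]

/-- the case of a 5-cycle -/
theorem no_comp_of_cycle (FT : ∀ (K : Type u) [Group K] [Finite K], Odd (Nat.card K) → Group.IsSolvable K)
    (L : MT 11 G) {x : G} (hx : orderOf x = 5) (htx : L.t * x = x * L.t)
    (hy : (L.K.π (⟨x, mem_centralizer_singleton_iff.2 htx.symm⟩ : ↥(centralizer ({L.t} : Set G)))).cycleType = {5})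
    (h125 : 5 ^ 3 ∣ Nat.card (centralizer ({x} : Set G)))
    (J : Subgroup (↥(centralizer ({x} : Set G)) ⧸ pPrimeCore 5 ↥(centralizer ({x} : Set G)))) (hJ : IsComponent J) :
    False := by
  set y : ↥(centralizer ({L.t} : Set G)) := ⟨x, mem_centralizer_singleton_iff.2 htx.symm⟩ with hyd
  have hcyc : (L.K.π y).IsCycle := Perm.card_cycleType_eq_one.1 (by rw [hy]; rfl)
  have hx5 : x ^ 5 = 1 := by rw [← hx, pow_orderOf_eq_one]
  set X := centralizer ({x} : Set G) with hX
  let t' : ↥X := ⟨L.t, mem_centralizer_singleton_iff.2 htx⟩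
  have ht' : orderOf t' = 2 := by rw [← Subgroup.orderOf_coe]; exact L.orderOf_t
  -- the cover of `A_6`
  set S := L.K.sub (fun i => L.K.π y i = i) with hS
  have hSy : ∀ d ∈ S, d * y = y * d := fun d hd =>
    (cent_of_cycle L.K hcyc d).2 ⟨0, d, hd, by rw [pow_zero, one_mul]⟩
  let φ : ↥S →* ↥X :=
    { toFun := fun d => ⟨((d : ↥(centralizer ({L.t} : Set G))) : G),
        mem_centralizer_singleton_iff.2 (congrArg Subtype.val (hSy d d.2))⟩
      map_one' := rfl
      map_mul' := fun _ _ => rfl }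
  have hφ : Function.Injective φ := by
    intro a b hab
    exact Subtype.ext (Subtype.ext (congrArg (fun z : ↥X => (z : G)) hab))
  set M := φ.range with hM
  have hMq : IsQuasisimple ↥M := SignalizersComponents.Components.isQuasisimple_of_mulEquiv
    (MonoidHom.ofInjective hφ) (quasisimple_sub L.K hy)
  have htM : t' ∈ M := ⟨⟨L.K.z, L.K.z_mem_sub⟩, Subtype.ext L.hz⟩
  have hMt : M ≤ centralizer ({t'} : Set ↥X) := by
    rintro _ ⟨d, rfl⟩
    rw [mem_centralizer_singleton_iff]
    apply Subtype.ext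
    exact L.mem_iff.1 (d : ↥(centralizer ({L.t} : Set G))).2
  -- the elements of `C_X(t)`
  have hcent : ∀ g : ↥X, g * t' = t' * g → ∃ i : ℕ, ∃ d : ↥S,
      (g : G) = x ^ i * ((d : ↥(centralizer ({L.t} : Set G))) : G) := by
    intro g hg
    have hgt : (g : G) * L.t = L.t * g := congrArg Subtype.val hg
    have hgx : (g : G) * x = x * g := mem_centralizer_singleton_iff.1 g.2
    obtain ⟨i, d, hd, e⟩ := (cent_of_cycle L.K hcyc ⟨(g : G), L.mem_iff.2 hgt⟩).1 (Subtype.ext hgx)
    exact ⟨i, ⟨d, hd⟩, congrArg Subtype.val e⟩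
  -- the only involution
  have hone : ∀ s : ↥X, s * s = 1 → s * t' = t' * s → s = 1 ∨ s = t' := by
    intro s hs hst
    obtain ⟨i, d, e⟩ := hcent s hst
    have hdx : ((d : ↥(centralizer ({L.t} : Set G))) : G) * x = x * ((d : ↥(centralizer ({L.t} : Set G))) : G) :=
      congrArg Subtype.val (hSy d d.2)
    have hcm : Commute (x ^ i) ((d : ↥(centralizer ({L.t} : Set G))) : G) :=
      ((show Commute ((d : ↥(centralizer ({L.t} : Set G))) : G) x from hdx).symm).pow_left i
    have h5 : (s : G) = ((d : ↥(centralizer ({L.t} : Set G))) : G) ^ 5 := by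
      have h6 : (s : G) ^ 2 = 1 := by rw [pow_two]; exact congrArg Subtype.val hs
      have h7 : (s : G) ^ 5 = s := by
        rw [show (5 : ℕ) = 2 * 2 + 1 by norm_num, pow_succ, pow_mul, h6, one_pow, one_mul]
      rw [← h7, e, hcm.mul_pow, ← pow_mul, mul_comm i 5, pow_mul, hx5, one_pow, one_mul]
    have h8 : (d : ↥(centralizer ({L.t} : Set G))) ^ 5 ∈ S := S.pow_mem d.2 5
    rcases eq_of_sub L.K hy h8 (Subtype.ext (by
      change ((d : ↥(centralizer ({L.t} : Set G))) : G) ^ 5 * ((d : ↥(centralizer ({L.t} : Set G))) : G) ^ 5 = 1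
      rw [← h5]
      exact congrArg Subtype.val hs)) with h9 | h9
    · left
      apply Subtype.ext
      rw [h5]
      exact congrArg Subtype.val h9
    · right
      apply Subtype.ext
      rw [h5]
      exact (congrArg Subtype.val h9).trans L.hz
  -- `X = D M`
  obtain ⟨N, hN, hodd, hsup⟩ := TwoCov.exists_odd_sup ht' hone
  have hDn := Lib.Cores.pPrimeCore_normal (G := ↥X) 2
  have hDc := Lib.Cores.pPrimeCore_coprime (G := ↥X) 2
  have hDo : Odd (Nat.card ↥(pPrimeCore 2 ↥X)) := Nat.coprime_two_right.1 hDc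
  have hND : N ≤ pPrimeCore 2 ↥X := Lib.Cores.le_pPrimeCore hN (Nat.coprime_two_right.2 hodd)
  have hxX : x ∈ X := mem_centralizer_singleton_iff.2 rfl
  have hxD : (⟨x, hxX⟩ : ↥X) ∈ pPrimeCore 2 ↥X := by
    have hxc : ∀ g : ↥X, g * ⟨x, hxX⟩ = ⟨x, hxX⟩ * g := fun g =>
      Subtype.ext (mem_centralizer_singleton_iff.1 g.2)
    have hzn : (zpowers (⟨x, hxX⟩ : ↥X)).Normal := by
      refine ⟨fun n hn g => ?_⟩
      obtain ⟨k, rfl⟩ := hn
      have h1 : g * (⟨x, hxX⟩ : ↥X) ^ k = (⟨x, hxX⟩ : ↥X) ^ k * g :=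
        ((show Commute g (⟨x, hxX⟩ : ↥X) from hxc g).zpow_right k).eq
      change g * (⟨x, hxX⟩ : ↥X) ^ k * g⁻¹ ∈ _
      rw [h1, mul_inv_cancel_right]
      exact ⟨k, rfl⟩
    have hzo : (Nat.card ↥(zpowers (⟨x, hxX⟩ : ↥X))).Coprime 2 := by
      rw [Nat.card_zpowers, ← Subgroup.orderOf_coe]
      change (orderOf x).Coprime 2
      rw [hx]
      decide
    exact Lib.Cores.le_pPrimeCore hzn hzo (mem_zpowers _)
  have hDM : pPrimeCore 2 ↥X ⊔ M = ⊤ := by
    rw [eq_top_iff, ← hsup]
    refine sup_le (hND.trans le_sup_left) ?_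
    intro g hg
    rw [mem_centralizer_singleton_iff] at hg
    obtain ⟨i, d, e⟩ := hcent g hg
    have h1 : g = (⟨x, hxX⟩ : ↥X) ^ i * φ d := Subtype.ext e
    rw [h1]
    exact mul_mem (mem_sup_left (pow_mem hxD i)) (mem_sup_right ⟨d, rfl⟩)
  have hfin := TwoCov.dvd_card_centralizer ht' Nat.prime_five (pPrimeCore 2 ↥X) M hDo (FT _ hDo) hMq htM hMt hDM hJ h125
  -- `|C_X(t)|` divides `7200`
  have h2 : Nat.card ↥(centralizer ({t'} : Set ↥X)) ∣ 7200 := by
    rw [Nat.card_congr (LThree.Red.centCent htx).toEquiv]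
    exact card_cent_five L.K hy
  have h3 := hfin.trans h2
  revert h3
  decide

theorem comps_five (FT : ∀ (K : Type u) [Group K] [Finite K], Odd (Nat.card K) → Group.IsSolvable K)
    (L : MT 11 G) (hz : ∃ z₀ t₀ w₀ : G, orderOf z₀ = 5 ∧ orderOf t₀ = 2 ∧ orderOf w₀ = 3 ∧ t₀ * z₀ = z₀ * t₀ ∧
      w₀ * t₀ = t₀ * w₀ ∧ w₀ * z₀ = z₀ * w₀ ∧ 5 ^ 3 ∣ Nat.card (centralizer ({z₀} : Set G))) {x : G}
    (hx : orderOf x = 5) : LThree.Comps 5 ↥(centralizer ({x} : Set G)) := by
  by_cases hev : 2 ∣ Nat.card ↥(centralizer ({x} : Set G))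
  swap
  · exact LThree.Comps.of_solvable (FT _ (by rwa [← Nat.not_even_iff_odd, even_iff_two_dvd]))
  have : Fact (Nat.Prime 2) := ⟨Nat.prime_two⟩
  obtain ⟨s, hs⟩ := exists_prime_orderOf_dvd_card' 2 hev
  have hs2 : orderOf (s : G) = 2 := by rw [Subgroup.orderOf_coe]; exact hs
  obtain ⟨hss, hs1⟩ := MT.sq_of_orderOf hs2
  obtain ⟨L', hL'⟩ := L.exists_rebase hss hs1
  have htx : L'.t * x = x * L'.t := by
    rw [hL']
    exact mem_centralizer_singleton_iff.1 s.2
  set y : ↥(centralizer ({L'.t} : Set G)) := ⟨x, mem_centralizer_singleton_iff.2 htx.symm⟩ with hyd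
  have hx5 : x ^ 5 = 1 := by rw [← hx, pow_orderOf_eq_one]
  have hx1 : x ≠ 1 := by
    rintro rfl
    rw [orderOf_one] at hx
    norm_num at hx
  have hy5 : y ^ 5 = 1 := Subtype.ext hx5
  rcases five_cases L'.K hy5 (fun e => hx1 (congrArg Subtype.val e)) with hty | hty
  · -- a 5-cycle
    intro J hJ
    exfalso
    refine no_comp_of_cycle FT L' hx htx hty ?_ J hJ
    obtain ⟨z₀, t₀, w₀, hz5, ht2, hw3, htz, hwt, hwz, h125⟩ := hz
    obtain ⟨htt, ht1⟩ := MT.sq_of_orderOf ht2
    -- conjugate `t₀` to `t`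
    obtain ⟨g, hg⟩ := L'.conj_of_involutions htt ht1 L'.t_mul_t L'.t_ne
    set z₁ := g * z₀ * g⁻¹ with hz₁
    set w₁ := g * w₀ * g⁻¹ with hw₁
    have htz1 : L'.t * z₁ = z₁ * L'.t := by
      rw [← hg, hz₁]
      calc g * t₀ * g⁻¹ * (g * z₀ * g⁻¹) = g * (t₀ * z₀) * g⁻¹ := by group
        _ = g * z₀ * g⁻¹ * (g * t₀ * g⁻¹) := by rw [htz]; group
    have htw1 : w₁ * L'.t = L'.t * w₁ := by
      rw [← hg, hw₁]
      calc g * w₀ * g⁻¹ * (g * t₀ * g⁻¹) = g * (w₀ * t₀) * g⁻¹ := by group
        _ = g * t₀ * g⁻¹ * (g * w₀ * g⁻¹) := by rw [hwt]; group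
    have hwz1 : w₁ * z₁ = z₁ * w₁ := by
      rw [hw₁, hz₁]
      calc g * w₀ * g⁻¹ * (g * z₀ * g⁻¹) = g * (w₀ * z₀) * g⁻¹ := by group
        _ = g * z₀ * g⁻¹ * (g * w₀ * g⁻¹) := by rw [hwz]; group
    have hz15 : z₁ ^ 5 = 1 := by
      rw [hz₁, conj_pow, ← hz5, pow_orderOf_eq_one, mul_one, mul_inv_cancel]
    have hz11 : z₁ ≠ 1 := by
      intro e
      rw [hz₁, conj_eq_one_iff] at e
      rw [e, orderOf_one] at hz5
      norm_num at hz5
    have hw13 : orderOf w₁ = 3 := by
      rw [hw₁, ← hw3]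
      exact (MulEquiv.orderOf_eq (MulAut.conj g) w₀)
    set y₁ : ↥(centralizer ({L'.t} : Set G)) := ⟨z₁, mem_centralizer_singleton_iff.2 htz1.symm⟩ with hy₁
    have hy15 : y₁ ^ 5 = 1 := Subtype.ext hz15
    have hty1 : (L'.K.π y₁).cycleType = {5} := by
      rcases five_cases L'.K hy15 (fun e => hz11 (congrArg Subtype.val e)) with h | h
      · exact h
      · exfalso
        let w' : ↥(centralizer ({L'.t} : Set G)) := ⟨w₁, mem_centralizer_singleton_iff.2 htw1⟩
        have hw' : w' ∈ centralizer ({y₁} : Set ↥(centralizer ({L'.t} : Set G))) :=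
          mem_centralizer_singleton_iff.2 (Subtype.ext hwz1)
        have h1 : orderOf (⟨w', hw'⟩ : ↥(centralizer ({y₁} : Set ↥(centralizer ({L'.t} : Set G))))) = 3 := by
          rw [← Subgroup.orderOf_coe, ← Subgroup.orderOf_coe]
          exact hw13
        have h2 := orderOf_dvd_natCard (⟨w', hw'⟩ : ↥(centralizer ({y₁} : Set ↥(centralizer ({L'.t} : Set G)))))
        rw [h1] at h2
        have h3 := h2.trans (card_cent_five_two L'.K h)
        revert h3
        decide
    -- `x` and `z₁` are conjugate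
    obtain ⟨ρ, hρ, hρc⟩ := exists_even_conj (σ := L'.K.π y) (τ := L'.K.π y₁) (by rw [hty, hty1]) (by
      rw [← (L'.K.π y).sum_cycleType, hty]
      decide)
    obtain ⟨c, hc⟩ := Cyc.exists_conj L'.K (n := 5) (by decide) hy5 hy15 hρ hρc
    have hcx : (c : G) * x * (c : G)⁻¹ = z₁ := congrArg Subtype.val hc
    have hcz : (g⁻¹ * (c : G)) * x * (g⁻¹ * (c : G))⁻¹ = z₀ := by
      have h1 : z₀ = g⁻¹ * z₁ * g := by rw [hz₁]; group
      rw [h1, ← hcx]
      group
    have hcard : Nat.card (centralizer ({x} : Set G)) = Nat.card (centralizer ({z₀} : Set G)) := by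
      have h1 : (centralizer ({x} : Set G)).map (MulAut.conj (g⁻¹ * (c : G))).toMonoidHom =
          centralizer ({z₀} : Set G) := by
        ext v
        constructor
        · rintro ⟨a, ha, rfl⟩
          rw [SetLike.mem_coe, mem_centralizer_singleton_iff] at ha
          rw [mem_centralizer_singleton_iff, ← hcz]
          change (g⁻¹ * (c : G)) * a * (g⁻¹ * (c : G))⁻¹ * ((g⁻¹ * (c : G)) * x * (g⁻¹ * (c : G))⁻¹) =
            (g⁻¹ * (c : G)) * x * (g⁻¹ * (c : G))⁻¹ * ((g⁻¹ * (c : G)) * a * (g⁻¹ * (c : G))⁻¹)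
          calc (g⁻¹ * (c : G)) * a * (g⁻¹ * (c : G))⁻¹ * ((g⁻¹ * (c : G)) * x * (g⁻¹ * (c : G))⁻¹)
              = (g⁻¹ * (c : G)) * (a * x) * (g⁻¹ * (c : G))⁻¹ := by group
            _ = (g⁻¹ * (c : G)) * x * (g⁻¹ * (c : G))⁻¹ * ((g⁻¹ * (c : G)) * a * (g⁻¹ * (c : G))⁻¹) := by
              rw [ha]; group
        · intro hv
          rw [mem_centralizer_singleton_iff, ← hcz] at hv
          refine ⟨(g⁻¹ * (c : G))⁻¹ * v * (g⁻¹ * (c : G)), ?_, ?_⟩
          · rw [SetLike.mem_coe, mem_centralizer_singleton_iff]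
            calc (g⁻¹ * (c : G))⁻¹ * v * (g⁻¹ * (c : G)) * x
                = (g⁻¹ * (c : G))⁻¹ * (v * ((g⁻¹ * (c : G)) * x * (g⁻¹ * (c : G))⁻¹)) * (g⁻¹ * (c : G)) := by group
              _ = x * ((g⁻¹ * (c : G))⁻¹ * v * (g⁻¹ * (c : G))) := by rw [hv]; group
          · change (g⁻¹ * (c : G)) * ((g⁻¹ * (c : G))⁻¹ * v * (g⁻¹ * (c : G))) * (g⁻¹ * (c : G))⁻¹ = v
            group
      rw [← h1]
      exact (card_map_of_injective (MulAut.conj (g⁻¹ * (c : G))).injective).symm
    rw [hcard]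
    exact h125
  · -- type `5^2`
    apply LThree.Comps.of_solvable
    let t' : ↥(centralizer ({x} : Set G)) := ⟨L'.t, mem_centralizer_singleton_iff.2 htx⟩
    have ht' : orderOf t' = 2 := by rw [← Subgroup.orderOf_coe]; exact L'.orderOf_t
    refine TwoCov.solvable_of_two FT ht' ?_
    intro g k hk hgt
    have hgt' : (g : G) * L'.t = L'.t * g := congrArg Subtype.val hgt
    have hgx : (g : G) * x = x * g := mem_centralizer_singleton_iff.1 g.2
    have hk' : (g : G) ^ 2 ^ k = 1 := by
      have h0 := congrArg Subtype.val hk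
      exact h0
    rcases two_elements L'.K hty (g := ⟨(g : G), L'.mem_iff.2 hgt'⟩) (Subtype.ext hgx) (k := k)
      (Subtype.ext hk') with h | h
    · left
      have h0 : (g : G) = 1 := congrArg Subtype.val h
      exact Subtype.ext h0
    · right
      have h0 : (g : G) = (L'.K.z : ↥(centralizer ({L'.t} : Set G))) := congrArg Subtype.val h
      exact Subtype.ext (h0.trans L'.hz)

end Cfsg.Agent.CpAut.LyFive

end

-- merged: Cfsg.Agent.CpAut.LyFiveRow
section

/-!
# S1814: the row `AutC 5 Ly`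
-/

set_option autoImplicit false
set_option maxRecDepth 100000

namespace Cfsg.Agent.CpAut.LyFiveRow

open Subgroup Equiv Cfsg.Agent.TypeM.Two Cfsg.Agent.Ly.Mat7 Cfsg.Agent.Ly.Upper Cfsg.Agent.Ly.Setup

/-- `[c, a⁻¹ c a]` -/
def wz : List ℕ := [6, 4, 6, 0, 2, 4, 2, 0]
/-- `a ^ 4` -/
def wt : List ℕ := [0, 0, 0, 0]
/-- `[a, b]` -/
def ww : List ℕ := [4, 5, 0, 1]
/-- `c` -/
def wc : List ℕ := [2]
/-- `a⁻¹ c a` -/
def wd : List ℕ := [4, 2, 0]

theorem z_pow : eqW (wz ++ wz ++ wz ++ wz ++ wz) [] = true := by decide +kernel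
theorem t_pow : eqW (wt ++ wt) [] = true := by decide +kernel
theorem w_pow : eqW (ww ++ ww ++ ww) [] = true := by decide +kernel
theorem c_pow : eqW (wc ++ wc ++ wc ++ wc ++ wc) [] = true := by decide +kernel
theorem d_pow : eqW (wd ++ wd ++ wd ++ wd ++ wd) [] = true := by decide +kernel
theorem z_ne : eqW wz [] = false := by decide +kernel
theorem t_ne : eqW wt [] = false := by decide +kernel
theorem w_ne : eqW ww [] = false := by decide +kernel
theorem tz : eqW (wt ++ wz) (wz ++ wt) = true := by decide +kernel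
theorem wtw : eqW (ww ++ wt) (wt ++ ww) = true := by decide +kernel
theorem wzw : eqW (ww ++ wz) (wz ++ ww) = true := by decide +kernel
theorem cz : eqW (wc ++ wz) (wz ++ wc) = true := by decide +kernel
theorem dz : eqW (wd ++ wz) (wz ++ wd) = true := by decide +kernel
theorem cd : eqW (wc ++ wd) (wd ++ (wc ++ wz)) = true := by decide +kernel

/-- words with different matrices -/
theorem word_ne {v : List ℕ} (h : eqW v [] = false) : ev gen v ≠ 1 := by
  intro h1
  have h2 : toM (evalK v oneN) = toM (evalK [] oneN) := by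
    have e1 := (evalK_spec v oneN_ok)
    have e2 := (evalK_spec [] oneN_ok)
    rw [e1.2, e2.2, h1, ev_nil]
  have h3 := toM_inj (evalK_spec v oneN_ok).1 (evalK_spec [] oneN_ok).1 h2
  rw [eqW, h3] at h
  simp at h

section Cubed

variable {C : Type*} [Group C] [Finite C]

/-- a non-abelian group generated by two elements of order `5` with central commutator of order `5` -/
theorem cubed_dvd {a b z : C} (ha : a ^ 5 = 1) (hb : b ^ 5 = 1) (hz : z ^ 5 = 1) (hz1 : z ≠ 1)
    (haz : a * z = z * a) (hbz : b * z = z * b) (hab : a * b = b * (a * z)) : 5 ^ 3 ∣ Nat.card C := by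
  have : Fact (Nat.Prime 5) := ⟨Nat.prime_five⟩
  have hp : ∀ {g : C}, g ^ 5 = 1 → IsPGroup 5 ↥(zpowers g) := by
    intro g hg
    rw [IsPGroup.iff_card]
    rw [Nat.card_zpowers]
    have h1 : orderOf g ∣ 5 ^ 1 := by rw [pow_one]; exact orderOf_dvd_of_pow_eq_one hg
    obtain ⟨k, -, hk⟩ := (Nat.dvd_prime_pow Nat.prime_five).1 h1
    exact ⟨k, hk⟩
  have hcz : ∀ g : C, g * z = z * g → zpowers g ≤ normalizer (zpowers z : Set C) := by
    intro g hg
    rw [zpowers_le]
    apply Subgroup.centralizer_le_normalizer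
    rw [mem_centralizer_iff]
    rintro _ ⟨n, rfl⟩
    have h1 : Commute g z := hg
    exact (h1.zpow_right n).symm.eq
  have hA : IsPGroup 5 ↥(zpowers a ⊔ zpowers z) := IsPGroup.to_sup_of_normal_right' (hp ha) (hp hz) (hcz a haz)
  have hBA : zpowers b ≤ normalizer ((zpowers a ⊔ zpowers z : Subgroup C) : Set C) := by
    rw [zpowers_le, mem_normalizer_iff]
    have h1 : ∀ g : C, g ∈ zpowers a ⊔ zpowers z → b⁻¹ * g * b ∈ zpowers a ⊔ zpowers z := by
      have h2 : zpowers a ⊔ zpowers z ≤ (zpowers a ⊔ zpowers z).comap (MulAut.conj b⁻¹).toMonoidHom := by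
        rw [sup_le_iff, zpowers_le, zpowers_le]
        constructor
        · change b⁻¹ * a * b⁻¹⁻¹ ∈ (zpowers a ⊔ zpowers z : Subgroup C)
          have h3 : b⁻¹ * a * b⁻¹⁻¹ = a * z := by
            rw [inv_inv, mul_assoc, hab]; group
          rw [h3]
          exact mul_mem (mem_sup_left (mem_zpowers a)) (mem_sup_right (mem_zpowers z))
        · change b⁻¹ * z * b⁻¹⁻¹ ∈ (zpowers a ⊔ zpowers z : Subgroup C)
          have h3 : b⁻¹ * z * b⁻¹⁻¹ = z := by
            rw [inv_inv, mul_assoc, ← hbz]; group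
          rw [h3]
          exact mem_sup_right (mem_zpowers z)
      intro g hg
      have h3 := h2 hg
      have h4 : b⁻¹ * g * b⁻¹⁻¹ ∈ zpowers a ⊔ zpowers z := h3
      rwa [inv_inv] at h4
    have h5 : ∀ (n : ℕ) (g : C), g ∈ zpowers a ⊔ zpowers z → (b ^ n)⁻¹ * g * b ^ n ∈ zpowers a ⊔ zpowers z := by
      intro n
      induction n with
      | zero => intro g hg; simpa using hg
      | succ n ih =>
        intro g hg
        have h6 := h1 _ (ih g hg)
        have h7 : b⁻¹ * ((b ^ n)⁻¹ * g * b ^ n) * b = (b ^ (n + 1))⁻¹ * g * b ^ (n + 1) := by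
          rw [pow_succ]; group
        rwa [h7] at h6
    have hb4 : (b ^ 4)⁻¹ = b := by
      rw [inv_eq_iff_mul_eq_one, ← pow_succ]
      exact hb
    intro g
    constructor
    · intro hg
      have h6 := h5 4 g hg
      rw [hb4] at h6
      have h7 : b ^ 4 = b⁻¹ := by rw [← inv_inv (b ^ 4), hb4]
      rwa [h7] at h6
    · intro hg
      have h6 := h1 _ hg
      have h7 : b⁻¹ * (b * g * b⁻¹) * b = g := by group
      rwa [h7] at h6
  have hK : IsPGroup 5 ↥(zpowers b ⊔ (zpowers a ⊔ zpowers z)) := IsPGroup.to_sup_of_normal_right' (hp hb) hA hBA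
  obtain ⟨n, hn⟩ := (IsPGroup.iff_card).1 hK
  have haK : a ∈ zpowers b ⊔ (zpowers a ⊔ zpowers z) := mem_sup_right (mem_sup_left (mem_zpowers a))
  have hbK : b ∈ zpowers b ⊔ (zpowers a ⊔ zpowers z) := mem_sup_left (mem_zpowers b)
  have hne : a * b ≠ b * a := by
    intro h
    rw [h] at hab
    apply hz1
    have h1 : a = a * z := mul_left_cancel hab
    exact (mul_eq_left.1 h1.symm)
  have h3 : 3 ≤ n := by
    by_contra hc
    have h2 : n ≤ 2 := by omega
    apply hne
    have hcomm : ∀ x y : ↥(zpowers b ⊔ (zpowers a ⊔ zpowers z)), x * y = y * x := by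
      interval_cases n
      · rw [pow_zero] at hn
        have := Nat.card_eq_one_iff_unique.1 hn
        have := this.1
        intro x y
        exact Subsingleton.elim _ _
      · rw [pow_one] at hn
        have h4 := isCyclic_of_prime_card hn
        intro x y
        exact (IsCyclic.commutative (α := ↥(zpowers b ⊔ (zpowers a ⊔ zpowers z)))).is_comm.comm x y
      · have := IsPGroup.isMulCommutative_of_card_eq_prime_sq hn
        intro x y
        exact mul_comm' x y
    exact congrArg Subtype.val (hcomm ⟨a, haK⟩ ⟨b, hbK⟩)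
  have h4 : 5 ^ 3 ∣ 5 ^ n := pow_dvd_pow 5 h3
  rw [← hn] at h4
  exact h4.trans (Subgroup.card_subgroup_dvd_card _)

end Cubed

/-- the image of a word -/
noncomputable def pw (v : List ℕ) : Cfsg.Spor.Ly := psi (ev Data.hgen v)

theorem pw_append (v w : List ℕ) : pw (v ++ w) = pw v * pw w := by rw [pw, ev_append, map_mul]; rfl

theorem pw_nil : pw [] = 1 := by rw [pw, ev_nil, map_one]

theorem pw_eq {v w : List ℕ} (h : eqW v w = true) : pw v = pw w := by
  rw [pw, pw]
  congr 1
  apply Subtype.ext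
  rw [Data.coe_ev, Data.coe_ev]
  exact word_eq h

theorem pw_ne {v : List ℕ} (h : eqW v [] = false) : pw v ≠ 1 := by
  intro h1
  apply word_ne h
  have h2 : ev Data.hgen v = 1 := psi_injective (by rw [map_one]; exact h1)
  rw [← Data.coe_ev, h2]
  rfl

theorem pow_five {g : Cfsg.Spor.Ly} (h : g * g * g * g * g = 1) : g ^ 5 = 1 := by
  rw [pow_succ, pow_succ, pow_succ, pow_two]; exact h

theorem z_five : pw wz ^ 5 = 1 := by
  apply pow_five
  have h := pw_eq z_pow
  rwa [pw_append, pw_append, pw_append, pw_append, pw_nil] at h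

theorem c_five : pw wc ^ 5 = 1 := by
  apply pow_five
  have h := pw_eq c_pow
  rwa [pw_append, pw_append, pw_append, pw_append, pw_nil] at h

theorem d_five : pw wd ^ 5 = 1 := by
  apply pow_five
  have h := pw_eq d_pow
  rwa [pw_append, pw_append, pw_append, pw_append, pw_nil] at h

theorem cubed : 5 ^ 3 ∣ Nat.card ↥(centralizer ({pw wz} : Set Cfsg.Spor.Ly)) := by
  have : Finite Cfsg.Spor.Ly := Nat.finite_of_card_ne_zero (by rw [card_ly]; norm_num)
  have hcz : pw wc * pw wz = pw wz * pw wc := by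
    have h := pw_eq cz
    rwa [pw_append, pw_append] at h
  have hdz : pw wd * pw wz = pw wz * pw wd := by
    have h := pw_eq dz
    rwa [pw_append, pw_append] at h
  have hcd : pw wc * pw wd = pw wd * (pw wc * pw wz) := by
    have h := pw_eq cd
    rwa [pw_append, pw_append, pw_append] at h
  refine cubed_dvd (a := ⟨pw wc, mem_centralizer_singleton_iff.2 hcz⟩)
    (b := ⟨pw wd, mem_centralizer_singleton_iff.2 hdz⟩) (z := ⟨pw wz, mem_centralizer_singleton_iff.2 rfl⟩)
    (Subtype.ext c_five) (Subtype.ext d_five) (Subtype.ext z_five) ?_ (Subtype.ext hcz) (Subtype.ext hdz)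
    (Subtype.ext hcd)
  intro h
  exact pw_ne z_ne (congrArg Subtype.val h)

theorem exists_data : ∃ z₀ t₀ w₀ : Cfsg.Spor.Ly, orderOf z₀ = 5 ∧ orderOf t₀ = 2 ∧ orderOf w₀ = 3 ∧
    t₀ * z₀ = z₀ * t₀ ∧ w₀ * t₀ = t₀ * w₀ ∧ w₀ * z₀ = z₀ * w₀ ∧
      5 ^ 3 ∣ Nat.card ↥(centralizer ({z₀} : Set Cfsg.Spor.Ly)) := by
  have : Fact (Nat.Prime 5) := ⟨Nat.prime_five⟩
  have : Fact (Nat.Prime 3) := ⟨Nat.prime_three⟩
  have : Fact (Nat.Prime 2) := ⟨Nat.prime_two⟩
  refine ⟨pw wz, pw wt, pw ww, orderOf_eq_prime z_five (pw_ne z_ne), orderOf_eq_prime ?_ (pw_ne t_ne),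
    orderOf_eq_prime ?_ (pw_ne w_ne), ?_, ?_, ?_, cubed⟩
  · have h := pw_eq t_pow
    rw [pw_append, pw_nil] at h
    rw [pow_two]; exact h
  · have h := pw_eq w_pow
    rw [pw_append, pw_append, pw_nil] at h
    rw [pow_succ, pow_two]; exact h
  · have h := pw_eq tz
    rwa [pw_append, pw_append] at h
  · have h := pw_eq wtw
    rwa [pw_append, pw_append] at h
  · have h := pw_eq wzw
    rwa [pw_append, pw_append] at h

theorem autInner (p : ℕ) : AutInner p Cfsg.Spor.Ly := by
  intro x _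
  obtain ⟨g, hg⟩ := TypeM.OutLyFin.inner_ly x
  exact ⟨g, hg.symm⟩

theorem autC_ly (FT : ∀ (K : Type) [Group K] [Finite K], Odd (Nat.card K) → Group.IsSolvable K) :
    AutC 5 Cfsg.Spor.Ly := by
  have : Finite Cfsg.Spor.Ly := Nat.finite_of_card_ne_zero (by rw [card_ly]; norm_num)
  obtain ⟨L⟩ := TypeM.FactsLy.exists_mt_ly
  refine autC_of_inner (center_eq_bot_of_simple ?_) (autInner 5) ?_
  · intro h
    have := pw_eq cd
    rw [pw_append, pw_append, pw_append, ← mul_assoc, h.is_comm.comm (pw wc) (pw wd)] at this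
    exact pw_ne z_ne (mul_eq_left.1 this.symm)
  · intro g hg
    exact LyFive.comps_five FT L exists_data hg

/-- **The row `AutC 5 Ly`.** -/
theorem autC {X : Type*} [Group X] (h : Cfsg.Spor.IsoLy X)
    (FT : ∀ (K : Type) [Group K] [Finite K], Odd (Nat.card K) → Group.IsSolvable K) : AutC 5 X := by
  obtain ⟨e⟩ := h
  exact (autC_ly FT).congr e.symm

end Cfsg.Agent.CpAut.LyFiveRow

end

private theorem dce_5267ee2158cd : _root_.True := by
  try have : _root_.True := by simp only [_root_.Cfsg.Agent.CpAut.LyFiveRow.pw.eq_1]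
  try have : _root_.True := by simp only [_root_.Cfsg.Agent.Ly.Mat7.eqW.eq_1]
  exact _root_.True.intro
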