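import Mathlib
import Cfsg.Agent.CpAut.RgdTwStd
import Cfsg.Agent.CpAut.RgdNoComp
import Cfsg.Agent.Mrg.ParSys.Fam.D4
import Cfsg.Agent.KFacts.RgdFiltTwAll
import Cfsg.Agent.S1071
import Cfsg.Agent.Prune
set_option linter.all false
prune_inst 0x7f00000000000000000000000000000000000000000000000000000000000000000000000000000000000000000000000000000000000000000000000000000000000000000000000000000000000000003fffffffffffffffffffffffffffbeffbdffffffff
open scoped Cfsg.Agent.FastGrp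

/-!
# S1814: `³D₄(q)` in characteristic `p ≥ 5`

* `swap_equiv` : the two orientations of `³D₄` over a field are isomorphic;
* `map_DD` : the fixed points on the root groups of a standard field automorphism `τ` generate `³D₄` over the fixed
  field;
* `autC_twistedD4` : `AutC p ³D₄(q)` for `p ≠ 2, 3`.
-/

set_option autoImplicit false
set_option linter.unusedSectionVars false
set_option maxHeartbeats 400000

namespace Cfsg.Agent.CpAut.RgdTwD4

open CoxeterSystem Cfsg.Agent.ChevalleyStructure.CoxeterGeom Cfsg.Agent.Tits.Roots Cfsg.Agent.Tits.Core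
  Cfsg.Agent.Tits.Exchange Cfsg.Agent.Nodes.Reps Cfsg.Agent.Nodes.BNOf Cfsg.Agent.Nodes.StabComb
  Cfsg.Agent.Nodes.Bruhat Cfsg.Agent.Nodes.OppDec Cfsg.Agent.Nodes.RGDTwGen Cfsg.Agent.Nodes.RGDChev
  Cfsg.Agent.Nodes.RGDFold Cfsg.Agent.Nodes.RGDFoldSL
open Cfsg.Agent.KFacts.RgdOpp Cfsg.Agent.KFacts.RgdAut Cfsg.Agent.KFacts.RgdDiag Cfsg.Agent.KFacts.RgdRigid
  Cfsg.Agent.KFacts.RgdField Cfsg.Agent.KFacts.RgdTau Cfsg.Agent.KFacts.RgdNodes
open Cfsg.Lie Cfsg.Agent.ChevalleyStructure Cfsg.Agent.ChevalleyStructure.Elts Cfsg.Agent.ChevStructure.FieldMap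
open Cfsg.Agent.ChevalleyStructure.SL2Hom (up lo)
open Cfsg.Agent.ChevalleyStructure.SignedSymm
open Cfsg.Agent.KFacts.TwDFour.Out
open Cfsg.Agent.Nodes.RGDTwD4 Cfsg.Agent.Nodes.RGDTwNode.D4
open Cfsg.Agent.ParSys.Fam.D4 (hf)
open Cfsg.Agent.CpAut.RgdFix Cfsg.Agent.CpAut.RgdCoh Cfsg.Agent.CpAut.RgdConj Cfsg.Agent.CpAut.RgdSub
  Cfsg.Agent.CpAut.RgdTwStd
open Cfsg.Agent.LThree (Comps)

universe u

/-! ### the generators -/

section Words

theorem hD4 : InList chevD4 := hp.inList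

variable {K : Type u} [Field K] {q q' : ℕ}

theorem tw_le_iff (M : Subgroup (GL chevD4.Idx K)) :
    twistedD4 K q ≤ M ↔
      (∀ t : K, t ^ q = t → ∀ r ∈ [14, 9], xG hD4 r t ∈ M) ∧
      (∀ t : K, ∀ rs ∈ [(18, 13, 12), (5, 10, 11)],
        xG hD4 rs.1 t * (xG hD4 rs.2.1 (t ^ q) * xG hD4 rs.2.2 (t ^ (q ^ 2))) ∈ M) := by
  have e1 : ∀ (r : ℕ) (t : K), xG hD4 r t = wordG hD4 [(r, t)] := by
    intro r t
    rw [wordG_cons, wordG_nil, mul_one]
  have e2 : ∀ (rs : ℕ × ℕ × ℕ) (t : K), xG hD4 rs.1 t * (xG hD4 rs.2.1 (t ^ q) * xG hD4 rs.2.2 (t ^ (q ^ 2))) =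
      wordG hD4 [(rs.1, t), (rs.2.1, t ^ q), (rs.2.2, t ^ (q ^ 2))] := by
    intro rs t
    rw [wordG_cons, wordG_cons, wordG_cons, wordG_nil, mul_one]
  constructor
  · intro h
    constructor
    · intro t ht r hr
      refine h (Subgroup.subset_closure ⟨[(r, t)], Or.inl ⟨t, ht, r, hr, rfl⟩, ?_⟩)
      rw [e1, coe_wordG]
    · intro t rs hrs
      refine h (Subgroup.subset_closure ⟨[(rs.1, t), (rs.2.1, t ^ q), (rs.2.2, t ^ (q ^ 2))],
        Or.inr ⟨t, rs, hrs, rfl⟩, ?_⟩)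
      rw [e2, coe_wordG]
  · rintro ⟨h1, h2⟩
    refine (Subgroup.closure_le M).2 ?_
    rintro g ⟨w, (⟨t, ht, r, hr, rfl⟩ | ⟨t, rs, hrs, rfl⟩), hg⟩
    · have e : g = xG hD4 r t := by
        apply Units.ext
        rw [hg, e1, coe_wordG]
      rw [e]
      exact h1 t ht r hr
    · have e : g = xG hD4 rs.1 t * (xG hD4 rs.2.1 (t ^ q) * xG hD4 rs.2.2 (t ^ (q ^ 2))) := by
        apply Units.ext
        rw [hg, e2, coe_wordG]
      rw [e]
      exact h2 t rs hrs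

theorem single_mem {t : K} (ht : t ^ q = t) {r : ℕ} (hr : r ∈ [14, 9]) : xG hD4 r t ∈ twistedD4 K q :=
  ((tw_le_iff _).1 le_rfl).1 t ht r hr

theorem triple_mem (t : K) {rs : ℕ × ℕ × ℕ} (hr : rs ∈ [(18, 13, 12), (5, 10, 11)]) :
    xG hD4 rs.1 t * (xG hD4 rs.2.1 (t ^ q) * xG hD4 rs.2.2 (t ^ (q ^ 2))) ∈ twistedD4 K q :=
  ((tw_le_iff _).1 le_rfl).2 t rs hr

theorem tw_congr (h : ∀ t : K, t ^ q = t ^ q') : twistedD4 K q = twistedD4 K q' := by
  have h2 : ∀ t : K, t ^ (q ^ 2) = t ^ (q' ^ 2) := by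
    intro t
    rw [pow_two q, pow_mul, h, h, ← pow_mul, ← pow_two]
  have h1 : d4Words K q = d4Words K q' := by
    unfold d4Words
    simp only [h, h2]
  unfold twistedD4
  rw [h1]

theorem le_comap (τ : K ≃+* K) (q : ℕ) :
    twistedD4 K q ≤ (twistedD4 K q).comap (glEquiv chevD4 τ).toMonoidHom := by
  rw [tw_le_iff]
  refine ⟨fun t ht r hr => ?_, fun t rs hr => ?_⟩
  · show glEquiv chevD4 τ (xG hD4 r t) ∈ twistedD4 K q
    rw [glE_xG]
    exact single_mem (by rw [← map_pow, ht]) hr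
  · show glEquiv chevD4 τ (xG hD4 rs.1 t * (xG hD4 rs.2.1 (t ^ q) * xG hD4 rs.2.2 (t ^ (q ^ 2)))) ∈ twistedD4 K q
    rw [map_mul, map_mul, glE_xG, glE_xG, glE_xG, map_pow, map_pow]
    exact triple_mem (τ t) hr

theorem map_tw (τ : K ≃+* K) (q : ℕ) : (twistedD4 K q).map (glEquiv chevD4 τ).toMonoidHom = twistedD4 K q := by
  refine le_antisymm (Subgroup.map_le_iff_le_comap.2 (le_comap τ q)) fun g hg => ?_
  refine ⟨glEquiv chevD4 τ⁻¹ g, le_comap τ⁻¹ q hg, ?_⟩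
  show glEquiv chevD4 τ (glEquiv chevD4 τ⁻¹ g) = g
  rw [← glE_mul, mul_inv_cancel, glE_one]

/-! ### the two orientations -/

/-- Tables of the graph symmetry `[0, 1, 3, 2]` of `D₄`. -/
def tabS : Tables where
  rho := [0, 1, 3, 2, 4, 5, 6, 8, 7, 9, 11, 10, 13, 12, 14, 16, 15, 17, 18, 19, 21, 20, 22, 23]
  rhoInv := [0, 1, 3, 2, 4, 5, 6, 8, 7, 9, 11, 10, 13, 12, 14, 16, 15, 17, 18, 19, 21, 20, 22, 23]
  eps := [1, 1, 1, 1, 1, 1, 1, 1, 1, 1, 1, 1, 1, 1, 1, 1, 1, 1, 1, 1, 1, 1, 1, 1]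
  rho0 := [0, 1, 3, 2]
  rho0Inv := [0, 1, 3, 2]
  del := [1, 1, 1, 1]

set_option maxRecDepth 100000 in
theorem checkS : tabS.check chevD4 = true := by decide +kernel

/-- The graph symmetry `[0, 1, 3, 2]` of `D₄`. -/
def symS : Symm chevD4 := Tables.toSymm checkS

theorem symS_eps : ∀ r : Fin chevD4.nroots, symS.ε r = 1 := by decide +kernel

theorem symS_sigma : ∀ rs ∈ [(14, 14), (9, 9), (18, 18), (13, 12), (12, 13), (5, 5), (10, 11), (11, 10)],
    ∃ h : rs.1 < chevD4.nroots, (symS.σ ⟨rs.1, h⟩).val = rs.2 := by decide +kernel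

theorem P_xG {r s : ℕ}
    (h : (r, s) ∈ [(14, 14), (9, 9), (18, 18), (13, 12), (12, 13), (5, 5), (10, 11), (11, 10)]) (t : K) :
    MulAut.conj (symS.P K) (xG hD4 r t) = xG hD4 s t := by
  obtain ⟨hr, hs⟩ := symS_sigma _ h
  have h1 := symS.mat_conj_x K ⟨r, hr⟩ t
  rw [symS_eps, Int.cast_one, one_mul, hs] at h1
  apply Units.ext
  exact h1

theorem swap_le (h : ∀ t : K, (t ^ q) ^ q = t ^ q') (h' : ∀ t : K, (t ^ q') ^ q' = t ^ q) :
    twistedD4 K q ≤ (twistedD4 K q').comap (MulAut.conj (symS.P K)).toMonoidHom := by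
  rw [tw_le_iff]
  refine ⟨fun t ht r hr => ?_, fun t rs hr => ?_⟩
  · rw [Subgroup.mem_comap]
    show MulAut.conj (symS.P K) (xG hD4 r t) ∈ twistedD4 K q'
    have ht' : t ^ q' = t := by rw [← h, ht, ht]
    have hr' := hr
    simp only [List.mem_cons, List.not_mem_nil, or_false] at hr'
    rcases hr' with rfl | rfl
    · rw [P_xG (s := 14) (by simp)]
      exact single_mem ht' hr
    · rw [P_xG (s := 9) (by simp)]
      exact single_mem ht' hr
  · rw [Subgroup.mem_comap]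
    show MulAut.conj (symS.P K) (xG hD4 rs.1 t * (xG hD4 rs.2.1 (t ^ q) * xG hD4 rs.2.2 (t ^ (q ^ 2)))) ∈
      twistedD4 K q'
    rw [map_mul, map_mul]
    have e1 : t ^ (q ^ 2) = t ^ q' := by rw [pow_two, pow_mul, h]
    have e2 : t ^ q = t ^ (q' ^ 2) := by rw [pow_two, pow_mul, h']
    have hr' := hr
    simp only [List.mem_cons, List.not_mem_nil, or_false] at hr'
    rcases hr' with rfl | rfl
    · have hc : Commute (xG hD4 12 (t ^ (q' ^ 2))) (xG hD4 13 (t ^ q')) :=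
        commute_of_nil hp (by decide +kernel) (by decide +kernel) (by decide +kernel) (by decide +kernel)
          (by decide +kernel) _ _
      show MulAut.conj (symS.P K) (xG hD4 18 t) * (MulAut.conj (symS.P K) (xG hD4 13 (t ^ q)) *
        MulAut.conj (symS.P K) (xG hD4 12 (t ^ (q ^ 2)))) ∈ _
      rw [P_xG (r := 18) (s := 18) (by simp), P_xG (r := 13) (s := 12) (by simp), P_xG (r := 12) (s := 13) (by simp),
        e1, e2, hc.eq]
      exact (triple_mem t hr :)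
    · have hc : Commute (xG hD4 11 (t ^ (q' ^ 2))) (xG hD4 10 (t ^ q')) :=
        commute_of_nil hp (by decide +kernel) (by decide +kernel) (by decide +kernel) (by decide +kernel)
          (by decide +kernel) _ _
      show MulAut.conj (symS.P K) (xG hD4 5 t) * (MulAut.conj (symS.P K) (xG hD4 10 (t ^ q)) *
        MulAut.conj (symS.P K) (xG hD4 11 (t ^ (q ^ 2)))) ∈ _
      rw [P_xG (r := 5) (s := 5) (by simp), P_xG (r := 10) (s := 11) (by simp), P_xG (r := 11) (s := 10) (by simp),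
        e1, e2, hc.eq]
      exact (triple_mem t hr :)

/-- conjugation by the graph symmetry -/
noncomputable def swapHom (h : ∀ t : K, (t ^ q) ^ q = t ^ q') (h' : ∀ t : K, (t ^ q') ^ q' = t ^ q) :
    ↥(twistedD4 K q) →* ↥(twistedD4 K q') :=
  ((MulAut.conj (symS.P K)).toMonoidHom.comp (twistedD4 K q).subtype).codRestrict (twistedD4 K q')
    fun g => swap_le h h' g.2

theorem swapHom_injective (h : ∀ t : K, (t ^ q) ^ q = t ^ q') (h' : ∀ t : K, (t ^ q') ^ q' = t ^ q) :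
    Function.Injective (swapHom h h') := by
  intro a b hab
  have h1 : MulAut.conj (symS.P K) (a : GL chevD4.Idx K) = MulAut.conj (symS.P K) (b : GL chevD4.Idx K) :=
    congrArg Subtype.val hab
  exact Subtype.ext ((MulAut.conj (symS.P K)).injective h1)

/-- **The two orientations of `³D₄` are isomorphic.** -/
theorem swap_equiv [Finite K] (h : ∀ t : K, (t ^ q) ^ q = t ^ q') (h' : ∀ t : K, (t ^ q') ^ q' = t ^ q) :
    Nonempty (↥(twistedD4 K q) ≃* ↥(twistedD4 K q')) := by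
  have h1 := Nat.card_le_card_of_injective _ (swapHom_injective h' h)
  exact ⟨MulEquiv.ofBijective (swapHom h h')
    ((swapHom_injective h h').bijective_of_nat_card_le h1)⟩

end Words

section Std

variable {K : Type u} [Field K] [Fintype K] {q : ℕ} {φ : K →+* K} (hφ : ∀ x, φ x = x ^ q)
  (hK : Fintype.card K = q ^ 3) (τ : K ≃+* K)

include hφ in
theorem tau_phi (a : K) : τ (φ a) = φ (τ a) := by rw [hφ, hφ, map_pow]

include hφ hK in
theorem phi_three (a : K) : φ (φ (φ a)) = a := by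
  rw [hφ, hφ, hφ, ← pow_mul, ← pow_mul]
  have h1 : q * (q * q) = Fintype.card K := by rw [hK]; ring
  rw [h1]
  exact FiniteField.pow_card a

variable (q) in
/-- the standard field automorphism -/
noncomputable def st : MulAut ↥(twistedD4 K q) := fldG τ (map_tw τ q)

/-- the restriction of the field automorphism to the coordinate field of a node -/
noncomputable def rs (i : Fin 2) : KD φ i ≃+* KD φ i := res (KD φ i) τ (mem_Fx_iff (tau_phi hφ τ) _)

theorem st_up (i : Fin 2) (a : KD φ i) :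
    st q τ (PhiD hφ hK i (up a)) = PhiD hφ hK i (up (rs hφ τ i a)) :=
  fldG_up (foldGrp hφ (D4Fixed.twisted_le_fix hK hφ)) (nodeOK i) (hf φ i) (tau_phi hφ τ)
    (map_tw τ q) a

theorem st_n (i : Fin 2) : st q τ (n hφ i) = n hφ i := fldG_nI (map_tw τ q) i _

theorem st_pow {k : ℕ} (hk : τ ^ k = 1) : st q τ ^ k = 1 := fldG_pow τ (map_tw τ q) hk

theorem st_T : _root_.Cfsg.Agent.KFacts.RgdAut.Fix (st q τ) (T K q) := _root_.Cfsg.Agent.CpAut.RgdTwStd.fix_T (map_tw τ q) hD4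

variable {W : Type*} [Group W] (cs : CoxeterSystem CoxeterMatrix.G₂ W)

include cs in
theorem ntau_st (p : ℕ) [Fact p.Prime] [CharP K p] :
    NTau (T K q) (X φ q) (chD hφ hK) (st q τ) (rs hφ τ) :=
  ntau_std (Cfsg.Agent.Nodes.RGDTwD4.rgd cs hK hφ p) (mem_X hφ hK) (PhiD_wS hφ hK) (st_up hφ hK τ) (st_n hφ τ)
    (coordD hφ hK) (st_T τ)

variable {τ}

theorem ntau_of_dtau {β : MulAut ↥(twistedD4 K q)} (S : DTau hφ hK β τ) :
    NTau (T K q) (X φ q) (chD hφ hK) β (rs hφ τ) := ⟨S.diag, fun i t ht => Subtype.ext (S.char i t ht)⟩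

theorem dtau_pow {β : MulAut ↥(twistedD4 K q)} (S : DTau hφ hK β τ) (k : ℕ) : DTau hφ hK (β ^ k) (τ ^ k) := by
  induction k with
  | zero => rw [pow_zero, pow_zero]; exact DTau.one hφ hK
  | succ k ih => rw [pow_succ, pow_succ]; exact ih.mul hφ hK S

include hK in
theorem eq_one_of_rs {p : ℕ} (hp : p.Prime) (hp3 : p ≠ 3) (hτ : τ ^ p = 1) (i : Fin 2) (h : rs hφ τ i = 1) :
    τ = 1 := by
  refine eq_one_of_coprime (n := 3) ((Nat.coprime_primes Nat.prime_three hp).2 hp3.symm)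
    (pow_three_of_trivial (φ := φ) (tau_phi hφ τ) (phi_three hφ hK) fun a ha => ?_) hτ
  have ha' : a ∈ KD φ i := by
    show a ∈ Fx φ _
    rw [mem_Fx]
    exact Function.iterate_fixed ha _
  exact congrArg Subtype.val (congrArg (fun e : KD φ i ≃+* KD φ i => e ⟨a, ha'⟩) h)

/-- the negatives of the roots of the nodes -/
def negO : Fin 2 → List ℕ := ![[9], [5, 10, 11]]

theorem negO_eq : ∀ i : Fin 2, (_root_.Cfsg.Agent.Nodes.RGDTwNode.D4.rep i :: rest i).map chevD4.neg = negO i := by decide +kernel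

theorem coe_up (i : Fin 2) (a : KD φ i) : ((PhiD hφ hK i (up a) : ↥(twistedD4 K q)) : GL chevD4.Idx K) =
    yv (xG hD4) φ (_root_.Cfsg.Agent.Nodes.RGDTwNode.D4.rep i :: rest i) (a : K) :=
  coe_Phi_up (foldGrp hφ (D4Fixed.twisted_le_fix hK hφ)) (nodeOK i) (hf φ i) a

theorem coe_lo (i : Fin 2) (a : KD φ i) : ((PhiD hφ hK i (lo a) : ↥(twistedD4 K q)) : GL chevD4.Idx K) =
    yv (xG hD4) φ (negO i) (a : K) := by
  rw [← negO_eq]
  exact coe_Phi_lo (foldGrp hφ (D4Fixed.twisted_le_fix hK hφ)) (nodeOK i) (hf φ i) a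

variable (τ)

include hφ hK in
/-- **The fixed points on the root groups generate `³D₄` over the fixed field.** -/
theorem map_DD (p : ℕ) [Fact p.Prime] [CharP K p] {m : ℕ} (hm : τ ^ p ^ m = 1) :
    (DD cs isCartan (X φ q) (st q τ)).map (twistedD4 K q).subtype =
      (twistedD4 ↥(fixF τ) q).map (glm chevD4 (fixF τ)) := by
  have : Finite W := finiteW cs
  have R := Cfsg.Agent.Nodes.RGDTwD4.rgd cs hK hφ p
  have hs : ∀ r ∈ [14, 9], ∀ a : K, τ a = a → φ a = a →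
      xG hD4 r a * 1 ∈ (twistedD4 ↥(fixF τ) q).map (glm chevD4 (fixF τ)) := by
    intro r hr a ha ha'
    rw [mul_one]
    refine ⟨xG hD4 r (⟨a, ha⟩ : ↥(fixF τ)), single_mem (Subtype.ext ?_) hr, glm_xG hD4 _ r _⟩
    rw [SubmonoidClass.coe_pow]
    exact (hφ a).symm.trans ha'
  have hd : ∀ rs ∈ [(18, 13, 12), (5, 10, 11)], ∀ a : K, τ a = a →
      xG hD4 rs.1 a * (xG hD4 rs.2.1 (φ a) * (xG hD4 rs.2.2 (φ (φ a)) * 1)) ∈
        (twistedD4 ↥(fixF τ) q).map (glm chevD4 (fixF τ)) := by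
    intro rs hr a ha
    rw [mul_one]
    refine ⟨_, triple_mem (⟨a, ha⟩ : ↥(fixF τ)) hr, ?_⟩
    rw [map_mul, map_mul, glm_xG, glm_xG, glm_xG, SubmonoidClass.coe_pow, SubmonoidClass.coe_pow, hφ, hφ, pow_two,
      pow_mul]
  have hcases : ∀ i : Fin 2, i = 0 ∨ i = 1 := by decide
  apply le_antisymm
  · rw [Subgroup.map_le_iff_le_comap]
    refine DD_le R (mem_X hφ hK) (PhiD_wS hφ hK) (st_up hφ hK τ) (st_n hφ τ) (coordD hφ hK)
      (ntau_st hφ hK τ cs p).diag (st_pow τ hm) (fun i a ha => ?_) (fun i a ha => ?_)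
    · rw [Subgroup.mem_comap]
      show ((PhiD hφ hK i (up a) : ↥(twistedD4 K q)) : GL chevD4.Idx K) ∈ _
      rw [coe_up]
      have ha1 : τ (a : K) = a := congrArg Subtype.val ha
      rcases hcases i with rfl | rfl
      · exact hs 14 (by simp) a ha1 (mem_Fx.1 a.2)
      · exact hd (18, 13, 12) (by simp) a ha1
    · rw [Subgroup.mem_comap]
      show ((PhiD hφ hK i (lo a) : ↥(twistedD4 K q)) : GL chevD4.Idx K) ∈ _
      rw [coe_lo]
      have ha1 : τ (a : K) = a := congrArg Subtype.val ha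
      rcases hcases i with rfl | rfl
      · exact hs 9 (by simp) a ha1 (mem_Fx.1 a.2)
      · exact hd (5, 10, 11) (by simp) a ha1
  · rw [Subgroup.map_le_iff_le_comap, tw_le_iff]
    have hup : ∀ (i : Fin 2) (a : KD φ i), τ (a : K) = a →
        yv (xG hD4) φ (_root_.Cfsg.Agent.Nodes.RGDTwNode.D4.rep i :: rest i) (a : K) ∈ (DD cs isCartan (X φ q) (st q τ)).map (twistedD4 K q).subtype := by
      intro i a ha
      rw [← coe_up hφ hK]
      exact ⟨_, up_mem_DD (mem_X hφ hK) (st_up hφ hK τ) (Subtype.ext ha), rfl⟩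
    have hlo : ∀ (i : Fin 2) (a : KD φ i), τ (a : K) = a →
        yv (xG hD4) φ (negO i) (a : K) ∈ (DD cs isCartan (X φ q) (st q τ)).map (twistedD4 K q).subtype := by
      intro i a ha
      rw [← coe_lo hφ hK]
      exact ⟨_, lo_mem_DD R (mem_X hφ hK) (PhiD_wS hφ hK) (st_up hφ hK τ) (st_n hφ τ) (Subtype.ext ha), rfl⟩
    have h1 : ∀ a : K, φ a = a → a ∈ Fx φ 1 := fun a ha => mem_Fx.2 ha
    have h2 : ∀ a : K, a ∈ Fx φ 3 := fun a => mem_Fx.2 (phi_three hφ hK a)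
    refine ⟨fun t ht r hr => ?_, fun t rs hr => ?_⟩
    · rw [Subgroup.mem_comap, glm_xG, ← mul_one (xG hD4 r (t : K))]
      have ht' : φ (t : K) = t := by
        rw [hφ]
        have := congrArg Subtype.val ht
        rwa [SubmonoidClass.coe_pow] at this
      simp only [List.mem_cons, List.not_mem_nil, or_false] at hr
      rcases hr with rfl | rfl
      · exact hup 0 ⟨t, h1 _ ht'⟩ t.2
      · exact hlo 0 ⟨t, h1 _ ht'⟩ t.2
    · rw [Subgroup.mem_comap]
      have e : (t : K) ^ (q ^ 2) = φ (φ (t : K)) := by rw [hφ, hφ, pow_two, pow_mul]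
      rw [map_mul, map_mul, glm_xG, glm_xG, glm_xG, SubmonoidClass.coe_pow, SubmonoidClass.coe_pow, e, ← hφ,
        ← mul_one (xG hD4 rs.2.2 (φ (φ (t : K))))]
      simp only [List.mem_cons, List.not_mem_nil, or_false] at hr
      rcases hr with rfl | rfl
      · exact hup 1 ⟨t, h2 _⟩ t.2
      · exact hlo 1 ⟨t, h2 _⟩ t.2

include hφ hK in
theorem DD_equiv (p : ℕ) [Fact p.Prime] [CharP K p] {m : ℕ} (hm : τ ^ p ^ m = 1) :
    Nonempty (↥(DD cs isCartan (X φ q) (st q τ)) ≃* ↥(twistedD4 ↥(fixF τ) q)) :=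
  ⟨((DD cs isCartan (X φ q) (st q τ)).equivMapOfInjective (twistedD4 K q).subtype
    (twistedD4 K q).subtype_injective).trans ((MulEquiv.subgroupCongr (map_DD hφ hK τ cs p hm)).trans
    ((twistedD4 ↥(fixF τ) q).equivMapOfInjective (glm chevD4 (fixF τ)) (glm_injective _)).symm)⟩

end Std

/-- the fixed field -/
theorem inC_sub {K : Type} [Field K] [Fintype K] (p : ℕ) [Fact p.Prime] [CharP K p] (hp2 : p ≠ 2) (hp3 : p ≠ 3)
    {q : ℕ} (hq : IsPrimePow q) (hK : Fintype.card K = q ^ 3) {τ : K ≃+* K} (hτ : τ ^ p = 1) (hτ1 : τ ≠ 1) :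
    InC p ↥(twistedD4 ↥(fixF τ) q) := by
  have hp : p.Prime := Fact.out
  have hk := card_fixF hp hτ hτ1
  have := Fintype.ofFinite ↥(fixF τ)
  obtain ⟨q', hq', h1, h2⟩ := exists_root (n := 3) hp Nat.prime_three hp3 hq (k := Nat.card ↥(fixF τ))
    Finite.one_lt_card (by rw [← hk, Nat.card_eq_fintype_card, hK])
  have h4 : ∀ t : ↥(fixF τ), t ^ (q' ^ 3) = t := by
    intro t
    rw [← h1, Nat.card_eq_fintype_card]
    exact FiniteField.pow_card t
  have hK' : Fintype.card ↥(fixF τ) = q' ^ 3 := by rw [← Nat.card_eq_fintype_card, h1]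
  obtain ⟨hs, hna⟩ := Cfsg.Agent.S1071.result hq' hK'
  have := charP_fixF p τ
  have hC : InC p ↥(twistedD4 ↥(fixF τ) q') := by
    refine inC_of_simple hs hna hp2 ?_
    have h5 : IsTwistedE6D4Char p ↥(twistedD4 ↥(fixF τ) q') :=
      ⟨↥(fixF τ), inferInstance, inferInstance, inferInstance, q', hq', Or.inr ⟨hK', ⟨MulEquiv.refl _⟩⟩⟩
    unfold IsLieTypeChar
    (clear * - h5; tauto)
  have hmod : p % 3 = 1 ∨ p % 3 = 2 := by
    have h0 : p % 3 ≠ 0 := fun h => hp3 ((Nat.prime_dvd_prime_iff_eq Nat.prime_three hp).1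
      (Nat.dvd_of_mod_eq_zero h)).symm
    omega
  have hdm := Nat.div_add_mod p 3
  rcases hmod with hm | hm
  · have h3 : ∀ t : ↥(fixF τ), t ^ q = t ^ q' := by
      intro t
      rw [h2, ← hdm, hm, pow_succ, pow_mul, pow_mul q' 3, pow_iter (h4 t)]
    rw [tw_congr h3]
    exact hC
  · have h3 : ∀ t : ↥(fixF τ), t ^ q = t ^ (q' ^ 2) := by
      intro t
      rw [h2, ← hdm, hm, pow_add, pow_mul, pow_mul q' 3, pow_iter (h4 t)]
    have h5 : ∀ t : ↥(fixF τ), (t ^ q) ^ q = t ^ q' := by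
      intro t
      rw [h3, h3, ← pow_mul]
      have e : q' ^ 2 * q' ^ 2 = q' ^ 3 * q' := by ring
      rw [e, pow_mul, h4]
    have h6 : ∀ t : ↥(fixF τ), (t ^ q') ^ q' = t ^ q := by
      intro t
      rw [h3, ← pow_mul, ← pow_two]
    obtain ⟨f⟩ := swap_equiv h5 h6
    exact (CpQuot.Congr.inC_iff f p).2 hC

/-- **`³D₄(q)` in characteristic `p ≥ 5`.** -/
theorem autC_twistedD4 {K : Type} [Field K] [Fintype K] (p : ℕ) [Fact p.Prime] [CharP K p] (hp2 : p ≠ 2)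
    (hp3 : p ≠ 3) {q : ℕ} (hq : IsPrimePow q) (hK : Fintype.card K = q ^ 3) : AutC p ↥(twistedD4 K q) := by
  intro x hx
  have hp : p.Prime := Fact.out
  obtain ⟨φ, hφ⟩ := D4Fixed.exists_frob hq hK
  obtain ⟨cs, hcs⟩ : ∃ cs : CoxeterSystem CoxeterMatrix.G₂ CoxeterMatrix.G₂.Group, cs = cs :=
    ⟨CoxeterMatrix.G₂.toCoxeterSystem, rfl⟩
  have hW : Finite CoxeterMatrix.G₂.Group := finiteW cs
  have R := Cfsg.Agent.Nodes.RGDTwD4.rgd cs hK hφ p
  have hG1 : RGD.Sup (X φ q) {x | IsRoot cs isCartan x} = ⊤ := _root_.Cfsg.Agent.Nodes.RGDTwD4.G1_eq_top cs hK hφ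
  obtain ⟨hs, hna⟩ := Cfsg.Agent.S1071.result hq hK
  have hc : ∃ a b : ↥(twistedD4 K q), a * b ≠ b * a := by
    by_contra hcon
    push Not at hcon
    exact hna ⟨⟨hcon⟩⟩
  have hxp : x ^ p = 1 := by rw [← hx, pow_orderOf_eq_one]
  have hτ : ∀ (β : MulAut ↥(twistedD4 K q)) (τ' : ∀ i, KD φ i ≃+* KD φ i),
      NTau (T K q) (X φ q) (chD hφ hK) β τ' → β ^ p = 1 →
      ∃ τ : K ≃+* K, τ' = rs hφ τ ∧ τ ^ p = 1 := by
    intro β τ' S hβ
    obtain ⟨τ, S'⟩ := exists_dtau hφ hK cs p S.diag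
    refine ⟨τ, NTau.unique (coordD hφ hK) S (ntau_of_dtau hφ hK S'), ?_⟩
    have h2 := dtau_pow hφ hK S' p
    rw [hβ] at h2
    exact DTau.unique hφ hK h2 (DTau.one hφ hK)
  have hrs1 : rs hφ (1 : K ≃+* K) = 1 := by
    funext i
    ext a
    rfl
  rcases RgdNConj.inner_or_conj R hG1 (coordD hφ hK) (fun σ hσ hσ' _ => by
      apply perm_G2 σ
      intro h3
      have h4 := hσ' 0
      rw [h3] at h4
      exact card_ne hφ hK hq.one_lt h4) (fun β τ' S hβ => by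
      obtain ⟨τ, rfl, hτp⟩ := hτ β τ' S hβ
      by_cases h1 : τ = 1
      · left
        rw [h1, hrs1]
      · right
        exact fun i hi => h1 (eq_one_of_rs hφ hK hp hp3 hτp i hi)) hxp with ⟨g, rfl⟩ | ⟨β, τ', S, hβ, hτ1, h1⟩
  · exact RgdNoComp.comps_conj (KFacts.RgdFiltTwAll.hasFilt_D4 hq hK p) hc hx
  · obtain ⟨τ, rfl, hτp⟩ := hτ β τ' S hβ
    have hτ1' : τ ≠ 1 := by
      rintro rfl
      exact hτ1 hrs1
    obtain ⟨e, he⟩ := h1 (st q τ) (st_pow τ hτp) (ntau_st hφ hK τ cs p)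
    obtain ⟨f⟩ := DD_equiv hφ hK τ cs p (m := 1) (by rw [pow_one]; exact hτp)
    have h2 : Comps p ↥(fixedSubgroup (st q τ)) :=
      comps_of_DD R hG1 (ntau_st hφ hK τ cs p).diag (st_pow τ hτp)
        ((CpQuot.Congr.inC_iff f p).2 (inC_sub p hp2 hp3 hq hK hτp hτ1'))
    have h3 : MulAut.congr e (st q τ) = x := by
      rw [he]
      ext y
      rfl
    rw [← h3]
    exact h2.congr (fixEquiv e (st q τ))

end Cfsg.Agent.CpAut.RgdTwD4
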