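import Mathlib
import Cfsg.Agent.CpAut.Descent
import Cfsg.Agent.CpAut.Fix
import Cfsg.Agent.ClassicalGeometry.AutPSL.Main
set_option linter.all false

/-!
# Automorphisms of odd prime order of `PSL_n(F)` (helper21)

* `exists_of_odd` : an automorphism of odd order is `cj A * fld σ`;
* `exists_conj` : if its order is a prime `ℓ` and `σ ≠ 1`, it is conjugate to the field automorphism `fld σ`, and
  `orderOf σ = ℓ`;
* `sett` : the fixed points of `fld σ` on `PSL_n(F)`: the setting of `Fix` with `H₀ = SL_n(F₀)`, `F₀` the fixed field;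
* `inner_of_lin` : `σ = 1` and `ℓ` the characteristic: the automorphism is inner.
-/

set_option autoImplicit false
set_option linter.unusedSectionVars false

namespace Cfsg.Agent.CpAut.Psl

open Matrix Cfsg
open Cfsg.Agent.ClassicalGeometry.AutPSL.Root
open Cfsg.Agent.ClassicalGeometry.AutPSL.Auto
open Cfsg.Agent.ClassicalGeometry.AutPSL.Main
open Cfsg.Agent.CpAut.Descent Cfsg.Agent.CpAut.Fix
open scoped commutatorElement

section Gen

variable {ι F : Type*} [Fintype ι] [DecidableEq ι] [Field F]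

/-- The field automorphism on `GL`. -/
def fgl (σ : F ≃+* F) : GL ι F →* GL ι F := Matrix.GeneralLinearGroup.map (σ : F →+* F)

theorem coe_fgl (σ : F ≃+* F) (A : GL ι F) : (fgl σ A : Matrix ι ι F) = (A : Matrix ι ι F).map σ := rfl

theorem fgl_one (A : GL ι F) : fgl (1 : F ≃+* F) A = A := by
  apply Units.ext
  ext i j
  rfl

theorem fld_mul_cj (σ : F ≃+* F) (A : GL ι F) :
    (fld σ : MulAut (Matrix.SpecialLinearGroup ι F)) * cj A = cj (fgl σ A) * fld σ := by
  apply MulEquiv.ext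
  intro g
  apply Subtype.ext
  have h1 : (((fgl σ A)⁻¹ : GL ι F) : Matrix ι ι F) = ((A⁻¹ : GL ι F) : Matrix ι ι F).map σ := by
    rw [← map_inv]; rfl
  change ((A : Matrix ι ι F) * g.1 * ((A⁻¹ : GL ι F) : Matrix ι ι F)).map σ =
    (A : Matrix ι ι F).map σ * (g.1.map σ) * (((fgl σ A)⁻¹ : GL ι F) : Matrix ι ι F)
  rw [h1]
  change ((A : Matrix ι ι F) * g.1 * ((A⁻¹ : GL ι F) : Matrix ι ι F)).map (σ : F →+* F) =
    (A : Matrix ι ι F).map (σ : F →+* F) * (g.1.map (σ : F →+* F)) * ((A⁻¹ : GL ι F) : Matrix ι ι F).map (σ : F →+* F)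
  rw [Matrix.map_mul, Matrix.map_mul]

theorem cjfld_mul (σ τ : F ≃+* F) (A B : GL ι F) :
    (cj A * fld σ) * (cj B * fld τ) = (cj (A * fgl σ B) * fld (σ * τ) : MulAut (Matrix.SpecialLinearGroup ι F)) := by
  rw [map_mul cj, map_mul fld, mul_assoc, ← mul_assoc (fld σ), fld_mul_cj]
  simp only [mul_assoc]

/-- Inverse transpose of an invertible matrix. -/
def itg (A : GL ι F) : GL ι F where
  val := ((A⁻¹ : GL ι F) : Matrix ι ι F)ᵀ
  inv := (A : Matrix ι ι F)ᵀ
  val_inv := by rw [← transpose_mul, ← Units.val_mul, mul_inv_cancel, Units.val_one, transpose_one]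
  inv_val := by rw [← transpose_mul, ← Units.val_mul, inv_mul_cancel, Units.val_one, transpose_one]

theorem itr_mul_cj (A : GL ι F) :
    (itr : MulAut (Matrix.SpecialLinearGroup ι F)) * cj A = cj (itg A) * itr := by
  apply MulEquiv.ext
  intro g
  apply Subtype.ext
  change (((cj A g)⁻¹ : Matrix.SpecialLinearGroup ι F) : Matrix ι ι F)ᵀ =
    ((A⁻¹ : GL ι F) : Matrix ι ι F)ᵀ * ((g⁻¹ : Matrix.SpecialLinearGroup ι F) : Matrix ι ι F)ᵀ * (A : Matrix ι ι F)ᵀ
  rw [← map_inv, coe_cj, ← transpose_mul, ← transpose_mul, mul_assoc]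

theorem itr_mul_fld (σ : F ≃+* F) :
    (itr : MulAut (Matrix.SpecialLinearGroup ι F)) * fld σ = fld σ * itr := by
  apply MulEquiv.ext
  intro g
  apply Subtype.ext
  change (((fld σ g)⁻¹ : Matrix.SpecialLinearGroup ι F) : Matrix ι ι F)ᵀ =
    (((g⁻¹ : Matrix.SpecialLinearGroup ι F) : Matrix ι ι F)ᵀ).map σ
  rw [← map_inv]
  rfl

/-- The group of the automorphisms `cj A * fld σ`. -/
def Gam (ι F : Type*) [Fintype ι] [DecidableEq ι] [Field F] : Subgroup (MulAut (Matrix.SpecialLinearGroup ι F)) where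
  carrier := {γ | ∃ (A : GL ι F) (σ : F ≃+* F), γ = cj A * fld σ}
  one_mem' := ⟨1, 1, by rw [map_one, map_one, one_mul]⟩
  mul_mem' := by
    rintro _ _ ⟨A, σ, rfl⟩ ⟨B, τ, rfl⟩
    exact ⟨_, _, cjfld_mul σ τ A B⟩
  inv_mem' := by
    rintro _ ⟨A, σ, rfl⟩
    refine ⟨(fgl σ⁻¹ A)⁻¹, σ⁻¹, ?_⟩
    rw [inv_eq_iff_mul_eq_one, cjfld_mul, mul_inv_cancel, map_inv]
    have h1 : fgl σ (fgl σ⁻¹ A) = A := by
      apply Units.ext
      ext i j
      exact σ.apply_symm_apply _
    rw [h1, mul_inv_cancel, map_one, map_one, one_mul]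

theorem itr_mul_mem {γ : MulAut (Matrix.SpecialLinearGroup ι F)} (h : γ ∈ Gam ι F) :
    ∃ γ' ∈ Gam ι F, itr * γ = γ' * itr := by
  obtain ⟨A, σ, rfl⟩ := h
  refine ⟨cj (itg A) * fld σ, ⟨_, _, rfl⟩, ?_⟩
  rw [← mul_assoc, itr_mul_cj, mul_assoc, itr_mul_fld, mul_assoc]

/-- The semilinear permutation `v ↦ A (σ v)`. -/
def perm (A : GL ι F) (σ : F ≃+* F) : Equiv.Perm (ι → F) where
  toFun v := (A : Matrix ι ι F) *ᵥ (fun i => σ (v i))
  invFun v := fun i => σ.symm ((((A⁻¹ : GL ι F) : Matrix ι ι F) *ᵥ v) i)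
  left_inv v := by
    funext i
    change σ.symm ((((A⁻¹ : GL ι F) : Matrix ι ι F) *ᵥ ((A : Matrix ι ι F) *ᵥ (fun i => σ (v i)))) i) = v i
    rw [mulVec_mulVec, ← Units.val_mul, inv_mul_cancel, Units.val_one, one_mulVec, σ.symm_apply_apply]
  right_inv v := by
    change (A : Matrix ι ι F) *ᵥ (fun i => σ (σ.symm ((((A⁻¹ : GL ι F) : Matrix ι ι F) *ᵥ v) i))) = v
    have h1 : (fun i => σ (σ.symm ((((A⁻¹ : GL ι F) : Matrix ι ι F) *ᵥ v) i))) =
        ((A⁻¹ : GL ι F) : Matrix ι ι F) *ᵥ v := by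
      funext i
      exact σ.apply_symm_apply _
    rw [h1, mulVec_mulVec, ← Units.val_mul, mul_inv_cancel, Units.val_one, one_mulVec]

theorem perm_apply (A : GL ι F) (σ : F ≃+* F) (v : ι → F) :
    perm A σ v = (A : Matrix ι ι F) *ᵥ (fun i => σ (v i)) := rfl

theorem comp_mulVec (σ : F ≃+* F) (B : GL ι F) (v : ι → F) :
    (fun i => σ (((B : Matrix ι ι F) *ᵥ v) i)) = (fgl σ B : Matrix ι ι F) *ᵥ (fun i => σ (v i)) := by
  funext i
  change σ (∑ j, (B : Matrix ι ι F) i j * v j) = ∑ j, σ ((B : Matrix ι ι F) i j) * σ (v j)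
  rw [map_sum]
  exact Finset.sum_congr rfl fun j _ => map_mul σ _ _

theorem semi_perm (A : GL ι F) (σ : F ≃+* F) : Semi (perm A σ) σ where
  add u v := by
    rw [perm_apply, perm_apply, perm_apply, ← mulVec_add]
    congr 1
    funext i
    exact map_add σ _ _
  smul a v := by
    rw [perm_apply, perm_apply, ← mulVec_smul]
    congr 1
    funext i
    exact map_mul σ _ _

theorem perm_mul (σ τ : F ≃+* F) (A B : GL ι F) : perm A σ * perm B τ = perm (A * fgl σ B) (σ * τ) := by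
  ext1 v
  rw [Equiv.Perm.mul_apply, perm_apply, perm_apply, comp_mulVec, mulVec_mulVec, ← Units.val_mul]
  rfl

theorem exists_pow (A : GL ι F) (σ : F ≃+* F) (k : ℕ) : ∃ B : GL ι F,
    (cj A * fld σ : MulAut (Matrix.SpecialLinearGroup ι F)) ^ k = cj B * fld (σ ^ k) ∧
      perm A σ ^ k = perm B (σ ^ k) := by
  induction k with
  | zero =>
    refine ⟨1, ?_, ?_⟩
    · rw [pow_zero, pow_zero, map_one, map_one, one_mul]
    · rw [pow_zero, pow_zero]
      ext1 v
      rw [perm_apply, Units.val_one, one_mulVec]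
      rfl
  | succ k ih =>
    obtain ⟨B, h1, h2⟩ := ih
    refine ⟨B * fgl (σ ^ k) A, ?_, ?_⟩
    · rw [pow_succ, h1, cjfld_mul, pow_succ]
    · rw [pow_succ, h2, perm_mul, pow_succ]

/-- `B e_i = b_i` -/
theorem exists_gl (b : Module.Basis ι F (ι → F)) : ∃ B : GL ι F, ∀ w, (B : Matrix ι ι F) *ᵥ w = ∑ i, w i • b i := by
  refine ⟨⟨LinearMap.toMatrix' b.equivFun.symm.toLinearMap, LinearMap.toMatrix' b.equivFun.toLinearMap, ?_, ?_⟩, ?_⟩
  · rw [← LinearMap.toMatrix'_comp, LinearEquiv.comp_coe, LinearEquiv.self_trans_symm]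
    exact LinearMap.toMatrix'_id
  · rw [← LinearMap.toMatrix'_comp, LinearEquiv.comp_coe, LinearEquiv.symm_trans_self]
    exact LinearMap.toMatrix'_id
  · intro w
    change LinearMap.toMatrix' b.equivFun.symm.toLinearMap *ᵥ w = _
    rw [LinearMap.toMatrix'_mulVec]
    exact b.equivFun_symm_apply w

/-- **A semilinear map with `g ^ ℓ = 1` is conjugate to the field automorphism.** -/
theorem perm_conj [Finite F] {ℓ : ℕ} {A : GL ι F} {σ : F ≃+* F} (hσ : orderOf σ = ℓ) (hℓ : 0 < ℓ)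
    (h : perm A σ ^ ℓ = 1) : ∃ B : GL ι F, A * fgl σ B = B := by
  obtain ⟨b, hb⟩ := exists_basis (semi_perm A σ) hσ hℓ h (ι := ι) (by rw [Module.finrank_fintype_fun_eq_card])
  obtain ⟨B, hB⟩ := exists_gl b
  refine ⟨B, ?_⟩
  apply Units.ext
  rw [Units.val_mul, ← mulVec_injective.eq_iff]
  funext v
  obtain ⟨w, rfl⟩ : ∃ w : ι → F, (fun i => σ (w i)) = v := ⟨fun i => σ.symm (v i), funext fun i => σ.apply_symm_apply _⟩
  rw [← mulVec_mulVec, ← comp_mulVec, ← perm_apply, hB, hB, (semi_perm A σ).map_sum]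
  refine Finset.sum_congr rfl fun i _ => ?_
  rw [(semi_perm A σ).smul, hb]

theorem scalar_apply_eq {C : GL ι F} {r : F} (h : scalar ι r = (C : Matrix ι ι F)) (v : ι → F) :
    (C : Matrix ι ι F) *ᵥ v = r • v := by
  rw [← h]
  funext i
  simp [Matrix.scalar_apply, mulVec_diagonal]

theorem scalar_ne_zero [Nonempty ι] {C : GL ι F} {r : F} (h : scalar ι r = (C : Matrix ι ι F)) : r ≠ 0 := by
  rintro rfl
  have h1 : (C : Matrix ι ι F) * ((C⁻¹ : GL ι F) : Matrix ι ι F) = 1 := by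
    rw [← Units.val_mul, mul_inv_cancel, Units.val_one]
  rw [← h, map_zero, zero_mul] at h1
  obtain ⟨i⟩ := (inferInstance : Nonempty ι)
  have h2 := congrFun (congrFun h1 i) i
  rw [one_apply_eq] at h2
  exact zero_ne_one h2

/-- the scalar matrix of a unit -/
def scg (c : Fˣ) : GL ι F where
  val := scalar ι (c : F)
  inv := scalar ι ((c⁻¹ : Fˣ) : F)
  val_inv := by rw [← map_mul, ← Units.val_mul, mul_inv_cancel, Units.val_one, map_one]
  inv_val := by rw [← map_mul, ← Units.val_mul, inv_mul_cancel, Units.val_one, map_one]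

theorem cj_scg (c : Fˣ) : cj (scg (ι := ι) c) = 1 := cj_eq_one_of_scalar (r := (c : F)) rfl

theorem scal_mul_perm (c : Fˣ) (A : GL ι F) (σ : F ≃+* F) : scal (ι → F) c * perm A σ = perm (scg c * A) σ := by
  ext1 v
  rw [Equiv.Perm.mul_apply, scal_apply, perm_apply, perm_apply, Units.val_mul, ← mulVec_mulVec,
    scalar_apply_eq (C := scg c) (r := (c : F)) rfl]

/-- **Automorphisms of prime order which are not linear are conjugate to field automorphisms.** -/
theorem exists_conj [Finite F] [Nontrivial ι] {ℓ : ℕ} (hℓ : ℓ.Prime) {A : GL ι F} {σ : F ≃+* F}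
    (h : (lift (cj A * fld σ)) ^ ℓ = 1) (hσ1 : σ ≠ 1) : orderOf σ = ℓ ∧ ∃ B : GL ι F,
      (cj A * fld σ : MulAut (Matrix.SpecialLinearGroup ι F)) = cj B * fld σ * (cj B)⁻¹ := by
  obtain ⟨D, hD, hD'⟩ := exists_pow A σ ℓ
  rw [← map_pow, hD] at h
  have h1 : lift (cj D * fld (σ ^ ℓ)) = lift (fld (1 : F ≃+* F)) := by rw [h, map_one, map_one]
  obtain ⟨⟨r, hr⟩, h2⟩ := injective_aux h1
  have hord : orderOf σ = ℓ := by
    have : Fact ℓ.Prime := ⟨hℓ⟩
    exact orderOf_eq_prime h2 hσ1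
  refine ⟨hord, ?_⟩
  have hr0 := scalar_ne_zero hr
  have hscal : ∀ v, (perm A σ ^ ℓ) v = r • v := by
    intro v
    rw [hD', perm_apply, scalar_apply_eq hr, h2]
    rfl
  obtain ⟨i⟩ : Nonempty ι := inferInstance
  obtain ⟨c, hc⟩ := exists_scale (semi_perm A σ) hord hℓ.pos hr0 hscal
    ⟨fun _ => 1, fun h => one_ne_zero (congrFun h i)⟩
  rw [scal_mul_perm] at hc
  obtain ⟨B, hB⟩ := perm_conj hord hℓ.pos hc
  refine ⟨B, ?_⟩
  have h3 : A = (scg c)⁻¹ * B * (fgl σ B)⁻¹ := by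
    rw [eq_mul_inv_iff_mul_eq, eq_inv_mul_iff_mul_eq, ← mul_assoc, hB]
  have h4 : (cj A : MulAut (Matrix.SpecialLinearGroup ι F)) = cj B * (cj (fgl σ B))⁻¹ := by
    rw [h3, map_mul, map_mul, map_inv, map_inv, cj_scg, inv_one, one_mul]
  have h5 : fld σ * (cj B)⁻¹ = (cj (fgl σ B))⁻¹ * (fld σ : MulAut (Matrix.SpecialLinearGroup ι F)) := by
    rw [eq_inv_mul_iff_mul_eq, ← mul_assoc, ← fld_mul_cj, mul_inv_cancel_right]
  rw [h4, mul_assoc, mul_assoc, h5]

/-! ### the fixed points of the field automorphism -/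

/-- The fixed field. -/
def fixf (σ : F ≃+* F) : Subfield F := RingHom.eqLocusField (σ : F →+* F) (RingHom.id F)

theorem mem_fixf {σ : F ≃+* F} {a : F} : a ∈ fixf σ ↔ σ a = a := Iff.rfl

/-- `SL_n(F₀) → SL_n(F)` -/
def emb (σ : F ≃+* F) : Matrix.SpecialLinearGroup ι ↥(fixf σ) →* Matrix.SpecialLinearGroup ι F :=
  Matrix.SpecialLinearGroup.map (fixf σ).subtype

theorem coe_emb (σ : F ≃+* F) (h : Matrix.SpecialLinearGroup ι ↥(fixf σ)) (i j : ι) :
    (emb σ h : Matrix ι ι F) i j = ((h : Matrix ι ι ↥(fixf σ)) i j : F) := rfl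

theorem exists_emb {σ : F ≃+* F} {g : Matrix.SpecialLinearGroup ι F} (hg : fld σ g = g) :
    ∃ h, emb σ h = g := by
  have h1 : ∀ i j, σ ((g : Matrix ι ι F) i j) = (g : Matrix ι ι F) i j := by
    intro i j
    rw [← coe_fld_apply, hg]
  let M : Matrix ι ι ↥(fixf σ) := fun i j => ⟨(g : Matrix ι ι F) i j, h1 i j⟩
  have hM : M.map (fixf σ).subtype = (g : Matrix ι ι F) := rfl
  have hdet : M.det = 1 := by
    apply (fixf σ).subtype.injective
    rw [RingHom.map_det, RingHom.mapMatrix_apply, hM, g.2, map_one]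
  refine ⟨⟨M, hdet⟩, ?_⟩
  apply Subtype.ext
  exact hM

theorem sett (ι : Type*) [Fintype ι] [DecidableEq ι] (σ : F ≃+* F) :
    Sett (QuotientGroup.mk' (Subgroup.center (Matrix.SpecialLinearGroup ι F))) (fld σ)
      (lift (fld σ)) (emb (ι := ι) σ) where
  surj := QuotientGroup.mk'_surjective _
  ker := by rw [QuotientGroup.ker_mk']
  compat h := rfl
  inj := by
    intro a b hab
    apply Subtype.ext
    ext i j
    exact congrFun (congrFun (congrArg Subtype.val hab) i) j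
  fix h := by
    apply Subtype.ext
    ext i j
    rw [coe_fld_apply, coe_emb]
    exact (h.1 i j).2
  comm a b ha hb := by
    apply exists_emb
    rw [map_commutatorElement, ha, hb]
  cen h := by
    rw [QuotientGroup.mk'_apply, QuotientGroup.eq_one_iff, Matrix.SpecialLinearGroup.mem_center_iff,
      Matrix.SpecialLinearGroup.mem_center_iff]
    constructor
    · rintro ⟨r, hr, h1⟩
      rcases isEmpty_or_nonempty ι with hι | ⟨⟨i⟩⟩
      · refine ⟨1, one_pow _, ?_⟩
        ext i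
        exact hι.elim i
      · have h2 : (((h : Matrix ι ι ↥(fixf σ)) i i : ↥(fixf σ)) : F) = r := by
          rw [← coe_emb, ← h1]
          simp [Matrix.scalar_apply]
        refine ⟨(h : Matrix ι ι ↥(fixf σ)) i i, ?_, ?_⟩
        · apply Subtype.ext
          rw [SubmonoidClass.coe_pow, h2, hr]
          rfl
        · ext j k
          rw [← coe_emb, ← h1, Matrix.scalar_apply, Matrix.scalar_apply, diagonal_apply, diagonal_apply]
          split_ifs with hjk
          · exact h2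
          · rfl
    · rintro ⟨r, hr, h1⟩
      refine ⟨(r : F), ?_, ?_⟩
      · rw [← SubmonoidClass.coe_pow, hr]
        rfl
      · ext j k
        rw [coe_emb, ← h1, Matrix.scalar_apply, Matrix.scalar_apply, diagonal_apply, diagonal_apply]
        split_ifs with hjk
        · rfl
        · rfl

end Gen

section Main

variable {F : Type*} [Field F] [Fintype F] {n : ℕ}

/-- An automorphism of odd order is a product of a linear and a field automorphism. -/
theorem exists_of_odd (hn : 2 ≤ n) {α : MulAut (Matrix.ProjectiveSpecialLinearGroup (Fin n) F)} {ℓ : ℕ}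
    (hℓ : Odd ℓ) (hα : α ^ ℓ = 1) : ∃ (A : GL (Fin n) F) (σ : F ≃+* F), α = lift (cj A * fld σ) := by
  obtain ⟨p, hp⟩ := CharP.exists F
  have hpp : Fact p.Prime := ⟨CharP.char_is_prime F p⟩
  rcases hn.eq_or_lt with h2 | h3
  · subst h2
    exact surj_two p α
  · rcases surj_three p h3 α with h | ⟨A, σ, h⟩
    · exact h
    · obtain ⟨γ', hγ', h4⟩ := itr_mul_mem (γ := cj A * fld σ) ⟨A, σ, rfl⟩
      have h5 : α ^ 2 = lift (cj A * fld σ * γ') := by
        rw [h, ← map_pow, pow_two, mul_assoc (cj A * fld σ) itr, ← mul_assoc itr, h4, mul_assoc γ', itr_mul_itr,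
          mul_one]
      obtain ⟨k, hk⟩ := hℓ
      have h6 : α = (α ^ 2) ^ (k + 1) := by
        rw [← pow_mul, show 2 * (k + 1) = ℓ + 1 by omega, pow_succ, hα, one_mul]
      rw [h5, ← map_pow] at h6
      obtain ⟨B, τ, h7⟩ := (Gam (Fin n) F).pow_mem ((Gam (Fin n) F).mul_mem (⟨A, σ, rfl⟩ : _ ∈ Gam (Fin n) F) hγ')
        (k + 1)
      exact ⟨B, τ, by rw [h6, h7]⟩

/-- A linear automorphism of order `p`, the characteristic, is inner. -/
theorem inner_of_lin (hn : 2 ≤ n) {p : ℕ} [Fact p.Prime] [CharP F p] {A : GL (Fin n) F}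
    (h : (lift (cj A)) ^ p = 1) :
    lift (cj A) ∈ (MulAut.conj : Matrix.ProjectiveSpecialLinearGroup (Fin n) F →* _).range := by
  have : Nontrivial (Fin n) := Fin.nontrivial_iff_two_le.2 hn
  have : Nonempty (Fin n) := inferInstance
  have h1 : lift (cj (A ^ p) * fld (1 : F ≃+* F)) = lift (fld (1 : F ≃+* F)) := by
    rw [map_one, mul_one, map_pow, map_pow, h, map_one]
  obtain ⟨⟨r, hr⟩, -⟩ := injective_aux h1
  have hr0 := scalar_ne_zero hr
  obtain ⟨c, hc⟩ : ∃ c : F, c ^ p = r := by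
    obtain ⟨c, hc⟩ := (Finite.injective_iff_surjective.1 (frobenius_inj F p)) r
    exact ⟨c, hc⟩
  have hc0 : c ≠ 0 := by
    rintro rfl
    rw [zero_pow (Fact.out : p.Prime).ne_zero] at hc
    exact hr0 hc.symm
  let c' : Fˣ := Units.mk0 c hc0
  obtain ⟨B, hB⟩ : ∃ B : GL (Fin n) F, B = (scg c')⁻¹ * A := ⟨_, rfl⟩
  have hcomm : Commute (scg c') A := by
    apply Units.ext
    change scalar (Fin n) c * (A : Matrix (Fin n) (Fin n) F) = (A : Matrix (Fin n) (Fin n) F) * scalar (Fin n) c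
    exact scalar_commute (n := Fin n) c (Commute.all c) _
  have hBp : B ^ p = 1 := by
    rw [hB, (hcomm.inv_left).mul_pow, inv_pow, inv_mul_eq_one]
    apply Units.ext
    rw [Units.val_pow_eq_pow_val, ← hr]
    change (scalar (Fin n) c) ^ p = _
    rw [← map_pow, hc]
  have hdet : (B : Matrix (Fin n) (Fin n) F).det = 1 := by
    have h2 : (B : Matrix (Fin n) (Fin n) F).det ^ p = 1 ^ p := by
      rw [← det_pow, ← Units.val_pow_eq_pow_val, hBp, Units.val_one, det_one, one_pow]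
    exact frobenius_inj F p h2
  obtain ⟨b, hb⟩ : ∃ b : Matrix.SpecialLinearGroup (Fin n) F, (b : Matrix (Fin n) (Fin n) F) = B :=
    ⟨⟨(B : Matrix (Fin n) (Fin n) F), hdet⟩, rfl⟩
  refine ⟨pr b, ?_⟩
  have h3 : cj A = cj B := by rw [hB, map_mul, map_inv, cj_scg, inv_one, one_mul]
  apply MulEquiv.ext
  intro x
  obtain ⟨x, rfl⟩ := pr_surjective x
  have h6 : cj B x = b * x * b⁻¹ := by
    apply Subtype.ext
    rw [coe_cj, Matrix.SpecialLinearGroup.coe_mul, Matrix.SpecialLinearGroup.coe_mul, hb]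
    congr 1
    have h4 : ((B⁻¹ : GL (Fin n) F) : Matrix (Fin n) (Fin n) F) * (B : Matrix (Fin n) (Fin n) F) = 1 := by
      rw [← Units.val_mul, inv_mul_cancel, Units.val_one]
    have h5 : (B : Matrix (Fin n) (Fin n) F) *
        ((b⁻¹ : Matrix.SpecialLinearGroup (Fin n) F) : Matrix (Fin n) (Fin n) F) = 1 := by
      rw [← hb, ← Matrix.SpecialLinearGroup.coe_mul, mul_inv_cancel, Matrix.SpecialLinearGroup.coe_one]
    exact left_inv_eq_right_inv h4 h5
  rw [h3, lift_pr, h6, map_mul, map_mul, map_inv]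
  rfl

end Main

end Cfsg.Agent.CpAut.Psl
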