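import Mathlib
import Cfsg.Prelude.Def_SevenCases
import Cfsg.Agent.CpAut.Base
set_option linter.all false

/-!
# S1814, `p` odd: the rows and the assembly

* `OddRows` : one field for every row (all groups in `Type`); the trivial rows (alternating groups) are fields too;
* `odd_of_rows` : `OddRows` and `S0000` imply S1814 for odd `p` (any universe).
-/

set_option autoImplicit false

namespace Cfsg.Agent.CpAut

open Subgroup Cfsg
open Cfsg.Agent.LThree (Comps)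

universe u v

/-- The rows of the case `p = 3` (sporadic groups, small groups of Lie type), `C_3`. -/
structure ThreeRows : Prop where
  u5 : ∀ (F : Type) [Field F] [Fintype F], Fintype.card F = 4 → AutC 3 (PSU 5 F 2)
  u6 : ∀ (F : Type) [Field F] [Fintype F], Fintype.card F = 4 → AutC 3 (PSU 6 F 2)
  sp6 : ∀ (F : Type) [Field F] [Fintype F], Fintype.card F = 2 → AutC 3 (PSp 3 F)
  o8 : ∀ (F : Type) [Field F] [Fintype F], Fintype.card F = 2 → AutC 3 (POmega F (quadFormPlus 4 F))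
  f4 : ∀ (F : Type) [Field F] [Fintype F], Fintype.card F = 2 → AutC 3 ↥(Lie.chevF4.group F)
  d4 : ∀ (F : Type) [Field F] [Fintype F], Fintype.card F = 8 → AutC 3 ↥(Lie.twistedD4 F 2)
  sp4 : ∀ (F : Type) [Field F] [Fintype F], Fintype.card F = 8 → AutC 3 (PSp 2 F)
  tits : ∀ (X : Type) [Group X] [Finite X] [IsSimpleGroup X], Lie.IsoTits X → AutC 3 X
  m11 : AutC 3 Spor.M11
  j3 : ∀ (X : Type) [Group X] [Finite X] [IsSimpleGroup X], Spor.IsoJ3 X → AutC 3 X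
  co1 : AutC 3 Spor.Co1
  co2 : AutC 3 Spor.Co2
  co3 : AutC 3 Spor.Co3
  mcl : AutC 3 Spor.McL
  ly : AutC 3 Spor.Ly
  suz : AutC 3 Spor.Suz
  on : AutC 3 Spor.ON
  fi22 : AutC 3 Spor.Fi22
  fi23 : AutC 3 Spor.Fi23
  fi24 : AutC 3 Spor.Fi24'
  hn : AutC 3 Spor.HN
  th : AutC 3 Spor.Th
  b : AutC 3 Spor.BabyMonster
  m : AutC 3 Spor.Monster

/-- The rows of the case `p = 5`. -/
structure FiveRows : Prop where
  tits : ∀ (X : Type) [Group X] [Finite X] [IsSimpleGroup X], Lie.IsoTits X → AutC 5 X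
  tf32 : ∀ (F : Type) [Field F] [Fintype F], Fintype.card F = 32 → AutC 5 ↥(Lie.twistedF4 F 4)
  sz32 : ∀ (F : Type) [Field F] [Fintype F], Fintype.card F = 32 → AutC 5 ↥(Lie.Sz F 8)
  j2 : AutC 5 Spor.J2
  co1 : AutC 5 Spor.Co1
  co2 : AutC 5 Spor.Co2
  co3 : AutC 5 Spor.Co3
  hs : AutC 5 Spor.HS
  mcl : AutC 5 Spor.McL
  ly : AutC 5 Spor.Ly
  ru : AutC 5 Spor.Ru
  he : AutC 5 Spor.He
  hn : AutC 5 Spor.HN
  th : AutC 5 Spor.Th
  b : AutC 5 Spor.BabyMonster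
  m : AutC 5 Spor.Monster

/-- The rows of the cases `p = 7`, `p = 11`. -/
structure SevenRows : Prop where
  co1 : AutC 7 Spor.Co1
  he : AutC 7 Spor.He
  on : AutC 7 Spor.ON
  fi24 : AutC 7 Spor.Fi24'
  th : AutC 7 Spor.Th
  m : AutC 7 Spor.Monster
  j4 : AutC 11 Spor.J4

/-- The rows of `T_3` and `T_5` (apart from `m_p = 1`, which is `autCT_of_rank_one`). -/
structure TRows : Prop where
  l3 : ∀ (F : Type) [Field F] [Fintype F], Fintype.card F % 3 = 1 →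
    AutCT 3 (Matrix.ProjectiveSpecialLinearGroup (Fin 3) F)
  u3 : ∀ (F : Type) [Field F] [Fintype F] (q : ℕ), Fintype.card F = q ^ 2 → q % 3 = 2 → IsSimpleGroup (PSU 3 F q) →
    AutCT 3 (PSU 3 F q)
  g2 : ∀ (F : Type) [Field F] [Fintype F], Fintype.card F = 8 → AutCT 3 ↥(Lie.chevG2.group F)
  a7 : AutCT 3 ↥(alternatingGroup (Fin 7))
  m12 : AutCT 3 Spor.M12
  m22 : AutCT 3 Spor.M22
  j2 : AutCT 3 Spor.J2
  fi22 : AutCT 5 Spor.Fi22

/-- Groups of Lie type in characteristic `p`, and alternating groups. -/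
structure ChevRows : Prop where
  chev : ∀ (p : ℕ), p.Prime → p ≠ 2 → ∀ (X : Type) [Group X] [Finite X] [IsSimpleGroup X], IsLieTypeChar p X →
    AutC p X
  l28 : ∀ (F : Type) [Field F] [Fintype F], Fintype.card F = 8 →
    AutC 3 (Matrix.ProjectiveSpecialLinearGroup (Fin 2) F)
  alt : ∀ (p : ℕ), p.Prime → p ≠ 2 → ∀ n : ℕ, 5 ≤ n → (n = p ∨ n = 2 * p ∨ n = 3 * p) →
    AutC p ↥(alternatingGroup (Fin n))

/-- All the rows of S1814 for odd `p`. -/
structure OddRows : Prop where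
  three : ThreeRows
  five : FiveRows
  seven : SevenRows
  t : TRows
  chev : ChevRows

section Assembly

/-- a simple quasisimple group has trivial centre -/
theorem center_eq_bot_of_qs {K : Type u} [Group K] [IsSimpleGroup K] (h : IsQuasisimple K) : center K = ⊥ :=
  center_eq_bot_of_simple (SignalizersComponents.Components.quasisimple_not_isMulCommutative h)

/-- `K / Z(K) ≃ K` -/
noncomputable def eqv {K : Type u} [Group K] (h : center K = ⊥) : K ⧸ center K ≃* K :=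
  (QuotientGroup.quotientMulEquivOfEq h).trans QuotientGroup.quotientBot

theorem not_comm_three {K : Type u} [Group K] (h : Nonempty (K ≃* ↥(alternatingGroup (Fin 3)))) :
    IsMulCommutative K := by
  obtain ⟨e⟩ := h
  have h3 : Nat.card ↥(alternatingGroup (Fin 3)) = 3 := by
    rw [nat_card_alternatingGroup, Nat.card_eq_fintype_card, Fintype.card_fin]
    rfl
  have : Fact (Nat.Prime 3) := ⟨by norm_num⟩
  have hc : IsCyclic ↥(alternatingGroup (Fin 3)) := isCyclic_of_prime_card h3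
  refine ⟨⟨fun a b => e.injective ?_⟩⟩
  rw [map_mul, map_mul]
  let _ := hc.commGroup
  exact mul_comm (e a) (e b)

variable {K : Type} [Group K] [Finite K] [IsSimpleGroup K]

theorem autC_of_rows (R : OddRows) {p : ℕ} (hp : p.Prime) (hp2 : p ≠ 2) (h : InC p K) : AutC p K := by
  have hcomm := SignalizersComponents.Components.quasisimple_not_isMulCommutative h.1
  have hZ := center_eq_bot_of_qs h.1
  have h1 : IsCpSimple p K := (CpQuot.Congr.isCpSimple_iff (eqv hZ) p).1 h.2.2.1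
  rcases h1 with h1 | ⟨n, hn, ⟨e⟩⟩ | ⟨rfl, _⟩ | ⟨rfl, h1⟩ | ⟨rfl, h1⟩ | ⟨rfl, h1⟩ | ⟨rfl, ⟨e⟩⟩
  · rcases h1 with h1 | ⟨rfl, _⟩ | ⟨rfl, F, _, _, hF, ⟨e⟩⟩
    · exact R.chev.chev p hp hp2 K h1
    · exact absurd rfl hp2
    · exact (R.chev.l28 F hF).congr e.symm
  · refine (R.chev.alt p hp hp2 n ?_ hn).congr e.symm
    have h3 : 3 ≤ p := by
      have := hp.two_le
      omega
    by_contra h5
    have h6 : n = 3 := by
      rcases hn with rfl | rfl | rfl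
      · have h4 : n ≠ 4 := by
          rintro rfl
          exact absurd hp (by norm_num)
        omega
      · omega
      · omega
    subst h6
    exact hcomm (not_comm_three ⟨e⟩)
  · exact absurd rfl hp2
  · rcases h1 with ⟨F, _, _, hF, (⟨⟨e⟩⟩ | ⟨⟨e⟩⟩)⟩ | ⟨F, _, _, hF, (⟨⟨e⟩⟩ | ⟨⟨e⟩⟩ | ⟨⟨e⟩⟩)⟩ | ⟨F, _, _, hF, (⟨⟨e⟩⟩ | ⟨⟨e⟩⟩)⟩ | h1 |
      ⟨⟨e⟩⟩ | h1 | ⟨⟨e⟩⟩ | ⟨⟨e⟩⟩ | ⟨⟨e⟩⟩ | ⟨⟨e⟩⟩ | ⟨⟨e⟩⟩ | ⟨⟨e⟩⟩ | ⟨⟨e⟩⟩ | ⟨⟨e⟩⟩ | ⟨⟨e⟩⟩ | ⟨⟨e⟩⟩ | ⟨⟨e⟩⟩ | ⟨⟨e⟩⟩ |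
      ⟨⟨e⟩⟩ | ⟨⟨e⟩⟩
    · exact (R.three.u5 F hF).congr e.symm
    · exact (R.three.u6 F hF).congr e.symm
    · exact (R.three.sp6 F hF).congr e.symm
    · exact (R.three.o8 F hF).congr e.symm
    · exact (R.three.f4 F hF).congr e.symm
    · exact (R.three.d4 F hF).congr e.symm
    · exact (R.three.sp4 F hF).congr e.symm
    · exact R.three.tits K h1
    · exact R.three.m11.congr e.symm
    · exact R.three.j3 K h1
    · exact R.three.co1.congr e.symm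
    · exact R.three.co2.congr e.symm
    · exact R.three.co3.congr e.symm
    · exact R.three.mcl.congr e.symm
    · exact R.three.ly.congr e.symm
    · exact R.three.suz.congr e.symm
    · exact R.three.on.congr e.symm
    · exact R.three.fi22.congr e.symm
    · exact R.three.fi23.congr e.symm
    · exact R.three.fi24.congr e.symm
    · exact R.three.hn.congr e.symm
    · exact R.three.th.congr e.symm
    · exact R.three.b.congr e.symm
    · exact R.three.m.congr e.symm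
  · rcases h1 with h1 | ⟨F, _, _, hF, (⟨⟨e⟩⟩ | ⟨⟨e⟩⟩)⟩ | ⟨⟨e⟩⟩ | ⟨⟨e⟩⟩ | ⟨⟨e⟩⟩ | ⟨⟨e⟩⟩ | ⟨⟨e⟩⟩ | ⟨⟨e⟩⟩ | ⟨⟨e⟩⟩ |
      ⟨⟨e⟩⟩ | ⟨⟨e⟩⟩ | ⟨⟨e⟩⟩ | ⟨⟨e⟩⟩ | ⟨⟨e⟩⟩ | ⟨⟨e⟩⟩
    · exact R.five.tits K h1
    · exact (R.five.tf32 F hF).congr e.symm
    · exact (R.five.sz32 F hF).congr e.symm
    · exact R.five.j2.congr e.symm
    · exact R.five.co1.congr e.symm
    · exact R.five.co2.congr e.symm
    · exact R.five.co3.congr e.symm
    · exact R.five.hs.congr e.symm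
    · exact R.five.mcl.congr e.symm
    · exact R.five.ly.congr e.symm
    · exact R.five.ru.congr e.symm
    · exact R.five.he.congr e.symm
    · exact R.five.hn.congr e.symm
    · exact R.five.th.congr e.symm
    · exact R.five.b.congr e.symm
    · exact R.five.m.congr e.symm
  · rcases h1 with ⟨⟨e⟩⟩ | ⟨⟨e⟩⟩ | ⟨⟨e⟩⟩ | ⟨⟨e⟩⟩ | ⟨⟨e⟩⟩ | ⟨⟨e⟩⟩
    · exact R.seven.co1.congr e.symm
    · exact R.seven.he.congr e.symm
    · exact R.seven.on.congr e.symm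
    · exact R.seven.fi24.congr e.symm
    · exact R.seven.th.congr e.symm
    · exact R.seven.m.congr e.symm
  · exact R.seven.j4.congr e.symm

theorem autCT_of_rows (hS : AllKnown.{0}) (R : OddRows) {p : ℕ} (hp : p.Prime) (hp2 : p ≠ 2) (h : InT p K) :
    AutCT p K := by
  have hZ := center_eq_bot_of_qs h.1
  have e0 := eqv hZ
  rcases h.2.2.2.2 with ⟨rfl, _⟩ | ⟨rfl, h1⟩ | ⟨rfl, ⟨e⟩⟩ | ⟨_, h1, _⟩
  · exact absurd rfl hp2
  · rcases h1 with ⟨F, _, _, hF, ⟨e⟩⟩ | ⟨F, _, _, q, hF, hq, ⟨e⟩⟩ | ⟨⟨e⟩⟩ | ⟨⟨e⟩⟩ | ⟨⟨e⟩⟩ | ⟨⟨e⟩⟩ | ⟨F, _, _, hF, ⟨e⟩⟩ |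
      ⟨h1, _⟩
    · exact (R.t.l3 F hF).congr (e.symm.trans e0)
    · exact (R.t.u3 F q hF hq ((CpQuot.Congr.isSimple_iff (e0.symm.trans e)).1 inferInstance)).congr
        (e.symm.trans e0)
    · exact R.t.a7.congr (e.symm.trans e0)
    · exact R.t.m12.congr (e.symm.trans e0)
    · exact R.t.m22.congr (e.symm.trans e0)
    · exact R.t.j2.congr (e.symm.trans e0)
    · exact (R.t.g2 F hF).congr (e.symm.trans e0)
    · rw [hZ, card_bot] at h1
      omega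
  · exact R.t.fi22.congr e.symm
  · exact autCT_of_rank_one hS hp hp2 h1

end Assembly

/-- **S1814 for odd `p`, from the rows.** -/
theorem odd_of_rows (hS : AllKnown.{0}) (R : OddRows) {K : Type u} [Group K] [Finite K] [IsSimpleGroup K] {p : ℕ}
    (hp : p.Prime) (hp2 : p ≠ 2) : (InC p K → AutC p K) ∧ (InT p K → AutCT p K) := by
  let e : Shrink.{0} K ≃* K := Shrink.mulEquiv
  have : Finite (Shrink.{0} K) := Finite.of_equiv K e.symm.toEquiv
  have : IsSimpleGroup (Shrink.{0} K) := (CpQuot.Congr.isSimple_iff e).2 inferInstance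
  constructor
  · intro h
    exact (autC_of_rows R hp hp2 ((CpQuot.Congr.inC_iff e p).2 h)).congr e
  · intro h
    exact (autCT_of_rows hS R hp hp2 ((CpQuot.Congr.inT_iff e p).2 h)).congr e

end Cfsg.Agent.CpAut
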