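import Mathlib
import Cfsg.Prelude.Def_SevenCases
import Cfsg.Agent.CpAut.Base
import Cfsg.Agent.CpAut.Frame
import Cfsg.Agent.CpAut.TwoAbs
import Cfsg.Agent.LieClassical.Order72
set_option linter.all false

/-!
# S1814, `p = 2`: the rows and the assembly (helper31)

* `AllCT X` : the centralizers of all involutions of `X` are of characteristic 2;
* `TwoRows` : the rows; `two_of_rows` : `TwoRows` and `S0000` imply S1814 for `p = 2` (any universe).
-/

set_option autoImplicit false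

namespace Cfsg.Agent.CpAut

open Subgroup Cfsg
open Cfsg.Agent.LThree (Comps)

universe u v

/-- The centralizers of all involutions of `X` are of characteristic 2. -/
def AllCT (X : Type*) [Group X] : Prop :=
  ∀ u : X, orderOf u = 2 → IsOfCharacteristicTwo ↥(centralizer ({u} : Set X))

/-- centralizers of corresponding elements -/
noncomputable def centEquiv {X : Type u} {Y : Type v} [Group X] [Group Y] (e : X ≃* Y) (u : X) :
    ↥(centralizer ({u} : Set X)) ≃* ↥(centralizer ({e u} : Set Y)) :=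
  ((centralizer ({u} : Set X)).equivMapOfInjective e.toMonoidHom e.injective).trans
    (MulEquiv.subgroupCongr (by
      ext y
      constructor
      · rintro ⟨g, hg, rfl⟩
        have hg' := mem_centralizer_singleton_iff.1 hg
        rw [mem_centralizer_singleton_iff]
        change e g * e u = e u * e g
        rw [← map_mul, hg', map_mul]
      · intro hy
        have hy' := mem_centralizer_singleton_iff.1 hy
        refine ⟨e.symm y, mem_centralizer_singleton_iff.2 (e.injective ?_), e.apply_symm_apply y⟩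
        rw [map_mul, map_mul, e.apply_symm_apply, hy']))

theorem AllCT.congr {X : Type u} {Y : Type v} [Group X] [Group Y] [Finite X] (e : X ≃* Y) (h : AllCT X) : AllCT Y := by
  have : Finite Y := Finite.of_equiv X e.toEquiv
  intro y hy
  have h1 := h (e.symm y) (by rw [MulEquiv.orderOf_eq, hy])
  have e1 := centEquiv e (e.symm y)
  rw [e.apply_symm_apply] at e1
  exact TwoAbs.ct_congr e1 h1

/-- The rows of the case `p = 2`. -/
structure TwoRows : Prop where
  /-- Lie type in characteristic 2 -/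
  chev : ∀ (X : Type) [Group X] [Finite X] [IsSimpleGroup X], ¬ IsMulCommutative X → IsChevSimple 2 X → AllCT X
  l2 : ∀ (F : Type) [Field F] [Fintype F], IsFM9 (Fintype.card F) →
    AllCT (Matrix.ProjectiveSpecialLinearGroup (Fin 2) F)
  l33 : ∀ (F : Type) [Field F] [Fintype F], Fintype.card F = 3 →
    AllCT (Matrix.ProjectiveSpecialLinearGroup (Fin 3) F)
  g23 : ∀ (F : Type) [Field F] [Fintype F], Fintype.card F = 3 → AllCT ↥(Lie.chevG2.group F)
  u43 : ∀ (F : Type) [Field F] [Fintype F], Fintype.card F = 9 → AllCT (PSU 4 F 3)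
  m11 : AllCT Spor.M11
  m22 : AllCT Spor.M22
  m23 : AllCT Spor.M23
  m24 : AllCT ↥Cfsg.M24
  j3 : ∀ (X : Type) [Group X] [Finite X] [IsSimpleGroup X], Spor.IsoJ3 X → AllCT X
  j4 : AllCT Spor.J4
  co2 : AllCT Spor.Co2
  th : AllCT Spor.Th
  l43 : ∀ (F : Type) [Field F] [Fintype F], Fintype.card F = 3 →
    AutC 2 (Matrix.ProjectiveSpecialLinearGroup (Fin 4) F)
  m12 : AutC 2 Spor.M12
  j2 : AutC 2 Spor.J2
  hs : AutC 2 Spor.HS
  suz : AutC 2 Spor.Suz
  ru : AutC 2 Spor.Ru
  co1 : AutC 2 Spor.Co1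
  fi22 : AutC 2 Spor.Fi22
  fi23 : AutC 2 Spor.Fi23
  fi24 : AutC 2 Spor.Fi24'
  b : AutC 2 Spor.BabyMonster
  m : AutC 2 Spor.Monster
  /-- known simple groups with all involution centralizers of characteristic 2 -/
  table : TwoAbs.Table.{0}
  tl2 : ∀ (F : Type) [Field F] [Fintype F], Odd (Fintype.card F) →
    AutCT 2 (Matrix.ProjectiveSpecialLinearGroup (Fin 2) F)
  ta7 : AutCT 2 ↥(alternatingGroup (Fin 7))

section Assembly

variable {K : Type} [Group K] [Finite K] [IsSimpleGroup K]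

theorem autC_of_allCT (hS : AllKnown.{0}) (hT : TwoAbs.Table.{0}) (h : AllCT K) : AutC 2 K :=
  TwoAbs.autC_of_ct hS hT h

theorem autC_two_of_rows (hS : AllKnown.{0}) (R : TwoRows) (h : InC 2 K) : AutC 2 K := by
  have hZ := center_eq_bot_of_qs h.1
  have e0 := eqv hZ
  have hna : ¬ IsMulCommutative K := SignalizersComponents.Components.quasisimple_not_isMulCommutative h.1
  have key : ∀ {Y : Type} [Group Y] [Finite Y], (K ≃* Y) → AllCT Y → AutC 2 K := fun e hY =>
    autC_of_allCT hS R.table (hY.congr e.symm)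
  rcases (CpQuot.Congr.isCpSimple_iff e0 2).1 h.2.2.1 with h1 | ⟨n, hn, ⟨e⟩⟩ | ⟨-, h1⟩ | ⟨h1, -⟩ | ⟨h1, -⟩ | ⟨h1, -⟩ |
    ⟨h1, -⟩
  · exact autC_of_allCT hS R.table (R.chev K hna h1)
  · -- `A_6`; `A_2`, `A_4` are not simple
    have h6 : n = 6 := by
      rcases hn with rfl | rfl | rfl
      · exfalso
        apply hna
        have hc : Nat.card ↥(alternatingGroup (Fin 2)) = 1 := by
          have h2 := two_mul_nat_card_alternatingGroup (α := Fin 2)
          rw [Nat.card_perm, Nat.card_fin] at h2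
          have : (2).factorial = 2 := rfl
          omega
        rw [← Nat.card_congr e.toEquiv] at hc
        have := (Nat.card_eq_one_iff_unique.1 hc).1
        exact ⟨⟨fun a b => Subsingleton.elim _ _⟩⟩
      · exfalso
        have hs : Group.IsSolvable ↥(alternatingGroup (Fin 4)) :=
          Cfsg.Agent.LieClassical.Order72.isSolvable_of_card_dvd (by
            have h2 := two_mul_nat_card_alternatingGroup (α := Fin 4)
            rw [Nat.card_perm, Nat.card_fin] at h2
            have : (4).factorial = 24 := rfl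
            have h3 : Nat.card ↥(alternatingGroup (Fin 4)) = 12 := by omega
            rw [h3]; norm_num)
        have hs' : Group.IsSolvable K := Group.isSolvable_of_surjective e.symm.surjective (f := e.symm.toMonoidHom)
        exact SignalizersComponents.Components.quasisimple_not_isSolvable h.1 hs'
      · rfl
    subst h6
    exact autC_of_allCT hS R.table (R.chev K hna (Or.inr (Or.inl ⟨rfl, Or.inl ⟨e⟩⟩)))
  · rcases h1 with ⟨F, _, _, hF, ⟨e⟩⟩ | ⟨F, _, _, hF, (⟨⟨e⟩⟩ | ⟨⟨e⟩⟩ | ⟨⟨e⟩⟩)⟩ | ⟨F, _, _, hF, ⟨e⟩⟩ | ⟨⟨e⟩⟩ | ⟨⟨e⟩⟩ |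
      ⟨⟨e⟩⟩ | ⟨⟨e⟩⟩ | ⟨⟨e⟩⟩ | ⟨⟨e⟩⟩ | h1 | ⟨⟨e⟩⟩ | ⟨⟨e⟩⟩ | ⟨⟨e⟩⟩ | ⟨⟨e⟩⟩ | ⟨⟨e⟩⟩ | ⟨⟨e⟩⟩ | ⟨⟨e⟩⟩ | ⟨⟨e⟩⟩ | ⟨⟨e⟩⟩ |
      ⟨⟨e⟩⟩ | ⟨⟨e⟩⟩ | ⟨⟨e⟩⟩
    · exact autC_of_allCT hS R.table
        (@AllCT.congr _ _ _ _ (Finite.of_equiv K e.toEquiv) e.symm (R.l2 F hF))
    · exact autC_of_allCT hS R.table
        (@AllCT.congr _ _ _ _ (Finite.of_equiv K e.toEquiv) e.symm (R.l33 F hF))
    · exact (R.l43 F hF).congr e.symm
    · exact autC_of_allCT hS R.table
        (@AllCT.congr _ _ _ _ (Finite.of_equiv K e.toEquiv) e.symm (R.g23 F hF))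
    · exact autC_of_allCT hS R.table
        (@AllCT.congr _ _ _ _ (Finite.of_equiv K e.toEquiv) e.symm (R.u43 F hF))
    · exact autC_of_allCT hS R.table (@AllCT.congr _ _ _ _ (Finite.of_equiv K e.toEquiv) e.symm R.m11)
    · exact R.m12.congr e.symm
    · exact autC_of_allCT hS R.table (@AllCT.congr _ _ _ _ (Finite.of_equiv K e.toEquiv) e.symm R.m22)
    · exact autC_of_allCT hS R.table (@AllCT.congr _ _ _ _ (Finite.of_equiv K e.toEquiv) e.symm R.m23)
    · exact autC_of_allCT hS R.table (@AllCT.congr _ _ _ _ (Finite.of_equiv K e.toEquiv) e.symm R.m24)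
    · exact R.j2.congr e.symm
    · exact autC_of_allCT hS R.table (R.j3 K h1)
    · exact autC_of_allCT hS R.table (@AllCT.congr _ _ _ _ (Finite.of_equiv K e.toEquiv) e.symm R.j4)
    · exact R.hs.congr e.symm
    · exact R.suz.congr e.symm
    · exact R.ru.congr e.symm
    · exact R.co1.congr e.symm
    · exact autC_of_allCT hS R.table (@AllCT.congr _ _ _ _ (Finite.of_equiv K e.toEquiv) e.symm R.co2)
    · exact R.fi22.congr e.symm
    · exact R.fi23.congr e.symm
    · exact R.fi24.congr e.symm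
    · exact autC_of_allCT hS R.table (@AllCT.congr _ _ _ _ (Finite.of_equiv K e.toEquiv) e.symm R.th)
    · exact R.b.congr e.symm
    · exact R.m.congr e.symm
  all_goals omega

theorem autCT_two_of_rows (R : TwoRows) (h : InT 2 K) : AutCT 2 K := by
  have hZ := center_eq_bot_of_qs h.1
  rcases h.2.2.2.2 with ⟨-, h1⟩ | ⟨h1, -⟩ | ⟨h1, -⟩ | ⟨h1, -⟩
  · rcases h1 with ⟨F, _, _, ho, -, ⟨e⟩⟩ | ⟨⟨e⟩⟩ | ⟨F, _, _, ho, ⟨e⟩⟩ | ⟨h2, -⟩ | ⟨-, z, hz, h4⟩
    · exact (R.tl2 F ho).congr e.symm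
    · exact R.ta7.congr e.symm
    · exfalso
      have h2 := CTwoTab.center_eq_bot_congr e hZ
      exact CTwoTab.center_sl_ne_bot ho (by decide : Even 2) (by norm_num) h2
    · rw [hZ, card_bot] at h2
      omega
    · rw [hZ, mem_bot] at hz
      rw [hz, orderOf_one] at h4
      omega
  all_goals omega

end Assembly

/-- **S1814 for `p = 2`, from the rows.** -/
theorem two_of_rows (hS : AllKnown.{0}) (R : TwoRows) {K : Type u} [Group K] [Finite K] [IsSimpleGroup K] :
    (InC 2 K → AutC 2 K) ∧ (InT 2 K → AutCT 2 K) := by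
  let e : Shrink.{0} K ≃* K := Shrink.mulEquiv
  have : Finite (Shrink.{0} K) := Finite.of_equiv K e.symm.toEquiv
  have : IsSimpleGroup (Shrink.{0} K) := (CpQuot.Congr.isSimple_iff e).2 inferInstance
  constructor
  · intro h
    exact (autC_two_of_rows hS R ((CpQuot.Congr.inC_iff e 2).2 h)).congr e
  · intro h
    exact (autCT_two_of_rows R ((CpQuot.Congr.inT_iff e 2).2 h)).congr e

end Cfsg.Agent.CpAut
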