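import Cfsg.Agent.CpAut.Base
import Cfsg.Agent.S0126
set_option linter.all false

/-!
# No components when the `p`-rank of `C(x)` is one

* `central_eq_one` : in a perfect finite group with an abelian Sylow `p`-subgroup a central `p`-element is trivial;
* `no_comp` : `H` finite, `p` odd, `m_p(H) ≤ 1`, `x ∈ Z(H)` of order `p` : `H / O_{p'}(H)` has no component;
* `comps_of_rank_one_central`, `comps_cent_of_rank_one`.
-/

set_option autoImplicit false

namespace Cfsg.Agent.CpAut

open Subgroup Cfsg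
open Cfsg.Agent.LThree (Comps)

universe u v

/-- transfer: in a perfect group with an abelian Sylow `p`-subgroup the centre is a `p'`-group -/
theorem central_eq_one {L : Type*} [Group L] [Finite L] {p : ℕ} [Fact p.Prime] (hL : Group.IsPerfect L)
    (P : Sylow p L) (hP : ∀ a ∈ (P : Subgroup L), ∀ b ∈ (P : Subgroup L), a * b = b * a) {z : L}
    (hz : z ∈ center L) (hzP : z ∈ (P : Subgroup L)) : z = 1 := by
  let _ : CommGroup ↥(P : Subgroup L) :=
    { (inferInstance : Group ↥(P : Subgroup L)) with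
      mul_comm := fun a b => Subtype.ext (hP a a.2 b b.2) }
  have h1 : ∀ g : L, (MonoidHom.transfer (MonoidHom.id ↥(P : Subgroup L))) g = 1 := by
    intro g
    have h2 : g ∈ commutator L := by
      rw [Group.isPerfect_def.1 hL]
      exact mem_top g
    exact (Abelianization.commutator_subset_ker (MonoidHom.transfer (MonoidHom.id ↥(P : Subgroup L)))) h2
  have h3 : ∀ (k : ℕ) (g₀ : L), g₀⁻¹ * z ^ k * g₀ ∈ (P : Subgroup L) → g₀⁻¹ * z ^ k * g₀ = z ^ k := by
    intro k g₀ _
    have h4 : z ^ k ∈ center L := pow_mem hz k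
    rw [mul_assoc, ← mem_center_iff.1 h4 g₀, ← mul_assoc, inv_mul_cancel, one_mul]
  have h5 := MonoidHom.transfer_eq_pow (MonoidHom.id ↥(P : Subgroup L)) z h3
  rw [h1 z] at h5
  have h6 : z ^ (P : Subgroup L).index = 1 := by
    have := congrArg (fun a : ↥(P : Subgroup L) => (a : L)) h5
    exact this.symm
  obtain ⟨k, hk⟩ := P.isPGroup' ⟨z, hzP⟩
  have h7 : z ^ p ^ k = 1 := congrArg (fun a : ↥(P : Subgroup L) => (a : L)) hk
  have h8 : orderOf z ∣ Nat.gcd (P : Subgroup L).index (p ^ k) :=
    Nat.dvd_gcd (orderOf_dvd_of_pow_eq_one h6) (orderOf_dvd_of_pow_eq_one h7)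
  have h9 : Nat.Coprime (P : Subgroup L).index (p ^ k) := by
    apply Nat.Coprime.pow_right
    exact (Nat.Prime.coprime_iff_not_dvd Fact.out).2 P.not_dvd_index |>.symm
  rw [h9] at h8
  exact orderOf_eq_one_iff.1 (Nat.dvd_one.1 h8)

/-- the Sylow `p`-subgroups of a group of `p`-rank one are cyclic, `p` odd -/
theorem cyclic_of_rank_one {P : Type*} [Group P] [Finite P] {p : ℕ} [hp : Fact p.Prime] (hp2 : p ≠ 2)
    (hP : IsPGroup p P) (hr : PRankLE p 1 P) : IsCyclic P := by
  by_contra hnc
  obtain ⟨A, _, hA, hc⟩ := S0126.result hp2 hP hnc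
  have h1 := hr A hA.1 (fun a ha => hA.2 a ha)
  rw [hc, pow_one] at h1
  have h2 := hp.out.one_lt
  nlinarith

/-- in a group of `p`-rank one a central element of order `p` generates all the elements of order `p` -/
theorem mem_zpowers_of_rank_one {G : Type*} [Group G] [Finite G] {p : ℕ} (hr : PRankLE p 1 G) {y a : G}
    (hy : orderOf y = p) (hyc : y ∈ center G) (ha : a ^ p = 1) : a ∈ zpowers y := by
  have hcomm : Commute y a := (mem_center_iff.1 hyc _).symm
  let A : Subgroup G := closure {y, a}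
  have hAc : IsMulCommutative A := by
    apply Subgroup.isMulCommutative_closure
    intro u hu v hv
    rcases hu with rfl | hu <;> rcases hv with rfl | hv
    · rfl
    · rw [Set.mem_singleton_iff] at hv; subst hv; exact hcomm
    · rw [Set.mem_singleton_iff] at hu; subst hu; exact hcomm.symm
    · rw [Set.mem_singleton_iff] at hu hv; subst hu; subst hv; rfl
  have hAp : ∀ u ∈ A, u ^ p = 1 := by
    intro u hu
    refine closure_induction (p := fun u _ => u ^ p = 1) ?_ ?_ ?_ ?_ hu
    · rintro v (rfl | hv)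
      · rw [← hy, pow_orderOf_eq_one]
      · rw [Set.mem_singleton_iff] at hv
        rw [hv, ha]
    · exact one_pow p
    · intro v w hv hw h1 h2
      have h3 : v * w = w * v := setLike_mul_comm (s := A) hv hw
      have h4 : Commute v w := h3
      rw [h4.mul_pow, h1, h2, mul_one]
    · intro v _ h1
      rw [inv_pow, h1, inv_one]
  have hcard := hr A hAc hAp
  rw [pow_one] at hcard
  have hza : zpowers y ≤ A := zpowers_le.2 (subset_closure (Or.inl rfl))
  have hc1 : Nat.card ↥(zpowers y) = p := by rw [Nat.card_zpowers, hy]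
  have hAeq : zpowers y = A := eq_of_le_of_card_ge hza (by rw [hc1]; exact hcard)
  rw [hAeq]
  exact subset_closure (Or.inr rfl)

/-- `X` finite with a central element of order `p` and `m_p(X) ≤ 1`, `p` odd: no component of order divisible by `p` -/
theorem not_quasisimple_sub {X : Type*} [Group X] [Finite X] {p : ℕ} (hp : p.Prime) (hp2 : p ≠ 2)
    (hr : PRankLE p 1 X) {y : X} (hy : orderOf y = p) (hyc : y ∈ center X) (K : Subgroup X)
    (hK : Group.IsPerfect ↥K) (hd : p ∣ Nat.card ↥K) : False := by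
  have : Fact p.Prime := ⟨hp⟩
  obtain ⟨a, ha⟩ := exists_prime_orderOf_dvd_card' p hd
  have hoa : orderOf (a : X) = p := by rw [Subgroup.orderOf_coe, ha]
  have haA : (a : X) ∈ zpowers y :=
    mem_zpowers_of_rank_one hr hy hyc (by rw [← hoa, pow_orderOf_eq_one])
  have heq : zpowers (a : X) = zpowers y :=
    eq_of_le_of_card_ge (zpowers_le.2 haA) (by rw [Nat.card_zpowers, Nat.card_zpowers, hoa, hy])
  have h3 : y ∈ zpowers (a : X) := by rw [heq]; exact mem_zpowers y
  have hyK : y ∈ K := (zpowers_le.2 a.2) h3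
  let z : ↥K := ⟨y, hyK⟩
  have hzc : z ∈ center ↥K := by
    rw [mem_center_iff]
    intro g
    exact Subtype.ext (mem_center_iff.1 hyc g)
  have hzo : orderOf z = p := (Subgroup.orderOf_mk y hyK).trans hy
  have hzpg : IsPGroup p ↥(zpowers z) := IsPGroup.of_card (n := 1) (by rw [Nat.card_zpowers, hzo, pow_one])
  obtain ⟨P, hP⟩ := hzpg.exists_le_sylow
  have hrP : PRankLE p 1 ↥(P : Subgroup ↥K) := prankLE_subgroup _ (prankLE_subgroup K hr)
  have hcyc := cyclic_of_rank_one hp2 P.isPGroup' hrP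
  have h5 : z = 1 := by
    refine central_eq_one hK P ?_ hzc (hP (mem_zpowers z))
    intro a ha b hb
    let _ := hcyc.commGroup
    exact congrArg Subtype.val (mul_comm (⟨a, ha⟩ : ↥(P : Subgroup ↥K)) ⟨b, hb⟩)
  have h6 : y = 1 := congrArg Subtype.val h5
  rw [h6, orderOf_one] at hy
  exact hp.ne_one hy.symm

variable {H : Type u} [Group H] [Finite H] {p : ℕ}

/-- the image of an element of order `p` in `H / O_{p'}(H)` has order `p` -/
theorem orderOf_mk_core (hp : p.Prime) [(pPrimeCore p H).Normal] {x : H} (hx : orderOf x = p) :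
    orderOf (QuotientGroup.mk' (pPrimeCore p H) x) = p := by
  have h1 : orderOf (QuotientGroup.mk' (pPrimeCore p H) x) ∣ orderOf x := orderOf_map_dvd _ x
  rw [hx] at h1
  rcases (Nat.dvd_prime hp).1 h1 with h2 | h2
  · exfalso
    have h3 : x ∈ pPrimeCore p H := (QuotientGroup.eq_one_iff x).1 (orderOf_eq_one_iff.1 h2)
    have h4 : orderOf x ∣ Nat.card ↥(pPrimeCore p H) := by
      have h5 := orderOf_dvd_natCard (⟨x, h3⟩ : ↥(pPrimeCore p H))
      rwa [Subgroup.orderOf_mk] at h5
    rw [hx] at h4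
    exact (hp.coprime_iff_not_dvd.1 (Lib.Cores.pPrimeCore_coprime (G := H) p).symm) h4
  · exact h2

theorem no_comp (hp : p.Prime) (hp2 : p ≠ 2) (hr : PRankLE p 1 H) {x : H} (hx : orderOf x = p)
    (hxc : x ∈ center H) (K : Subgroup (H ⧸ pPrimeCore p H)) : ¬ IsComponent K := by
  intro hK
  have : Fact p.Prime := ⟨hp⟩
  have hO := Lib.Cores.pPrimeCore_normal (G := H) p
  have hr' : PRankLE p 1 (H ⧸ pPrimeCore p H) :=
    OddOrderLocal.RankQuot.pRankLE_quotient_of_not_dvd _
      ((hp.coprime_iff_not_dvd.1 (Lib.Cores.pPrimeCore_coprime (G := H) p).symm)) hr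
  have hyc : QuotientGroup.mk' (pPrimeCore p H) x ∈ center (H ⧸ pPrimeCore p H) := by
    rw [mem_center_iff]
    intro g
    obtain ⟨a, rfl⟩ := QuotientGroup.mk'_surjective _ g
    rw [← map_mul, ← map_mul, mem_center_iff.1 hxc a]
  exact not_quasisimple_sub hp hp2 hr' (orderOf_mk_core hp hx) hyc K hK.2.1 (dvd_card_comp hp K hK)

/-- no component: `m_p(H) ≤ 1` and an element of order `p` in the centre, `p` odd -/
theorem comps_of_rank_one_central (hp : p.Prime) (hp2 : p ≠ 2) (hr : PRankLE p 1 H) {x : H} (hx : orderOf x = p)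
    (hxc : x ∈ center H) : Comps p H := fun K hK => absurd hK (no_comp hp hp2 hr hx hxc K)

/-- no component of `C(x) / O_{p'}(C(x))`, `x` of order `p`, if `m_p(C(x)) ≤ 1`, `p` odd -/
theorem comps_cent_of_rank_one {G : Type u} [Group G] [Finite G] (hp : p.Prime) (hp2 : p ≠ 2) {x : G}
    (hx : orderOf x = p) (hr : PRankLE p 1 ↥(centralizer ({x} : Set G))) :
    Comps p ↥(centralizer ({x} : Set G)) := by
  have hxm : x ∈ centralizer ({x} : Set G) := mem_centralizer_singleton_iff.2 rfl
  refine comps_of_rank_one_central hp hp2 hr (x := ⟨x, hxm⟩) ((Subgroup.orderOf_mk x hxm).trans hx) ?_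
  rw [mem_center_iff]
  rintro ⟨g, hg⟩
  exact Subtype.ext (mem_centralizer_singleton_iff.1 hg)

/-- `m_p(X) ≤ 1`, automorphisms of order `p` inner, `p` odd -/
theorem autC_of_rank_one {X : Type u} [Group X] [Finite X] (hp : p.Prime) (hp2 : p ≠ 2) (hc : center X = ⊥)
    (hi : AutInner p X) (hr : PRankLE p 1 X) : AutC p X :=
  autC_of_inner hc hi fun _ hg => comps_cent_of_rank_one hp hp2 hg (prankLE_subgroup _ hr)

end Cfsg.Agent.CpAut
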