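import Cfsg.Agent.CpAut.TwoTool
import Cfsg.Agent.KFacts.Baby.RowB_m3
import Cfsg.Agent.S1704
import Cfsg.Agent.Prune
set_option linter.all false
prune_inst 0x7f00000000000000000000000000000000000000000000000000000000000000000000000000000000000000000000000000000000000000000000000000000000000000000000000000000000000000003fffffffffffffffffffffffffffbeffbdffffffff
open scoped Cfsg.Agent.FastGrp

/-!
# S1814, `p = 2`: the row `B` (`Out = 1`), from `CompC2` (helper31)
-/

set_option autoImplicit false

namespace Cfsg.Agent.CpAut.TwoInner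

open Subgroup Cfsg

theorem inner_b (α : MulAut Spor.BabyMonster) : ∃ g, α = MulAut.conj g := by
  have h0 : IsB Spor.BabyMonster := S1704.result
  have := h0.1
  exact KFacts.Baby.Sheet.allInner_of_isoB KFacts.CoTwo.InnerB.inner KFacts.Baby.Row.fix ⟨MulEquiv.refl _⟩ α

theorem b (h : CTwoTab.CompC2 Spor.BabyMonster) : AutC 2 Spor.BabyMonster := by
  have h0 : IsB Spor.BabyMonster := S1704.result
  have : Finite Spor.BabyMonster := Nat.finite_of_card_ne_zero (by rw [h0.2]; norm_num)
  exact autC_of_all (center_eq_bot_of_card h0.1 (by rw [h0.2]; norm_num)) inner_b h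

end Cfsg.Agent.CpAut.TwoInner
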