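import Cfsg.Agent.GpSp.Iso
import Cfsg.Agent.ClassicalGeometry.HermOrthonormal
import Cfsg.Agent.LieClassical.HermBasic
import Cfsg.Agent.Prune
set_option linter.all false
prune_inst 0x7f00000000000000000000000000000000000000000000000000000000000000000000000000000000000000000000000000000000000000000000000000000000000000000000000000000000000000003fffffffffffffffffffffffffffbeffbdffffffff
open scoped Cfsg.Agent.FastGrp

/-!
# Elements of order three of `Sp_2n(q)`, `q` even, `3 ∣ q + 1` (helper73)

`exists_herm` : `x ∈ Sp_2n(F)`, `x³ = 1`, `|F| = q` even, `|F'| = q²`, `ω ∈ F'` with `ω² + ω + 1 = 0`, `ω ^ q = ω²`.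
There are `k ≤ n` and a homomorphism `θ : C(x) → GU k F' q` whose kernel acts trivially on `[V, x]`.
-/

set_option autoImplicit false
set_option linter.unusedSectionVars false
open Cfsg
open scoped Matrix
open Cfsg.Agent.ClassicalGeometry.SympBasic Cfsg.Agent.ClassicalGeometry.SympSiegel

namespace Cfsg.Agent.CpAut.SpHerm

open Module Matrix Cfsg.Agent.LieClassical.HermBasic
open Cfsg.Agent.GpSp.Symp

/-! ### Groups of isometries of a hermitian space -/

section abs

variable {F U C : Type*} [Field F] [Fintype F] [AddCommGroup U] [Module F U] [FiniteDimensional F U] [Group C] {q : ℕ}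

theorem conj_ne_id (hF : Fintype.card F = q ^ 2) : ((conj hF : F ≃+* F) : F →+* F) ≠ RingHom.id F := by
  intro h
  obtain ⟨x, hx⟩ := exists_not_fixed hF
  exact hx (congrArg (fun g : F →+* F => g x) h)

/-- A group of isometries of a nondegenerate hermitian space as a group of matrices. -/
theorem exists_toGU (hF : Fintype.card F = q ^ 2) (B : U →ₛₗ[((conj hF : F ≃+* F) : F →+* F)] U →ₗ[F] F)
    (hS : B.IsSymm) (hB : B.SeparatingLeft) (ρ : C →* Module.End F U)
    (hρ : ∀ c u v, B (ρ c u) (ρ c v) = B u v) :
    ∃ θ : C →* GU (finrank F U) F q, ∀ c, θ c = 1 → ρ c = 1 := by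
  obtain ⟨b, hb⟩ := Cfsg.Agent.ClassicalGeometry.HermOrthonormal.exists_orthonormal_basis (conj_ne_id hF)
    (fun a => pow_q_pow_q hF a) B hS hB
  have hform : ∀ x y : U, hermForm (finrank F U) F q (b.repr x) (b.repr y) = B y x := by
    intro x y
    conv_rhs => rw [← b.sum_repr x, ← b.sum_repr y]
    simp only [map_sum, LinearMap.map_smulₛₗ, LinearMap.sum_apply, LinearMap.smul_apply, hb, smul_eq_mul,
      RingHom.id_apply]
    rw [herm_def]
    refine Finset.sum_congr rfl fun i _ => ?_
    rw [Finset.sum_eq_single i]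
    · rw [if_pos rfl, mul_one]
      rfl
    · intro j _ hj
      rw [if_neg hj]
      ring
    · intro h
      exact absurd (Finset.mem_univ i) h
  let f : C →* Matrix (Fin (finrank F U)) (Fin (finrank F U)) F :=
    (LinearMap.toMatrixAlgEquiv b : _ →* _).comp ρ
  have hf : ∀ c x, f c *ᵥ (b.repr x) = b.repr (ρ c x) := fun c x =>
    LinearMap.toMatrix_mulVec_repr b b (ρ c) x
  have hmem : ∀ c, f.toHomUnits c ∈ GU (finrank F U) F q := by
    intro c
    rw [mem_GU_iff]
    intro u v
    obtain ⟨x, rfl⟩ : ∃ x, (b.repr x : Fin (finrank F U) → F) = u := by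
      refine ⟨b.equivFun.symm u, ?_⟩
      exact b.equivFun.apply_symm_apply u
    obtain ⟨y, rfl⟩ : ∃ y, (b.repr y : Fin (finrank F U) → F) = v := by
      refine ⟨b.equivFun.symm v, ?_⟩
      exact b.equivFun.apply_symm_apply v
    change hermForm _ F q (f c *ᵥ _) (f c *ᵥ _) = _
    rw [hf, hf, hform, hρ, hform]
  refine ⟨f.toHomUnits.codRestrict (GU (finrank F U) F q) hmem, fun c hc => ?_⟩
  have h2 : f c = 1 := congrArg (fun g : GU (finrank F U) F q =>
    ((g : Matrix.GeneralLinearGroup (Fin (finrank F U)) F) : Matrix (Fin (finrank F U)) (Fin (finrank F U)) F)) hc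
  exact (LinearMap.toMatrixAlgEquiv b).injective (h2.trans (map_one (LinearMap.toMatrixAlgEquiv b)).symm)

end abs

/-! ### Linear algebra of the three eigenvectors -/

section mod

variable {F M : Type*} [Field F] [AddCommGroup M] [Module F M] {w : F}

theorem dec_all (h2 : (2 : F) = 0) (hw : w ^ 2 + w + 1 = 0) (z z1 z2 : M) :
    z = (z + z1 + z2) + (z + w ^ 2 • z1 + w • z2) + (z + w • z1 + w ^ 2 • z2) := by
  have e1 : (z + z1 + z2) + (z + w ^ 2 • z1 + w • z2) + (z + w • z1 + w ^ 2 • z2) =
      (3 : F) • z + (w ^ 2 + w + 1) • z1 + (w ^ 2 + w + 1) • z2 := by module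
  have h3 : (3 : F) = 1 := by linear_combination h2
  rw [e1, hw, zero_smul, zero_smul, add_zero, add_zero, h3, one_smul]

theorem dec_two (h2 : (2 : F) = 0) (hw : w ^ 2 + w + 1 = 0) (z z1 z2 : M) :
    z1 + z2 = (z + w ^ 2 • z1 + w • z2) + (z + w • z1 + w ^ 2 • z2) := by
  have e1 : (z + w ^ 2 • z1 + w • z2) + (z + w • z1 + w ^ 2 • z2) =
      (2 : F) • z + (w ^ 2 + w + 1) • z1 + (w ^ 2 + w + 1) • z2 - (2 : F) • (z1 + z2) + (z1 + z2) := by module
  rw [e1, hw, h2, zero_smul, zero_smul, zero_smul, zero_smul, add_zero, add_zero, sub_zero, zero_add]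

theorem eig_one (hw3 : w ^ 3 = 1) (z z1 z2 : M) :
    z1 + w ^ 2 • z2 + w • z = w • (z + w ^ 2 • z1 + w • z2) := by
  have e1 : w • (z + w ^ 2 • z1 + w • z2) = w • z + w ^ 3 • z1 + w ^ 2 • z2 := by module
  rw [e1, hw3, one_smul]
  abel

theorem eig_two (hw3 : w ^ 3 = 1) (z z1 z2 : M) :
    z1 + w • z2 + w ^ 2 • z = w ^ 2 • (z + w • z1 + w ^ 2 • z2) := by
  have e1 : w ^ 2 • (z + w • z1 + w ^ 2 • z2) = w ^ 2 • z + w ^ 3 • z1 + w ^ 3 • w • z2 := by module
  rw [e1, hw3, one_smul, one_smul]
  abel

end mod

/-! ### Extension of scalars -/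

section ext

variable {F F' : Type*} [Field F] [Field F'] [Algebra F F'] {n q : ℕ}

local notation "V" => (Fin n ⊕ Fin n → F)
local notation "V'" => (Fin n ⊕ Fin n → F')

/-- extension of scalars on vectors -/
def mp (F' : Type*) [Field F'] [Algebra F F'] (v : Fin n ⊕ Fin n → F) : Fin n ⊕ Fin n → F' :=
  fun i => algebraMap F F' (v i)

theorem mp_inj {v w : Fin n ⊕ Fin n → F} (h : mp F' v = mp F' w) : v = w :=
  funext fun i => (algebraMap F F').injective (congrFun h i)

/-- extension of scalars on symplectic groups -/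
def emb (F F' : Type*) [Field F] [Field F'] [Algebra F F'] (n : ℕ) :
    Matrix.symplecticGroup (Fin n) F →* Matrix.symplecticGroup (Fin n) F' where
  toFun g := ⟨(g : Matrix (Fin n ⊕ Fin n) (Fin n ⊕ Fin n) F).map (algebraMap F F'), by
    have h := SymplecticGroup.mem_iff.1 g.2
    rw [SymplecticGroup.mem_iff]
    have hJ : (Matrix.J (Fin n) F).map (algebraMap F F') = Matrix.J (Fin n) F' := by
      unfold Matrix.J
      rw [Matrix.fromBlocks_map]
      congr 1
      · exact Matrix.map_zero _ (map_zero _)
      · ext i j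
        simp [Matrix.one_apply, apply_ite]
      · exact Matrix.map_one _ (map_zero _) (map_one _)
      · exact Matrix.map_zero _ (map_zero _)
    rw [← hJ, ← Matrix.map_mul, ← Matrix.transpose_map, ← Matrix.map_mul, h]⟩
  map_one' := Subtype.ext (Matrix.map_one _ (map_zero _) (map_one _))
  map_mul' g h := Subtype.ext Matrix.map_mul

theorem emb_mp (g : Matrix.symplecticGroup (Fin n) F) (v : Fin n ⊕ Fin n → F) :
    emb F F' n g • mp F' v = mp F' (g • v) := by
  funext i
  change ((g : Matrix (Fin n ⊕ Fin n) (Fin n ⊕ Fin n) F).map (algebraMap F F') *ᵥ mp F' v) i =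
    algebraMap F F' (((g : Matrix (Fin n ⊕ Fin n) (Fin n ⊕ Fin n) F) *ᵥ v) i)
  simp only [Matrix.mulVec, dotProduct, Matrix.map_apply, mp, map_sum, map_mul]

/-- the Frobenius map -/
def sg (q : ℕ) (v : Fin n ⊕ Fin n → F') : Fin n ⊕ Fin n → F' := fun i => v i ^ q

section frob

variable [Fintype F] [Fintype F'] (hF : Fintype.card F = q) (hF' : Fintype.card F' = q ^ 2)

include hF' in
theorem sg_sg (v : Fin n ⊕ Fin n → F') : sg q (sg q v) = v := funext fun i => pow_q_pow_q hF' (v i)

include hF' in
theorem sg_add (v w : Fin n ⊕ Fin n → F') : sg q (v + w) = sg q v + sg q w := funext fun _ => add_pow_q hF' _ _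

omit [Fintype F'] in
theorem sg_smul (c : F') (v : Fin n ⊕ Fin n → F') : sg q (c • v) = c ^ q • sg q v := funext fun _ => mul_pow _ _ _

include hF hF' in
theorem sg_emb (g : Matrix.symplecticGroup (Fin n) F) (v : Fin n ⊕ Fin n → F') :
    sg q (emb F F' n g • v) = emb F F' n g • sg q v := by
  funext i
  change (((g : Matrix (Fin n ⊕ Fin n) (Fin n ⊕ Fin n) F).map (algebraMap F F') *ᵥ v) i) ^ q =
    ((g : Matrix (Fin n ⊕ Fin n) (Fin n ⊕ Fin n) F).map (algebraMap F F') *ᵥ sg q v) i
  simp only [Matrix.mulVec, dotProduct, Matrix.map_apply, sg]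
  rw [sum_pow_q hF']
  refine Finset.sum_congr rfl fun j _ => ?_
  rw [mul_pow, ← map_pow]
  congr 2
  rw [← hF]
  exact FiniteField.pow_card _

include hF' in
theorem sg_form (u v : Fin n ⊕ Fin n → F') : sympForm n F' (sg q u) (sg q v) = (sympForm n F' u v) ^ q := by
  rw [sympForm_eq_sum, sympForm_eq_sum, sum_pow_q hF']
  refine Finset.sum_congr rfl fun j _ => ?_
  rw [sub_pow_q hF', mul_pow, mul_pow]
  rfl

end frob

/-! ### The eigenspace -/

/-- the eigenspace of `x` for `a`, after extension of scalars -/
def E (x : Matrix.symplecticGroup (Fin n) F) (a : F') : Submodule F' (Fin n ⊕ Fin n → F') where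
  carrier := {v | emb F F' n x • v = a • v}
  add_mem' := by
    intro u v hu hv
    change emb F F' n x • (u + v) = a • (u + v)
    rw [smul_add', smul_add, show emb F F' n x • u = a • u from hu, show emb F F' n x • v = a • v from hv]
  zero_mem' := by
    change emb F F' n x • (0 : Fin n ⊕ Fin n → F') = a • (0 : Fin n ⊕ Fin n → F')
    rw [smul_zero', smul_zero]
  smul_mem' := by
    intro c v hv
    change emb F F' n x • (c • v) = a • (c • v)
    rw [smul_smul', show emb F F' n x • v = a • v from hv, smul_comm]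

theorem mem_E {x : Matrix.symplecticGroup (Fin n) F} {a : F'} {v : Fin n ⊕ Fin n → F'} :
    v ∈ E x a ↔ emb F F' n x • v = a • v := Iff.rfl

section herm

variable [Fintype F] [Fintype F'] [CharP F 2] (hF : Fintype.card F = q) (hF' : Fintype.card F' = q ^ 2)
  {w : F'} (hw : w ^ 2 + w + 1 = 0) (hwq : w ^ q = w ^ 2)
  {x : Matrix.symplecticGroup (Fin n) F} (hx : x ^ 3 = 1)

omit [Fintype F] [Fintype F'] in
theorem two_zero (F' : Type*) [Field F'] [Algebra F F'] : (2 : F') = 0 := by
  have h : (2 : F) = 0 := CharTwo.two_eq_zero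
  have h2 := congrArg (algebraMap F F') h
  rwa [map_ofNat, map_zero] at h2

omit [Fintype F] [Fintype F'] in
include hw in
theorem w_cube (_ : CharP F 2) : w ^ 3 = 1 := by
  linear_combination (w - 1) * hw

include hF hF' hwq in
theorem sg_mem {v : Fin n ⊕ Fin n → F'} (hv : v ∈ E x w) : sg q v ∈ E x (w ^ 2) := by
  rw [mem_E] at hv ⊢
  rw [← sg_emb hF hF', hv, sg_smul, hwq]

omit [CharP F 2] in
include hF hF' hwq in
theorem sg_mem' (hw3 : w ^ 3 = 1) {v : Fin n ⊕ Fin n → F'} (hv : v ∈ E x (w ^ 2)) : sg q v ∈ E x w := by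
  rw [mem_E] at hv ⊢
  rw [← sg_emb hF hF', hv, sg_smul, ← pow_mul, mul_comm 2 q, pow_mul, hwq]
  congr 1
  rw [← pow_mul]
  calc w ^ (2 * 2) = w ^ 3 * w := by ring
    _ = w := by rw [hw3, one_mul]

/-- the hermitian form on the eigenspace -/
noncomputable def B (x : Matrix.symplecticGroup (Fin n) F) (w : F') :
    E x w →ₛₗ[((conj hF' : F' ≃+* F') : F' →+* F')] E x w →ₗ[F'] F' :=
  LinearMap.mk₂'ₛₗ _ _ (fun u v => sympForm n F' (sg q (u : Fin n ⊕ Fin n → F')) (v : Fin n ⊕ Fin n → F'))
    (by
      intro u u' v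
      rw [Submodule.coe_add, sg_add hF', sympForm_add_left])
    (by
      intro c u v
      rw [Submodule.coe_smul, sg_smul, sympForm_smul_left]
      rfl)
    (by
      intro u v v'
      rw [Submodule.coe_add, sympForm_add_right])
    (by
      intro c u v
      rw [Submodule.coe_smul, sympForm_smul_right]
      rfl)

theorem B_apply (u v : E x w) : B hF' x w u v = sympForm n F' (sg q (u : Fin n ⊕ Fin n → F')) (v : Fin n ⊕ Fin n → F') :=
  rfl

theorem B_symm : (B hF' x w).IsSymm := by
  constructor
  intro u v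
  rw [B_apply, B_apply]
  change (sympForm n F' _ _) ^ q = _
  rw [← sg_form hF', sg_sg hF', sympForm_swap]
  have h2 : (2 : F') = 0 := two_zero (F := F) F'
  linear_combination (-(sympForm n F' (sg q (v : Fin n ⊕ Fin n → F')) (u : Fin n ⊕ Fin n → F'))) * h2

include hw hwq hx hF hF' in
/-- a vector orthogonal (after conjugation) to the eigenspace is zero -/
theorem B_sep : (B hF' x w).SeparatingLeft := by
  intro u hu
  have h2 : (2 : F') = 0 := two_zero (F := F) F'
  have hw3 := w_cube (F := F) hw inferInstance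
  have hw0 : w ≠ 0 := by
    rintro rfl
    simp at hw
  have hw1 : w ≠ 1 := by
    rintro rfl
    have : (3 : F') = 0 := by linear_combination hw
    have h1 : (1 : F') = 0 := by linear_combination this - h2
    exact one_ne_zero h1
  set y := emb F F' n x with hy
  have hy3 : y ^ 3 = 1 := by rw [hy, ← map_pow, hx, map_one]
  have hy3' : ∀ v : Fin n ⊕ Fin n → F', y • y • y • v = v := by
    intro v
    rw [← mul_smul, ← mul_smul, ← pow_two, ← pow_succ, hy3, one_smul]
  set s := sg q (u : Fin n ⊕ Fin n → F') with hs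
  have hsE : y • s = w ^ 2 • s := mem_E.1 (sg_mem hF hF' hwq u.2)
  -- `s` is orthogonal to the eigenspaces of `a` unless `a w² = 1`
  have key : ∀ a : F', w ^ 2 * a ≠ 1 → ∀ v : Fin n ⊕ Fin n → F', y • v = a • v → sympForm n F' s v = 0 := by
    intro a ha v hv
    have h1 : sympForm n F' (y • s) (y • v) = sympForm n F' s v := form_smul y s v
    rw [hsE, hv, sympForm_smul_left, sympForm_smul_right] at h1
    have h3 : (w ^ 2 * a - 1) * sympForm n F' s v = 0 := by linear_combination h1
    exact (mul_eq_zero.1 h3).resolve_left (sub_ne_zero.2 ha)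
  have hs0 : s = 0 := by
    apply eq_zero_of_forall_sympForm_right
    intro v
    rw [dec_all h2 hw v (y • v) (y • y • v), sympForm_add_right, sympForm_add_right]
    have t1 : sympForm n F' s (v + y • v + y • y • v) = 0 := by
      apply key 1
      · rw [mul_one]
        intro h
        apply hw1
        calc w = w * (w ^ 2) := by rw [h, mul_one]
          _ = w ^ 3 := by ring
          _ = 1 := hw3
      · rw [smul_add', smul_add', hy3', one_smul]
        abel
    have t2 : sympForm n F' s (v + w ^ 2 • (y • v) + w • (y • y • v)) = 0 := by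
      have hmem : y • (v + w ^ 2 • (y • v) + w • (y • y • v)) = w • (v + w ^ 2 • (y • v) + w • (y • y • v)) := by
        rw [smul_add', smul_add', smul_smul', smul_smul', hy3', eig_one hw3]
      exact hu ⟨_, hmem⟩
    have t3 : sympForm n F' s (v + w • (y • v) + w ^ 2 • (y • y • v)) = 0 := by
      apply key (w ^ 2)
      · intro h
        apply hw1
        calc w = w ^ 3 * w := by rw [hw3, one_mul]
          _ = w ^ 2 * w ^ 2 := by ring
          _ = 1 := h
      · rw [smul_add', smul_add', smul_smul', smul_smul', hy3', eig_two hw3]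
    rw [t1, t2, t3, add_zero, add_zero]
  apply Subtype.ext
  have h5 : sg q s = (u : Fin n ⊕ Fin n → F') := sg_sg hF' _
  rw [hs0] at h5
  rw [← h5]
  funext i
  exact zero_pow_q hF'

/-- the action of the centralizer on the eigenspace -/
def rho (x : Matrix.symplecticGroup (Fin n) F) (w : F') :
    ↥(Subgroup.centralizer ({x} : Set (Matrix.symplecticGroup (Fin n) F))) →* Module.End F' (E x w) where
  toFun c := (act n F' (emb F F' n (c : Matrix.symplecticGroup (Fin n) F))).restrict (p := E x w) (q := E x w) (by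
    intro v hv
    rw [mem_E] at hv ⊢
    rw [act_apply, ← mul_smul, ← map_mul, ← Subgroup.mem_centralizer_singleton_iff.1 c.2, map_mul, mul_smul, hv,
      smul_smul'])
  map_one' := by
    apply LinearMap.ext
    intro v
    apply Subtype.ext
    change emb F F' n 1 • (v : Fin n ⊕ Fin n → F') = v
    rw [map_one, one_smul]
  map_mul' c d := by
    apply LinearMap.ext
    intro v
    apply Subtype.ext
    change emb F F' n (c * d) • (v : Fin n ⊕ Fin n → F') = emb F F' n c • emb F F' n d • (v : Fin n ⊕ Fin n → F')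
    rw [map_mul, mul_smul]

theorem rho_coe (c : ↥(Subgroup.centralizer ({x} : Set (Matrix.symplecticGroup (Fin n) F)))) (v : E x w) :
    ((rho x w c v : E x w) : Fin n ⊕ Fin n → F') =
      emb F F' n (c : Matrix.symplecticGroup (Fin n) F) • (v : Fin n ⊕ Fin n → F') := rfl

/-- `F`-independent vectors stay independent over `F'` -/
theorem linearIndependent_mp {ι : Type*} [Fintype ι] {v : ι → (Fin n ⊕ Fin n → F)} (hv : LinearIndependent F v) :
    LinearIndependent F' (fun i => mp F' (v i)) := by
  rw [Fintype.linearIndependent_iff] at hv ⊢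
  intro g hg i
  rw [← Module.forall_dual_apply_eq_zero_iff F]
  intro l
  refine hv (fun i => l (g i)) ?_ i
  funext j
  have h1 := congrArg (fun z : Fin n ⊕ Fin n → F' => l (z j)) hg
  simp only [Finset.sum_apply, Pi.smul_apply, map_sum, Pi.zero_apply, map_zero] at h1
  rw [Finset.sum_apply]
  refine Eq.trans (Finset.sum_congr rfl fun i _ => ?_) h1
  change l (g i) * v i j = l (g i * algebraMap F F' (v i j))
  rw [mul_comm (g i), ← Algebra.smul_def, map_smul, smul_eq_mul, mul_comm]

include hw hwq hx hF hF' in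
/-- **Elements of order three**, `3 ∣ q + 1`. -/
theorem exists_herm {W : Submodule F (Fin n ⊕ Fin n → F)} (hW : ∀ v ∈ W, x • v = v) :
    ∃ (k : ℕ) (θ : ↥(Subgroup.centralizer ({x} : Set (Matrix.symplecticGroup (Fin n) F))) →* GU k F' q),
    2 * k + finrank F W ≤ 2 * n ∧ ∀ c, θ c = 1 → ∀ v : Fin n ⊕ Fin n → F,
      (c : Matrix.symplecticGroup (Fin n) F) • (x • v + x • x • v) = x • v + x • x • v := by
  have hw3 := w_cube (F := F) hw inferInstance
  have h2 : (2 : F') = 0 := two_zero (F := F) F'
  obtain ⟨θ, hθ⟩ := exists_toGU hF' (B hF' x w) (B_symm hF') (B_sep hF hF' hw hwq hx) (rho x w) (by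
    intro c u v
    rw [B_apply, B_apply, rho_coe, rho_coe, sg_emb hF hF', form_smul])
  refine ⟨_, θ, ?_, ?_⟩
  · -- `E w` and its conjugate are independent
    have hw1 : w ≠ w ^ 2 := by
      intro h
      have h3 : (1 : F') = 0 := by linear_combination hw - h - w ^ 2 * h2
      exact one_ne_zero h3
    -- a basis of `E w` together with its conjugates
    let b := finBasis F' (E x w)
    have hli : LinearIndependent F' (Sum.elim (fun i => ((b i : E x w) : Fin n ⊕ Fin n → F'))
        (fun i => sg q ((b i : E x w) : Fin n ⊕ Fin n → F'))) := by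
      rw [linearIndependent_sum]
      refine ⟨?_, ?_, ?_⟩
      · exact (b.linearIndependent.map' (E x w).subtype (Submodule.ker_subtype _) :)
      · rw [Fintype.linearIndependent_iff]
        intro g hg i
        have h4 := congrArg (sg q) hg
        have h5 : sg q (∑ i, g i • sg q ((b i : E x w) : Fin n ⊕ Fin n → F')) =
            ∑ i, g i ^ q • ((b i : E x w) : Fin n ⊕ Fin n → F') := by
          funext j
          change (∑ i, g i • sg q ((b i : E x w) : Fin n ⊕ Fin n → F')) j ^ q = _
          rw [Finset.sum_apply, sum_pow_q hF', Finset.sum_apply]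
          refine Finset.sum_congr rfl fun i _ => ?_
          change (g i * ((b i : E x w) : Fin n ⊕ Fin n → F') j ^ q) ^ q = g i ^ q * _
          rw [mul_pow, pow_q_pow_q hF']
        have h6 : sg q (0 : Fin n ⊕ Fin n → F') = 0 := funext fun _ => zero_pow_q hF'
        have h7 : ∑ i, g i • sg q ((b i : E x w) : Fin n ⊕ Fin n → F') = 0 := hg
        rw [h7, h6] at h5
        have h8 : ∑ i, g i ^ q • b i = 0 := by
          apply Subtype.ext
          rw [Submodule.coe_sum, Submodule.coe_zero, h5]
          rfl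
        have h9 := (Fintype.linearIndependent_iff.1 b.linearIndependent) _ h8 i
        exact (pow_q_eq_zero hF').1 h9
      · rw [Submodule.disjoint_def]
        intro v hv1 hv2
        have m1 : v ∈ E x w := by
          refine (Submodule.span_le.2 ?_) hv1
          rintro _ ⟨i, rfl⟩
          exact (b i).2
        have m2 : v ∈ E x (w ^ 2) := by
          refine (Submodule.span_le.2 ?_) hv2
          rintro _ ⟨i, rfl⟩
          exact sg_mem hF hF' hwq (b i).2
        have h3 : (w - w ^ 2) • v = 0 := by
          rw [sub_smul, ← mem_E.1 m1, ← mem_E.1 m2, sub_self]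
        exact (smul_eq_zero.1 h3).resolve_left (sub_ne_zero.2 hw1)
    -- the endomorphism `T = y + y²` is one on `E w`, `E w²` and zero on the fixed points
    let y := emb F F' n x
    let T : Module.End F' (Fin n ⊕ Fin n → F') := act n F' y + act n F' y * act n F' y
    have hT : ∀ v, T v = y • v + y • y • v := fun v => rfl
    have hT1 : ∀ v ∈ E x w, T v = v := by
      intro v hv
      rw [hT, mem_E.1 hv, smul_smul', mem_E.1 hv, smul_smul, ← add_smul]
      have : w + w * w = 1 := by linear_combination hw - h2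
      rw [this, one_smul]
    have hT2 : ∀ v ∈ E x (w ^ 2), T v = v := by
      intro v hv
      rw [hT, mem_E.1 hv, smul_smul', mem_E.1 hv, smul_smul, ← add_smul]
      have : w ^ 2 + w ^ 2 * w ^ 2 = 1 := by linear_combination hw + w * hw3 - h2
      rw [this, one_smul]
    have hrange : 2 * finrank F' (E x w) ≤ finrank F' (LinearMap.range T) := by
      have h4 : Submodule.span F' (Set.range (Sum.elim (fun i => ((b i : E x w) : Fin n ⊕ Fin n → F'))
        (fun i => sg q ((b i : E x w) : Fin n ⊕ Fin n → F')))) ≤ LinearMap.range T := by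
        rw [Submodule.span_le]
        rintro _ ⟨i | i, rfl⟩
        · exact ⟨_, hT1 _ (b i).2⟩
        · exact ⟨_, hT2 _ (sg_mem hF hF' hwq (b i).2)⟩
      have h5 := Submodule.finrank_mono h4
      rw [finrank_span_eq_card hli, Fintype.card_sum, Fintype.card_fin] at h5
      omega
    have hker : finrank F W ≤ finrank F' (LinearMap.ker T) := by
      let b' := finBasis F W
      have h4 : LinearIndependent F (fun i => ((b' i : W) : Fin n ⊕ Fin n → F)) :=
        (b'.linearIndependent.map' W.subtype (Submodule.ker_subtype _) :)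
      have h5 := linearIndependent_mp (F' := F') h4
      have h6 : Submodule.span F' (Set.range (fun i => mp F' ((b' i : W) : Fin n ⊕ Fin n → F))) ≤ LinearMap.ker T := by
        rw [Submodule.span_le]
        rintro _ ⟨i, rfl⟩
        change T _ = 0
        rw [hT]
        change y • mp F' _ + y • y • mp F' _ = 0
        rw [show y = emb F F' n x from rfl, emb_mp, hW _ (b' i).2, emb_mp, hW _ (b' i).2, ← two_smul F', h2, zero_smul]
      have h7 := Submodule.finrank_mono h6
      rwa [finrank_span_eq_card h5, Fintype.card_fin] at h7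
    have h8 := LinearMap.finrank_range_add_finrank_ker T
    rw [Module.finrank_fintype_fun_eq_card, Fintype.card_sum, Fintype.card_fin] at h8
    omega
  · intro c hc v
    have hc1 := hθ c hc
    have hE : ∀ v : Fin n ⊕ Fin n → F', v ∈ E x w → emb F F' n (c : Matrix.symplecticGroup (Fin n) F) • v = v := by
      intro v hv
      have := rho_coe c (⟨v, hv⟩ : E x w)
      rw [hc1] at this
      exact this.symm
    have hE2 : ∀ v : Fin n ⊕ Fin n → F', v ∈ E x (w ^ 2) →
        emb F F' n (c : Matrix.symplecticGroup (Fin n) F) • v = v := by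
      intro v hv
      have h3 := hE _ (sg_mem' hF hF' hwq hw3 hv)
      have h4 := congrArg (sg q) h3
      rwa [sg_emb hF hF', sg_sg hF'] at h4
    apply mp_inj (F' := F')
    rw [← emb_mp]
    set y := emb F F' n x with hy
    set z := mp F' v with hz
    have hm : mp F' (x • v + x • x • v) = y • z + y • y • z := by
      rw [hy, hz, emb_mp, emb_mp]
      funext i
      exact map_add _ _ _
    have hy3' : ∀ v : Fin n ⊕ Fin n → F', y • y • y • v = v := by
      intro v
      rw [← mul_smul, ← mul_smul, ← pow_two, ← pow_succ, hy, ← map_pow, hx, map_one, one_smul]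
    have m1 : z + w ^ 2 • (y • z) + w • (y • y • z) ∈ E x w := by
      rw [mem_E, ← hy, smul_add', smul_add', smul_smul', smul_smul', hy3', eig_one hw3]
    have m2 : z + w • (y • z) + w ^ 2 • (y • y • z) ∈ E x (w ^ 2) := by
      rw [mem_E, ← hy, smul_add', smul_add', smul_smul', smul_smul', hy3', eig_two hw3]
    rw [hm, dec_two h2 hw z, smul_add', hE _ m1, hE2 _ m2]

end herm

end ext

end Cfsg.Agent.CpAut.SpHerm

private theorem dce_c7abaaf2c875 : _root_.True := by
  try have : _root_.True := by simp only [_root_.Cfsg.Agent.CpAut.SpHerm.mp.eq_1]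
  try have : _root_.True := by simp only [_root_.Cfsg.Agent.CpAut.SpHerm.sg.eq_1]
  try have : _root_.True := by simp only [_root_.Cfsg.Agent.LieClassical.HermBasic.conj.congr_simp]
  exact _root_.True.intro
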