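import Mathlib
import Cfsg.Agent.CpAut.Base
import Cfsg.Agent.CpAut.SpHerm
import Cfsg.Agent.ClassicalGeometry.SympGamma
import Cfsg.Agent.ClassicalGeometry.SympIso
import Cfsg.Agent.Prune
set_option linter.all false
prune_inst 0x7f00000000000000000000000000000000000000000000000000000000000000000000000000000000000000000000000000000000000000000000000000000000000000000000000000000000000000003fffffffffffffffffffffffffffbeffbdffffffff
open scoped Cfsg.Agent.FastGrp

/-!
# Semilinear isometries of order three of a symplectic space (helper73)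

`exists_conj_frob` : `g` semilinear for `φ ≠ 1`, `g³ = 1`, preserving the form (up to `φ`), is `h ∘ φ ∘ h⁻¹` with `h ∈ Sp`.
-/

set_option autoImplicit false

namespace Cfsg.Agent.CpAut.SpLang

open Cfsg
open Cfsg.Agent.ClassicalGeometry.SympBasic Cfsg.Agent.ClassicalGeometry.SympAutSemi
  Cfsg.Agent.ClassicalGeometry.SympGamma Cfsg.Agent.ClassicalGeometry.SympIso

variable {F : Type*} [Field F] {m : ℕ}

/-- the fixed field of `φ` -/
def K0 (φ : F ≃+* F) : Subfield F := (φ : F →+* F).eqLocusField (RingHom.id F)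

theorem mem_K0 {φ : F ≃+* F} {a : F} : a ∈ K0 φ ↔ φ a = a := Iff.rfl

/-- Dedekind for `1, φ, φ²` -/
theorem dedekind {φ : F ≃+* F} (hφ : ∀ a, φ (φ (φ a)) = a) (hφ1 : φ ≠ RingEquiv.refl F) {x y z : F}
    (h : ∀ a, a * x + φ a * y + φ (φ a) * z = 0) : x = 0 := by
  let f : Fin 3 → (F →* F) := ![MonoidHom.id F, (φ : F →* F), (φ : F →* F).comp (φ : F →* F)]
  have hinj : Function.Injective f := by
    have h01 : (MonoidHom.id F) ≠ (φ : F →* F) := by
      intro h
      apply hφ1
      ext a
      exact (DFunLike.congr_fun h a).symm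
    have h02 : (MonoidHom.id F) ≠ (φ : F →* F).comp (φ : F →* F) := by
      intro h
      apply hφ1
      ext a
      have h1 : φ (φ a) = a := (DFunLike.congr_fun h a).symm
      have h2 := hφ a
      rw [h1] at h2
      exact h2
    have h12 : (φ : F →* F) ≠ (φ : F →* F).comp (φ : F →* F) := by
      intro h
      apply hφ1
      ext a
      have h1 : φ a = φ (φ a) := DFunLike.congr_fun h a
      exact (φ.injective h1).symm
    intro i j hij
    fin_cases i <;> fin_cases j
    · rfl
    · exact absurd hij h01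
    · exact absurd hij h02
    · exact absurd hij h01.symm
    · rfl
    · exact absurd hij h12
    · exact absurd hij h02.symm
    · exact absurd hij h12.symm
    · rfl
  have hli := (linearIndependent_monoidHom F F).comp f hinj
  rw [Fintype.linearIndependent_iff] at hli
  have h1 := hli ![x, y, z] ?_ 0
  · exact h1
  · funext a
    have h2 := h a
    rw [Fin.sum_univ_three]
    change x * a + y * φ a + z * φ (φ a) = 0
    linear_combination h2

section semi

variable {g : Equiv.Perm (Fin m ⊕ Fin m → F)} {φ : F ≃+* F} (hg : IsSemi g φ 1) (hg3 : ∀ v, g (g (g v)) = v)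

/-- the fixed vectors -/
def U (hg : IsSemi g φ 1) : Submodule (K0 φ) (Fin m ⊕ Fin m → F) where
  carrier := {v | g v = v}
  add_mem' {u v} (hu : g u = u) (hv : g v = v) := show g (u + v) = u + v by rw [hg.1, hu, hv]
  zero_mem' := by
    change g 0 = 0
    have := hg.1 0 0
    rw [add_zero] at this
    exact left_eq_add.1 this
  smul_mem' a {v} (hv : g v = v) := show g ((a : F) • v) = (a : F) • v by
    rw [hg.2.1, hv, mem_K0.1 a.2]

theorem mem_U {v : Fin m ⊕ Fin m → F} : v ∈ U hg ↔ g v = v := Iff.rfl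

include hg3 in
theorem span_U (hφ : ∀ a, φ (φ (φ a)) = a) (hφ1 : φ ≠ RingEquiv.refl F) :
    Submodule.span F (U hg : Set (Fin m ⊕ Fin m → F)) = ⊤ := by
  by_contra hne
  obtain ⟨f, hf0, hf⟩ := Submodule.exists_le_ker_of_lt_top _ (lt_top_iff_ne_top.2 hne)
  apply hf0
  apply LinearMap.ext
  intro v
  rw [LinearMap.zero_apply]
  apply dedekind hφ hφ1 (y := f (g v)) (z := f (g (g v)))
  intro a
  have h1 : a • v + φ a • g v + φ (φ a) • g (g v) ∈ U hg := by
    rw [mem_U, hg.1, hg.1, hg.2.1, hg.2.1, hg.2.1, hφ, hg3]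
    abel
  have h2 := hf (Submodule.subset_span h1)
  rw [LinearMap.mem_ker, map_add, map_add, map_smul, map_smul, map_smul] at h2
  exact h2

theorem g_sum {ι : Type*} (s : Finset ι) (c : ι → F) (b : ι → (Fin m ⊕ Fin m → F)) (hb : ∀ i, b i ∈ U hg) :
    g (∑ i ∈ s, c i • b i) = ∑ i ∈ s, φ (c i) • b i := by
  classical
  induction s using Finset.induction_on with
  | empty => rw [Finset.sum_empty, Finset.sum_empty]; exact (U hg).zero_mem
  | insert a s ha ih => rw [Finset.sum_insert ha, Finset.sum_insert ha, hg.1, ih, hg.2.1, (hb a)]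

/-- the form on the fixed vectors -/
theorem form_mem {u v : Fin m ⊕ Fin m → F} (hu : u ∈ U hg) (hv : v ∈ U hg) : sympForm m F u v ∈ K0 φ := by
  rw [mem_K0]
  have h1 := hg.2.2 u v
  rw [(mem_U hg).1 hu, (mem_U hg).1 hv, one_mul] at h1
  exact h1.symm

/-- the form over the fixed field -/
def B0 : LinearMap.BilinForm (K0 φ) (U hg) :=
  LinearMap.mk₂ (K0 φ) (fun u v => (⟨sympForm m F u v, form_mem hg u.2 v.2⟩ : K0 φ))
    (fun u u' v => Subtype.ext (by
      change sympForm m F ((u : Fin m ⊕ Fin m → F) + u') v = sympForm m F u v + sympForm m F u' v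
      rw [sympForm_add_left]))
    (fun c u v => Subtype.ext (by
      change sympForm m F ((c : F) • (u : Fin m ⊕ Fin m → F)) v = (c : F) * sympForm m F u v
      rw [sympForm_smul_left]))
    (fun u v v' => Subtype.ext (by
      change sympForm m F u ((v : Fin m ⊕ Fin m → F) + v') = sympForm m F u v + sympForm m F u v'
      rw [sympForm_add_right]))
    (fun c u v => Subtype.ext (by
      change sympForm m F u ((c : F) • (v : Fin m ⊕ Fin m → F)) = (c : F) * sympForm m F u v
      rw [sympForm_smul_right]))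

theorem B0_coe (u v : U hg) : ((B0 hg u v : K0 φ) : F) = sympForm m F u v := rfl

include hg3 in
theorem exists_basis (hφ : ∀ a, φ (φ (φ a)) = a) (hφ1 : φ ≠ RingEquiv.refl F) :
    ∃ e : (Fin m ⊕ Fin m → K0 φ) ≃ₗ[K0 φ] U hg, ∀ x y, B0 hg (e x) (e y) = sympForm m (K0 φ) x y := by
  have hspan := span_U hg hg3 hφ hφ1
  let b := Module.Basis.ofSpan (K := F) (s := (U hg : Set (Fin m ⊕ Fin m → F))) hspan.ge
  have hbU : ∀ i, b i ∈ U hg := fun i => Module.Basis.ofSpan_subset hspan.ge ⟨i, rfl⟩
  have : Fintype _ := FiniteDimensional.fintypeBasisIndex b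
  -- the basis of the fixed space
  have hli : LinearIndependent (K0 φ) (fun i => (⟨b i, hbU i⟩ : U hg)) := by
    apply LinearIndependent.of_comp (U hg).subtype
    have h1 : LinearIndependent F b := b.linearIndependent
    have h2 : LinearIndependent (K0 φ) b := h1.restrict_scalars' (K0 φ)
    exact h2
  have hsp : ⊤ ≤ Submodule.span (K0 φ) (Set.range fun i => (⟨b i, hbU i⟩ : U hg)) := by
    rintro ⟨u, hu⟩ -
    have h1 : ∑ i, b.repr u i • b i = u := b.sum_repr u
    have h2 : ∀ i, φ (b.repr u i) = b.repr u i := by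
      intro i
      have h3 : ∑ i, φ (b.repr u i) • b i = u := by
        rw [← g_sum hg _ _ _ hbU, h1]
        exact hu
      have h4 := b.repr_sum_self fun i => φ (b.repr u i)
      rw [h3] at h4
      exact (congrFun h4 i).symm
    have h3 : (⟨u, hu⟩ : U hg) = ∑ i, (⟨b.repr u i, h2 i⟩ : K0 φ) • (⟨b i, hbU i⟩ : U hg) := by
      apply Subtype.ext
      rw [AddSubmonoidClass.coe_finsetSum]
      exact h1.symm
    rw [h3]
    exact Submodule.sum_mem _ fun i _ => Submodule.smul_mem _ _ (Submodule.subset_span ⟨i, rfl⟩)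
  let b0 := Module.Basis.mk hli hsp
  have hfin : Module.Finite (K0 φ) (U hg) := Module.Finite.of_basis b0
  have hrank : Module.finrank (K0 φ) (U hg) = 2 * m := by
    rw [Module.finrank_eq_card_basis b0, ← Module.finrank_eq_card_basis b, Module.finrank_fintype_fun_eq_card,
      Fintype.card_sum, Fintype.card_fin]
    ring
  refine exists_linearEquiv_sympForm (B0 hg) ?_ ?_ hrank
  · intro u
    apply Subtype.ext
    exact sympForm_self _
  · intro u hu
    apply Subtype.ext
    change (u : Fin m ⊕ Fin m → F) = 0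
    apply eq_zero_of_forall_sympForm_right
    intro v
    have hv : v ∈ Submodule.span F (U hg : Set (Fin m ⊕ Fin m → F)) := by rw [hspan]; exact Submodule.mem_top
    induction hv using Submodule.span_induction with
    | mem v hv => exact congrArg Subtype.val (hu ⟨v, hv⟩)
    | zero => exact sympForm_zero_right _
    | add v v' _ _ h1 h2 => rw [sympForm_add_right, h1, h2, add_zero]
    | smul c v _ h => rw [sympForm_smul_right, h, mul_zero]

include hg hg3 in
/-- **Hilbert 90**: `g = h ∘ φ ∘ h⁻¹` -/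
theorem exists_conj_frob (hφ : ∀ a, φ (φ (φ a)) = a) (hφ1 : φ ≠ RingEquiv.refl F) :
    ∃ h : Matrix.symplecticGroup (Fin m) F, g = rho m F h * frobPerm m φ * (rho m F h)⁻¹ := by
  classical
  obtain ⟨e, he⟩ := exists_basis hg hg3 hφ hφ1
  let b : Fin m ⊕ Fin m → (Fin m ⊕ Fin m → F) := fun i => (e (Pi.single i 1) : Fin m ⊕ Fin m → F)
  have hb : ∀ i, b i ∈ U hg := fun i => (e (Pi.single i 1)).2
  have hval : ∀ i j, sympForm m F (b i) (b j) = sympForm m F (Pi.single i 1) (Pi.single j 1) := by
    intro i j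
    have h1 := congrArg (fun a : K0 φ => (a : F)) (he (Pi.single i 1) (Pi.single j 1))
    change sympForm m F (b i) (b j) = _ at h1
    rw [h1, sympForm_eq_sum, sympForm_eq_sum]
    push_cast
    refine Finset.sum_congr rfl fun l _ => ?_
    simp only [Pi.single_apply]
    split_ifs <;> simp only [_root_.OneMemClass.coe_one, _root_.mul_one, _root_.sub_self, _root_.ZeroMemClass.coe_zero, _root_.MulZeroClass.mul_zero, _root_.sub_zero, _root_.zero_sub]
  let A : Matrix (Fin m ⊕ Fin m) (Fin m ⊕ Fin m) F := Matrix.of fun i j => b j i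
  have hA : ∀ v, A.mulVec v = ∑ j, v j • b j := by
    intro v
    funext i
    rw [Finset.sum_apply]
    simp only [Matrix.mulVec, dotProduct, Pi.smul_apply, smul_eq_mul]
    exact Finset.sum_congr rfl fun j _ => mul_comm _ _
  have hmem : A ∈ Matrix.symplecticGroup (Fin m) F := by
    rw [mem_symplecticGroup_iff]
    have hAb : ∀ i, A.mulVec (Pi.single i 1) = b i := by
      intro i
      rw [hA, Finset.sum_eq_single i]
      · rw [Pi.single_eq_same, one_smul]
      · intro j _ hj
        rw [Pi.single_eq_of_ne hj, zero_smul]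
      · intro h
        exact absurd (Finset.mem_univ i) h
    have hB : (sympBilin m F).compl₁₂ A.mulVecLin A.mulVecLin = sympBilin m F := by
      apply LinearMap.ext_basis (Pi.basisFun F (Fin m ⊕ Fin m)) (Pi.basisFun F (Fin m ⊕ Fin m))
      intro i j
      rw [LinearMap.compl₁₂_apply, Pi.basisFun_apply, Pi.basisFun_apply, Matrix.mulVecLin_apply,
        Matrix.mulVecLin_apply, hAb, hAb]
      exact hval i j
    intro u v
    exact LinearMap.congr_fun₂ hB u v
  refine ⟨⟨A, hmem⟩, ?_⟩
  rw [eq_mul_inv_iff_mul_eq]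
  ext1 v
  rw [Equiv.Perm.mul_apply, Equiv.Perm.mul_apply]
  change g (A.mulVec v) = A.mulVec (frobPerm m φ v)
  rw [hA, hA, g_sum hg _ _ _ hb]
  rfl

end semi

/-! ### Fixed points of field automorphisms -/

section fixed

variable (φ : F ≃+* F)

theorem frob_mem : frobPerm m φ ∈ semiSim m F := ⟨φ, 1, one_ne_zero, isSemi_frobPerm φ⟩

theorem conjHom_frob (A : Matrix.symplecticGroup (Fin m) F) :
    ((conjHom m F ⟨frobPerm m φ, frob_mem φ⟩ A : Matrix.symplecticGroup (Fin m) F) :
      Matrix (Fin m ⊕ Fin m) (Fin m ⊕ Fin m) F) = (A : Matrix (Fin m ⊕ Fin m) (Fin m ⊕ Fin m) F).map φ := by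
  rw [← Matrix.mulVec_injective.eq_iff]
  funext v
  change rho m F (conjHom m F ⟨frobPerm m φ, frob_mem φ⟩ A) v = _
  rw [rho_conjHom, Equiv.Perm.mul_apply, Equiv.Perm.mul_apply, rho_apply]
  funext i
  rw [frobPerm_apply]
  simp only [Matrix.mulVec, dotProduct, Matrix.map_apply, map_sum, map_mul]
  refine Finset.sum_congr rfl fun j _ => ?_
  congr 1
  exact φ.apply_symm_apply (v j)

theorem mem_fixed {A : Matrix.symplecticGroup (Fin m) F} :
    A ∈ fixedSubgroup (conjHom m F ⟨frobPerm m φ, frob_mem φ⟩) ↔ ∀ i j, φ (A.1 i j) = A.1 i j := by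
  constructor
  · intro h i j
    have h1 : conjHom m F ⟨frobPerm m φ, frob_mem φ⟩ A = A := h
    have h2 := conjHom_frob φ A
    rw [h1] at h2
    exact (congrFun (congrFun h2 i) j).symm
  · intro h
    change conjHom m F ⟨frobPerm m φ, frob_mem φ⟩ A = A
    apply Subtype.ext
    rw [conjHom_frob]
    ext i j
    exact h i j

theorem fixed_eq_range :
    fixedSubgroup (conjHom m F ⟨frobPerm m φ, frob_mem φ⟩) = (SpHerm.emb (K0 φ) F m).range := by
  ext A
  rw [mem_fixed, MonoidHom.mem_range]
  constructor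
  · intro h
    let A0 : Matrix (Fin m ⊕ Fin m) (Fin m ⊕ Fin m) (K0 φ) := Matrix.of fun i j => ⟨A.1 i j, h i j⟩
    have hA0 : A0.map (algebraMap (K0 φ) F) = A.1 := by
      ext i j
      rfl
    have hm : A0 ∈ Matrix.symplecticGroup (Fin m) (K0 φ) := by
      rw [SymplecticGroup.mem_iff]
      have hA := SymplecticGroup.mem_iff.1 A.2
      have hJ : (Matrix.J (Fin m) (K0 φ)).map (algebraMap (K0 φ) F) = Matrix.J (Fin m) F := by
        unfold Matrix.J
        rw [Matrix.fromBlocks_map]
        congr 1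
        · ext i j
          simp [Matrix.one_apply, apply_ite]
        · exact Matrix.map_one (algebraMap (K0 φ) F) (map_zero _) (map_one _)
      apply Matrix.map_injective (algebraMap (K0 φ) F).injective
      change (A0 * Matrix.J (Fin m) (K0 φ) * A0.transpose).map (algebraMap (K0 φ) F) =
        (Matrix.J (Fin m) (K0 φ)).map (algebraMap (K0 φ) F)
      rw [hJ, Matrix.map_mul, Matrix.map_mul, Matrix.transpose_map, hA0, hJ]
      exact hA
    exact ⟨⟨A0, hm⟩, Subtype.ext hA0⟩
  · rintro ⟨B, rfl⟩ i j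
    exact (B.1 i j).2

theorem emb_injective : Function.Injective (SpHerm.emb (K0 φ) F m) := by
  intro A B h
  apply Subtype.ext
  exact Matrix.map_injective (algebraMap (K0 φ) F).injective (congrArg Subtype.val h)

/-- the fixed points of `φ` on `Sp(F)` are `Sp` of the fixed field -/
noncomputable def fixedEquiv :
    Matrix.symplecticGroup (Fin m) (K0 φ) ≃* ↥(fixedSubgroup (conjHom m F ⟨frobPerm m φ, frob_mem φ⟩)) :=
  (MonoidHom.ofInjective (emb_injective φ)).trans (MulEquiv.subgroupCongr (fixed_eq_range φ).symm)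

/-- the fixed points of a semilinear isometry `g`, `g³ = 1`, on `Sp(F)` -/
theorem nonempty_fixed {g : semiSim m F} (hg : IsSemi g.1 φ 1) (hg3 : g ^ 3 = 1)
    (hφ1 : φ ≠ RingEquiv.refl F) (hφ : ∀ a, φ (φ (φ a)) = a) :
    Nonempty (Matrix.symplecticGroup (Fin m) (K0 φ) ≃* ↥(fixedSubgroup (conjHom m F g))) := by
  have h3 : ∀ v, g.1 (g.1 (g.1 v)) = v := by
    intro v
    have h1 : g.1 * g.1 * g.1 = 1 := by
      have h2 := congrArg Subtype.val hg3
      rw [pow_succ, pow_two] at h2
      exact h2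
    exact DFunLike.congr_fun h1 v
  obtain ⟨h, hh⟩ := exists_conj_frob hg h3 hφ hφ1
  let r : semiSim m F := ⟨rho m F h, _, _, one_ne_zero, isSemi_rho h⟩
  have h4 : g = r * ⟨frobPerm m φ, frob_mem φ⟩ * r⁻¹ := Subtype.ext hh
  have h5 : MulAut.congr (conjHom m F r) (conjHom m F ⟨frobPerm m φ, frob_mem φ⟩) = conjHom m F g := by
    rw [h4, map_mul, map_mul, map_inv]
    rfl
  refine ⟨(fixedEquiv φ).trans ?_⟩
  rw [← h5]
  exact fixEquiv _ _

end fixed

end Cfsg.Agent.CpAut.SpLang
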