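import Mathlib
import Cfsg.Agent.KFacts.RgdLieCharP
import Cfsg.Agent.CpAut.Base
import Cfsg.Agent.CpAut.Descent
import Cfsg.Agent.CpAut.Fix
import Cfsg.Agent.CpAut.Psl
import Cfsg.Agent.ClassicalGeometry.OrthSemi
import Cfsg.Agent.ETable.OrthBase
import Cfsg.Agent.CpAut.SpLang
import Cfsg.Agent.ClassicalGeometry.SympAutExists
import Cfsg.Agent.ClassicalGeometry.SympAutOddA
import Cfsg.Agent.ClassicalGeometry.SympIso
import Cfsg.Agent.LieClassical.SympCenter
import Cfsg.Agent.S0270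
import Cfsg.Agent.GenOrth.Normal
import Cfsg.Agent.ClassicalGeometry.OrthSemiForms
import Cfsg.Agent.AutOrth.Final
import Cfsg.Agent.FastGrp
import Cfsg.Agent.Prune
set_option linter.all false

section
prune_inst 0x7ffffdfbfbf87ddfdfff7fffa7fecffdfdbb3fffe6fffdfbbfe42fef3bdfeb12cfe7abadeffb93fe1fe362141cfc7bc3fffffeffe26ffc7ffffdfdf45ffbffcffdf7bd0851df8cb40fbc2ff703f0778e7f3fffffffffffffffffffffffffffbeffbfffffffff

-- part: CpAut/CharP
section
set_option linter.all false
open scoped Cfsg.Agent.FastGrp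

/-!
# Inner automorphisms of groups of Lie type of characteristic `p` (helper21)

* `no_comp` : if `C_K(x) ≤ N` for a subgroup `N` in which `C_K(x)` is normal, `C_N(O_p(N)) ≤ O_p(N)` and
  `O_{p'}(C_K(x)) = 1`, then `C_K(x) / O_{p'}` has no component;
* `comps_of_filt` : `C_K(x)`, `x` of order `p`, has no component for the groups with `HasFilt p K`;
* `autC_of_filt` : only the automorphisms of order `p` which are not inner have to be considered.
-/

set_option autoImplicit false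

namespace Cfsg.Agent.CpAut.CharP

open Subgroup Cfsg
open Cfsg.Agent.LThree (Comps)
open Cfsg.Agent.KFacts.RgdFilt

variable {K : Type*} [Group K] [Finite K] {p : ℕ}

/-- No component. -/
theorem no_comp (hp : p.Prime) {C N : Subgroup K} (hCN : C ≤ N) (hn : (C.subgroupOf N).Normal)
    (hN : centralizer (pCore p ↥N : Set ↥N) ≤ pCore p ↥N) (hO : pPrimeCore p ↥C = ⊥) :
    ∀ L : Subgroup (↥C ⧸ pPrimeCore p ↥C), ¬ IsComponent L := by
  intro L hL
  have : Fact p.Prime := ⟨hp⟩
  have hnO : (pPrimeCore p ↥C).Normal := Lib.Cores.pPrimeCore_normal p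
  let e1 : ↥C ⧸ pPrimeCore p ↥C ≃* ↥C :=
    (QuotientGroup.quotientMulEquivOfEq hO).trans QuotientGroup.quotientBot
  let e2 : ↥C ⧸ pPrimeCore p ↥C ≃* ↥(C.subgroupOf N) := e1.trans (subgroupOfEquivOfLe hCN).symm
  have h1 := SignalizersComponents.Components.isComponent_map_equiv e2 hL
  have h2 := SignalizersComponents.Components.isComponent_map_subtype hn.isSubnormal h1
  have hP : IsPGroup p ↥(pCore p ↥N) := Lib.Cores.pCore_isPGroup p
  have hPn : (pCore p ↥N).Normal := Lib.Cores.pCore_normal p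
  have hs : Group.IsSolvable ↥(pCore p ↥N) := by
    have := hP.isNilpotent
    infer_instance
  have h3 := SignalizersComponents.Components.component_commutator_solvable h2
    (H := pCore p ↥N) (by rw [normalizer_eq_top_iff.mpr hPn]; exact le_top) hs
  rw [commutator_eq_bot_iff_le_centralizer] at h3
  have h4 := h3.trans hN
  have h5 : Group.IsSolvable ↥((L.map e2.toMonoidHom).map (C.subgroupOf N).subtype) :=
    Group.isSolvable_of_isSolvable_injective (f := inclusion h4) (inclusion_injective h4)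
  exact SignalizersComponents.Components.quasisimple_not_isSolvable h2.2 h5

/-- The centraliser of an element of order `p`. -/
theorem comps_of_filt [IsSimpleGroup K] (hp : p.Prime) (hG : HasFilt p K) (hc : ¬ IsMulCommutative K) {x : K}
    (hx : orderOf x = p) : Comps p ↥(centralizer ({x} : Set K)) := by
  have : Fact p.Prime := ⟨hp⟩
  have hc' : ∃ a b : K, a * b ≠ b * a := by
    by_contra hcon
    push Not at hcon
    exact hc ⟨⟨hcon⟩⟩
  have hK : IsPGroup p (zpowers x) := by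
    rw [IsPGroup.iff_card]
    exact ⟨1, by rw [Nat.card_zpowers, hx, pow_one]⟩
  have hK1 : zpowers x ≠ ⊥ := by
    rw [Ne, zpowers_eq_bot]
    rintro rfl
    rw [orderOf_one] at hx
    exact hp.one_lt.ne hx
  have hcz : centralizer ((zpowers x : Subgroup K) : Set K) = centralizer ({x} : Set K) := by
    rw [← centralizer_closure ({x} : Set K), ← zpowers_eq_closure]
  have hCN : centralizer ({x} : Set K) ≤ normalizer ((zpowers x : Subgroup K) : Set K) := by
    rw [← hcz]
    exact centralizer_le_normalizer _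
  have hn : ((centralizer ({x} : Set K)).subgroupOf (normalizer ((zpowers x : Subgroup K) : Set K))).Normal := by
    refine ⟨fun a ha g => ?_⟩
    rw [mem_subgroupOf, ← hcz, mem_centralizer_iff] at ha ⊢
    intro y hy
    have h1 : (g : K)⁻¹ * y * g ∈ (zpowers x : Subgroup K) := by
      have := (mem_normalizer_iff.1 (inv_mem g.2) y).1 hy
      rwa [inv_inv] at this
    have h2 := ha _ h1
    have h3 : ((g * a * g⁻¹ : ↥(normalizer ((zpowers x : Subgroup K) : Set K))) : K) = (g : K) * a * (g : K)⁻¹ := rfl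
    rw [h3]
    calc y * ((g : K) * a * (g : K)⁻¹)
        = (g : K) * ((g : K)⁻¹ * y * g * a) * (g : K)⁻¹ := by group
      _ = (g : K) * (a * ((g : K)⁻¹ * y * g)) * (g : K)⁻¹ := by rw [h2]
      _ = (g : K) * a * (g : K)⁻¹ * y := by group
  have hO : pPrimeCore p ↥(centralizer ({x} : Set K)) = ⊥ := by
    have h1 := hG.core hc' hx
    unfold centralizerPPrimeCore at h1
    rwa [Subgroup.map_eq_bot_iff_of_injective _ (subtype_injective _)] at h1
  intro L hL
  exact absurd hL (no_comp hp hCN hn (hG.local_char hc' hK hK1) hO L)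

/-- Reduction to outer automorphisms. -/
theorem autC_of_filt [IsSimpleGroup K] (hp : p.Prime) (hG : HasFilt p K) (hc : ¬ IsMulCommutative K)
    (h : ∀ x : MulAut K, orderOf x = p → x ∉ (MulAut.conj : K →* MulAut K).range → Comps p ↥(fixedSubgroup x)) :
    AutC p K := by
  intro x hx
  by_cases hin : x ∈ (MulAut.conj : K →* MulAut K).range
  · obtain ⟨g, rfl⟩ := hin
    have hZ : center K = ⊥ := center_eq_bot_of_simple hc
    rw [orderOf_conj hZ] at hx
    rw [fixedSubgroup_conj]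
    exact comps_of_filt hp hG hc hx
  · exact h x hx hin

end Cfsg.Agent.CpAut.CharP
end

-- part: CpAut/OrthRow
section
prune_inst 0x40000022000000000000000000200000000000000000000000000000000000000000000000000080000020000000000000000000000000000000000000000000000000000000000000000000000000000000000000000000000000000000000000000
set_option linter.all false
open scoped Cfsg.Agent.FastGrp

-- merged: Cfsg.Agent.CpAut.Orth
section

/-!
# Automorphisms of odd prime order of `Ω(V, Q) / Z` induced by semisimilitudes, odd characteristic (helper21)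

`M` a semisimilitude of `(V, Q)` with field automorphism `σ ≠ 1`, `M ^ ℓ = 1`, `b` a basis of `V` fixed by `M`: a quadratic
form `Q₀` over the fixed field `F₀` of `σ` such that the fixed points of `M` on `Ω(V, Q) / Z` are those of `Ω(V₀, Q₀) / Z`
up to a solvable group (`sett`).
-/

set_option autoImplicit false
set_option linter.unusedSectionVars false

namespace Cfsg.Agent.CpAut.Orth

open QuadraticMap Cfsg
open Cfsg.Agent.LieClassical.OrthCore Cfsg.Agent.LieClassical.OrthTrans Cfsg.Agent.ClassicalGeometry.OrthSemi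
open Cfsg.Agent.CpAut.Descent (Semi)
open Cfsg.Agent.CpAut.Psl (fixf mem_fixf)
open Cfsg.Agent.CpAut.Fix
open scoped commutatorElement

variable {F V : Type*} [Field F] [AddCommGroup V] [Module F V] {Q : QuadraticForm F V}

theorem toSemi {σ : F ≃+* F} {c : F} {M : Equiv.Perm V} (h : IsSS Q σ c M) : Semi M σ := ⟨h.add, h.smul⟩

theorem isSS_one : IsSS Q (1 : F ≃+* F) 1 (1 : Equiv.Perm V) :=
  ⟨one_ne_zero, fun _ _ => rfl, fun _ _ => rfl, fun _ => by rw [one_mul]; rfl⟩

theorem isSS_pow {σ : F ≃+* F} {c : F} {M : Equiv.Perm V} (h : IsSS Q σ c M) (k : ℕ) :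
    IsSS Q (σ ^ k) (∏ i ∈ Finset.range k, (σ ^ i) c) (M ^ k) := by
  induction k with
  | zero => exact isSS_one
  | succ k ih =>
    rw [pow_succ σ, pow_succ M, Finset.prod_range_succ]
    exact ih.mul h

theorem isSS_unique (hQ : ∃ v, Q v ≠ 0) {σ τ : F ≃+* F} {c d : F} {M : Equiv.Perm V} (h : IsSS Q σ c M)
    (h' : IsSS Q τ d M) : σ = τ ∧ c = d := by
  obtain ⟨v, hv⟩ := hQ
  have hv0 : v ≠ 0 := by
    rintro rfl
    exact hv (QuadraticMap.map_zero Q)
  have hM0 : M v ≠ 0 := fun h0 => hv0 (M.injective (h0.trans h.map_zero.symm))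
  have h1 : σ = τ := by
    ext a
    have h2 : (σ a - τ a) • M v = 0 := by rw [sub_smul, ← h.smul, ← h'.smul, sub_self]
    rcases smul_eq_zero.1 h2 with h3 | h3
    · exact sub_eq_zero.1 h3
    · exact absurd h3 hM0
  subst h1
  refine ⟨rfl, ?_⟩
  have h2 := h.form v
  rw [h'.form v] at h2
  exact (mul_right_cancel₀ (by simpa only [_root_.ne_eq, _root_.EmbeddingLike.map_eq_zero_iff] using hv) h2).symm

theorem exists_ne (hG : Good Q) : ∃ v, Q v ≠ 0 := by
  obtain ⟨x, y, h⟩ := hG.exists_hyp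
  refine ⟨x + y, ?_⟩
  rw [Q_add, h.left, h.right, h.pair, add_zero, zero_add]
  exact one_ne_zero

/-! ### the fixed vectors -/

section coord

variable {ι : Type*} [Fintype ι] [DecidableEq ι] {σ : F ≃+* F} {M : Equiv.Perm V} {b : Module.Basis ι F V}

/-- combinations of the basis with coefficients in the fixed field -/
noncomputable def J (σ : F ≃+* F) (b : Module.Basis ι F V) : (ι → fixf σ) →ₗ[fixf σ] V where
  toFun x := ∑ i, (x i : F) • b i
  map_add' x y := by
    rw [← Finset.sum_add_distrib]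
    refine Finset.sum_congr rfl fun i _ => ?_
    rw [← add_smul]
    rfl
  map_smul' a x := by
    rw [RingHom.id_apply, Finset.smul_sum]
    refine Finset.sum_congr rfl fun i _ => ?_
    change ((a * x i : fixf σ) : F) • b i = (a : F) • (x i : F) • b i
    rw [smul_smul]
    rfl

theorem J_apply (x : ι → fixf σ) : J σ b x = ∑ i, (x i : F) • b i := rfl

theorem J_single (j : ι) : J σ b (Pi.single j 1) = b j := by
  rw [J_apply, Finset.sum_eq_single j]
  · rw [Pi.single_eq_same]
    change (1 : F) • b j = b j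
    rw [one_smul]
  · intro i _ hi
    rw [Pi.single_eq_of_ne hi]
    change (0 : F) • b i = 0
    rw [zero_smul]
  · intro h
    exact absurd (Finset.mem_univ j) h

theorem J_injective : Function.Injective (J σ b) := by
  rw [injective_iff_map_eq_zero]
  intro x hx
  funext i
  exact Subtype.ext (Fintype.linearIndependent_iff.1 b.linearIndependent (fun i => (x i : F)) hx i)

theorem M_J (hM : Semi M σ) (hb : ∀ i, M (b i) = b i) (x : ι → fixf σ) : M (J σ b x) = J σ b x := by
  rw [J_apply, hM.map_sum]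
  refine Finset.sum_congr rfl fun i _ => ?_
  rw [hM.smul, hb, mem_fixf.1 (x i).2]

theorem M_eq (hM : Semi M σ) (hb : ∀ i, M (b i) = b i) (v : V) : M v = ∑ i, σ (b.repr v i) • b i := by
  conv_lhs => rw [← b.sum_repr v]
  rw [hM.map_sum]
  refine Finset.sum_congr rfl fun i _ => ?_
  rw [hM.smul, hb]

theorem exists_J (hM : Semi M σ) (hb : ∀ i, M (b i) = b i) {v : V} (hv : M v = v) : ∃ x, J σ b x = v := by
  have h1 : ∀ i, σ (b.repr v i) = b.repr v i := by
    intro i
    have h2 := M_eq hM hb v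
    rw [hv] at h2
    have h3 := b.repr_sum_self fun i => σ (b.repr v i)
    rw [← h2] at h3
    exact (congrFun h3 i).symm
  exact ⟨fun i => ⟨b.repr v i, h1 i⟩, b.sum_repr v⟩

/-- extension of scalars -/
noncomputable def extL (σ : F ≃+* F) (b : Module.Basis ι F V) (g : (ι → fixf σ) →ₗ[fixf σ] (ι → fixf σ)) :
    V →ₗ[F] V :=
  b.constr F fun j => J σ b (g (Pi.single j 1))

theorem extL_basis (g : (ι → fixf σ) →ₗ[fixf σ] (ι → fixf σ)) (j : ι) :
    extL σ b g (b j) = J σ b (g (Pi.single j 1)) := b.constr_basis F _ j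

theorem sum_single (x : ι → fixf σ) : x = ∑ i, x i • (Pi.single i 1 : ι → fixf σ) := by
  rw [← pi_eq_sum_univ' x]

theorem extL_J (g : (ι → fixf σ) →ₗ[fixf σ] (ι → fixf σ)) (x : ι → fixf σ) :
    extL σ b g (J σ b x) = J σ b (g x) := by
  conv_rhs => rw [sum_single x, map_sum, map_sum]
  rw [J_apply, map_sum]
  refine Finset.sum_congr rfl fun i _ => ?_
  rw [map_smul, extL_basis, map_smul, map_smul]
  rfl

theorem extL_comp (g h : (ι → fixf σ) →ₗ[fixf σ] (ι → fixf σ)) :
    extL σ b (g ∘ₗ h) = extL σ b g ∘ₗ extL σ b h := by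
  apply b.ext
  intro j
  rw [LinearMap.comp_apply, extL_basis, extL_basis, extL_J]
  rfl

theorem extL_id : extL σ b LinearMap.id = LinearMap.id := by
  apply b.ext
  intro j
  rw [extL_basis, LinearMap.id_apply, J_single, LinearMap.id_apply]

/-- extension of scalars -/
noncomputable def ext (σ : F ≃+* F) (b : Module.Basis ι F V) :
    ((ι → fixf σ) ≃ₗ[fixf σ] (ι → fixf σ)) →* (V ≃ₗ[F] V) where
  toFun g := LinearEquiv.ofLinearMap (extL σ b g) (extL σ b g.symm)
    (by rw [← extL_comp, LinearEquiv.comp_symm, extL_id])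
    (by rw [← extL_comp, LinearEquiv.symm_comp, extL_id])
  map_one' := by
    apply LinearEquiv.toLinearMap_injective
    exact extL_id
  map_mul' g h := by
    apply LinearEquiv.toLinearMap_injective
    exact extL_comp _ _

theorem ext_basis (g : (ι → fixf σ) ≃ₗ[fixf σ] (ι → fixf σ)) (j : ι) :
    ext σ b g (b j) = J σ b (g (Pi.single j 1)) := extL_basis _ _

theorem ext_J (g : (ι → fixf σ) ≃ₗ[fixf σ] (ι → fixf σ)) (x : ι → fixf σ) :
    ext σ b g (J σ b x) = J σ b (g x) := extL_J _ _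

theorem ext_injective : Function.Injective (ext σ b) := by
  intro g h hgh
  apply LinearEquiv.ext
  intro x
  apply J_injective (b := b)
  rw [← ext_J, ← ext_J, hgh]

theorem ext_comm (hM : Semi M σ) (hb : ∀ i, M (b i) = b i) (g : (ι → fixf σ) ≃ₗ[fixf σ] (ι → fixf σ)) (v : V) :
    M (ext σ b g v) = ext σ b g (M v) := by
  conv_lhs => rw [← b.sum_repr v, map_sum]
  rw [M_eq hM hb v, hM.map_sum, map_sum]
  refine Finset.sum_congr rfl fun i _ => ?_
  rw [map_smul, hM.smul, map_smul, ext_basis, M_J hM hb]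

theorem exists_ext (hM : Semi M σ) (hb : ∀ i, M (b i) = b i) {a : V ≃ₗ[F] V} (ha : ∀ v, M (a v) = a (M v)) :
    ∃ g, ext σ b g = a := by
  have h1 : ∀ x : ι → fixf σ, ∃ y, J σ b y = a (J σ b x) := by
    intro x
    apply exists_J hM hb
    rw [ha, M_J hM hb]
  choose f hf using h1
  let L : (ι → fixf σ) →ₗ[fixf σ] (ι → fixf σ) :=
    { toFun := f
      map_add' := fun x y => J_injective (b := b) (by rw [hf, map_add, map_add, map_add, hf, hf])
      map_smul' := fun c x => J_injective (b := b) (by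
        have h1 : J σ b (c • x) = (c : F) • J σ b x := (J σ b).map_smul c x
        have h2 : J σ b (c • f x) = (c : F) • J σ b (f x) := (J σ b).map_smul c (f x)
        rw [RingHom.id_apply, hf, h1, h2, hf]
        exact LinearEquiv.map_smul a (c : F) _) }
  have hL : ∀ x, J σ b (L x) = a (J σ b x) := hf
  have hinj : Function.Injective L := by
    intro x y hxy
    apply J_injective (b := b)
    apply a.injective
    rw [← hL, ← hL, hxy]
  refine ⟨LinearEquiv.ofInjectiveEndo L hinj, ?_⟩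
  apply LinearEquiv.toLinearMap_injective
  apply b.ext
  intro j
  change ext σ b (LinearEquiv.ofInjectiveEndo L hinj) (b j) = a (b j)
  rw [ext_basis]
  change J σ b (L (Pi.single j 1)) = a (b j)
  rw [hL, J_single]

/-! ### the form -/

variable {Q₀ : QuadraticForm (fixf σ) (ι → fixf σ)} {e : F}

theorem polar_J (hQ₀ : ∀ x, Q (J σ b x) = e * (Q₀ x : F)) (x y : ι → fixf σ) :
    polar Q (J σ b x) (J σ b y) = e * ((polar Q₀ x y : fixf σ) : F) := by
  simp only [QuadraticMap.polar]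
  rw [← map_add, hQ₀, hQ₀, hQ₀]
  push_cast
  ring

theorem nondeg_zero (hQ₀ : ∀ x, Q (J σ b x) = e * (Q₀ x : F)) (hQ : Nondeg Q) : Nondeg Q₀ := by
  intro x hx
  apply J_injective (b := b)
  rw [map_zero]
  apply hQ
  intro v
  rw [← b.sum_repr v]
  change polarBilin Q (J σ b x) (∑ i, b.repr v i • b i) = 0
  rw [map_sum]
  refine Finset.sum_eq_zero fun i _ => ?_
  rw [map_smul]
  change b.repr v i • polar Q (J σ b x) (b i) = 0
  rw [← J_single (σ := σ) (b := b) i, polar_J hQ₀, hx]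
  change _ • (e * 0) = (0 : F)
  rw [mul_zero, smul_zero]

theorem ext_mem_O (h2 : (2 : F) ≠ 0) (hQ₀ : ∀ x, Q (J σ b x) = e * (Q₀ x : F))
    {g : (ι → fixf σ) ≃ₗ[fixf σ] (ι → fixf σ)} (hg : g ∈ O Q₀) : ext σ b g ∈ O Q := by
  have hB : (polarBilin Q).compl₁₂ (ext σ b g).toLinearMap (ext σ b g).toLinearMap = polarBilin Q := by
    apply LinearMap.ext_basis b b
    intro i j
    rw [LinearMap.compl₁₂_apply]
    change polar Q (ext σ b g (b i)) (ext σ b g (b j)) = polar Q (b i) (b j)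
    rw [ext_basis, ext_basis, polar_J hQ₀, ← J_single (σ := σ) (b := b) i, ← J_single (σ := σ) (b := b) j,
      polar_J hQ₀]
    congr 2
    simp only [QuadraticMap.polar]
    rw [← map_add, hg, hg, hg]
  intro v
  have h1 := LinearMap.congr_fun₂ hB v v
  change polar Q (ext σ b g v) (ext σ b g v) = polar Q v v at h1
  rw [QuadraticMap.polar_self, QuadraticMap.polar_self, two_nsmul, two_nsmul, ← two_mul, ← two_mul] at h1
  exact mul_left_cancel₀ h2 h1

theorem mem_O_of_ext (he : e ≠ 0) (hQ₀ : ∀ x, Q (J σ b x) = e * (Q₀ x : F))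
    {g : (ι → fixf σ) ≃ₗ[fixf σ] (ι → fixf σ)} (hg : ext σ b g ∈ O Q) : g ∈ O Q₀ := by
  intro x
  have h1 := hg (J σ b x)
  rw [ext_J, hQ₀, hQ₀] at h1
  exact Subtype.ext (mul_left_cancel₀ he h1)

theorem ext_mem_E (h2 : (2 : F) ≠ 0) (hG : Good Q) (hG₀ : Good Q₀) (hQ₀ : ∀ x, Q (J σ b x) = e * (Q₀ x : F))
    {g : (ι → fixf σ) ≃ₗ[fixf σ] (ι → fixf σ)} (hg : g ∈ E Q₀) : ext σ b g ∈ E Q := by
  rw [← hG₀.commutator_eq_E] at hg
  rw [← hG.commutator_eq_E]
  have h1 := Subgroup.mem_map_of_mem (ext σ b) hg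
  rw [Subgroup.map_commutator] at h1
  refine Subgroup.commutator_mono ?_ ?_ h1
  · rintro _ ⟨x, hx, rfl⟩
    exact ext_mem_O h2 hQ₀ hx
  · rintro _ ⟨x, hx, rfl⟩
    exact ext_mem_O h2 hQ₀ hx

/-- the embedding `Ω(V₀, Q₀) → Ω(V, Q)` -/
noncomputable def fE (h2 : (2 : F) ≠ 0) (hG : Good Q) (hG₀ : Good Q₀)
    (hQ₀ : ∀ x, Q (J σ b x) = e * (Q₀ x : F)) : ↥(E Q₀) →* ↥(E Q) :=
  ((ext σ b).comp (E Q₀).subtype).codRestrict (E Q) fun g => ext_mem_E h2 hG hG₀ hQ₀ g.2

theorem coe_fE (h2 : (2 : F) ≠ 0) (hG : Good Q) (hG₀ : Good Q₀) (hQ₀ : ∀ x, Q (J σ b x) = e * (Q₀ x : F))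
    (g : ↥(E Q₀)) : (fE h2 hG hG₀ hQ₀ g : V ≃ₗ[F] V) = ext σ b g.1 := rfl

end coord

theorem mem_center_E (hG : Good Q) (h : ↥(E Q)) :
    h ∈ Subgroup.center ↥(E Q) ↔ ∃ a : F, ∀ v, (h : V ≃ₗ[F] V) v = a • v := by
  constructor
  · intro hh
    have hO := E_le_O h.2
    have hM : IsSS Q (1 : F ≃+* F) 1 (h.1.toEquiv : Equiv.Perm V) :=
      ⟨one_ne_zero, fun u v => map_add h.1 u v, fun a v => map_smul h.1 a v, fun v => by
        rw [one_mul]; exact hO v⟩
    obtain ⟨a, -, ha⟩ := exists_scalar_of_conjE hG ⟨_, _, _, hM⟩ (by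
      apply MulEquiv.ext
      intro k
      apply Subtype.ext
      apply LinearEquiv.ext
      intro v
      obtain ⟨w, rfl⟩ := h.1.surjective v
      have h1 := conjLin_apply' (Q := Q) ⟨_, _, _, hM⟩ k.1 w
      refine h1.trans ?_
      have h2 := Subgroup.mem_center_iff.1 hh k
      have h3 := congrArg (fun x : ↥(E Q) => (x : V ≃ₗ[F] V) w) h2
      exact h3.symm)
    exact ⟨a, ha⟩
  · rintro ⟨a, ha⟩
    rw [Subgroup.mem_center_iff]
    intro k
    apply Subtype.ext
    apply LinearEquiv.ext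
    intro v
    change k.1 (h.1 v) = h.1 (k.1 v)
    rw [ha, ha, map_smul]

section sett

variable {ι : Type*} [Fintype ι] [DecidableEq ι] {σ : F ≃+* F} {b : Module.Basis ι F V}
  {Q₀ : QuadraticForm (fixf σ) (ι → fixf σ)} {e : F}

theorem comm_of_fixed {M : Gam Q} {k : ↥(E Q)} (h : conjE Q M k = k) (v : V) :
    M.1 ((k : V ≃ₗ[F] V) v) = (k : V ≃ₗ[F] V) (M.1 v) := by
  rw [← conjLin_apply', ← coe_conjE, h]

/-- the setting of `Fix` -/
theorem sett [Nonempty ι] (h2 : (2 : F) ≠ 0) (hG : Good Q) (hG₀ : Good Q₀) {M : Gam Q} {c : F}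
    (hM : IsSS Q σ c M.1) (hb : ∀ i, M.1 (b i) = b i) (he : e ≠ 0) (hQ₀ : ∀ x, Q (J σ b x) = e * (Q₀ x : F)) :
    Sett (QuotientGroup.mk' (Subgroup.center ↥(E Q))) (conjE Q M) (Psi Q M) (fE h2 hG hG₀ hQ₀) where
  surj := QuotientGroup.mk'_surjective _
  ker := by rw [QuotientGroup.ker_mk']
  compat h := rfl
  inj := by
    intro g h hgh
    apply Subtype.ext
    apply ext_injective (b := b)
    simp only [← coe_fE h2 hG hG₀ hQ₀, ← coe_fE h2 hG hG₀ hQ₀, hgh]
  fix h := by
    apply Subtype.ext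
    rw [coe_conjE, coe_fE]
    apply LinearEquiv.ext
    intro v
    obtain ⟨v, rfl⟩ := M.1.surjective v
    rw [conjLin_apply', ext_comm (toSemi hM) hb]
  comm a a' ha ha' := by
    obtain ⟨g, hg⟩ := exists_ext (toSemi hM) hb (comm_of_fixed ha)
    obtain ⟨g', hg'⟩ := exists_ext (toSemi hM) hb (comm_of_fixed ha')
    have h1 : g ∈ O Q₀ := mem_O_of_ext he hQ₀ (by rw [hg]; exact E_le_O a.2)
    have h2' : g' ∈ O Q₀ := mem_O_of_ext he hQ₀ (by rw [hg']; exact E_le_O a'.2)
    have h3 : ⁅g, g'⁆ ∈ E Q₀ := by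
      rw [← hG₀.commutator_eq_E]
      exact Subgroup.commutator_mem_commutator h1 h2'
    refine ⟨⟨⁅g, g'⁆, h3⟩, ?_⟩
    apply Subtype.ext
    rw [coe_fE, map_commutatorElement, hg, hg']
    rfl
  cen h := by
    simp only [QuotientGroup.mk'_apply, QuotientGroup.eq_one_iff, mem_center_E hG, mem_center_E hG₀]
    constructor
    · rintro ⟨a, ha⟩
      obtain ⟨i⟩ := (inferInstance : Nonempty ι)
      have h1 := ha (b i)
      rw [coe_fE, ext_basis, J_apply] at h1
      have h3 : ((h.1 (Pi.single i 1) i : fixf σ) : F) = a := by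
        have h4 := congrArg (fun v => b.repr v i) h1
        simp only [map_smul, Module.Basis.repr_self] at h4
        simp only [Finsupp.smul_apply, Finsupp.single_eq_same, smul_eq_mul, mul_one] at h4
        rw [← h4]
        exact (congrFun (b.repr_sum_self fun j => ((h.1 (Pi.single i 1) j : fixf σ) : F)) i).symm
      refine ⟨h.1 (Pi.single i 1) i, fun x => ?_⟩
      apply J_injective (b := b)
      simp only [← ext_J, ← coe_fE h2 hG hG₀ hQ₀, ha, map_smul]
      change a • J σ b x = ((h.1 (Pi.single i 1) i : fixf σ) : F) • J σ b x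
      rw [h3]
    · rintro ⟨a, ha⟩
      refine ⟨(a : F), fun v => ?_⟩
      rw [coe_fE]
      have h1 : (ext σ b h.1).toLinearMap = (a : F) • LinearMap.id := by
        apply b.ext
        intro j
        change ext σ b h.1 (b j) = (a : F) • b j
        rw [ext_basis, ha, map_smul, J_single]
        rfl
      exact LinearMap.congr_fun h1 v

end sett

end Cfsg.Agent.CpAut.Orth

end

-- merged: Cfsg.Agent.CpAut.Psp
section

/-!
# Automorphisms of odd prime order of `PSp_2m(F)`, `F` of odd characteristic (helper21)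

* `exists_semi` : every automorphism is induced by a semisimilitude;
* `exists_conj` : if its order is an odd prime `ℓ` and its field part is not trivial, it is conjugate to a field
  automorphism;
* `sett` : the fixed points of a field automorphism: the setting of `Fix` with `H₀ = Sp_2m(F₀)`;
* `inner_of_lin` : trivial field part and `ℓ` the characteristic: the automorphism is inner.
-/

set_option autoImplicit false
set_option linter.unusedSectionVars false

namespace Cfsg.Agent.CpAut.Psp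

open Matrix Cfsg
open Cfsg.Agent.ClassicalGeometry.SympBasic Cfsg.Agent.ClassicalGeometry.SympAutSemi
open Cfsg.Agent.ClassicalGeometry
open Cfsg.Agent.ClassicalGeometry.SympGamma Cfsg.Agent.ClassicalGeometry.SympIso
open Cfsg.Agent.CpAut.SpLang
open Cfsg.Agent.CpAut.Descent (Semi)
open Cfsg.Agent.CpAut.Fix
open scoped commutatorElement

variable {F : Type*} [Field F] {m : ℕ}

theorem toSemi {g : Equiv.Perm (Fin m ⊕ Fin m → F)} {φ : F ≃+* F} {l : F} (hg : IsSemi g φ l) : Semi g φ :=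
  ⟨hg.1, hg.2.1⟩

theorem isSemi_one : IsSemi (1 : Equiv.Perm (Fin m ⊕ Fin m → F)) (1 : F ≃+* F) 1 :=
  ⟨fun _ _ => rfl, fun _ _ => rfl, fun _ _ => by rw [one_mul]; rfl⟩

theorem IsSemi.pow {g : Equiv.Perm (Fin m ⊕ Fin m → F)} {φ : F ≃+* F} {l : F} (hg : IsSemi g φ l) (k : ℕ) :
    IsSemi (g ^ k) (φ ^ k) (∏ i ∈ Finset.range k, (φ ^ i) l) := by
  induction k with
  | zero => exact isSemi_one
  | succ k ih =>
    rw [pow_succ, pow_succ φ, Finset.prod_range_succ]
    exact ih.mul hg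

/-- Every automorphism comes from a semisimilitude. -/
theorem exists_semi [Finite F] (hm : 2 ≤ m) (h2 : (2 : F) ≠ 0) (α : MulAut (PSp m F)) :
    ∃ g : semiSim m F, Psi m F g = α :=
  Cfsg.Agent.ClassicalGeometry.SympAutExists.exists_semi hm α
    (Cfsg.Agent.ClassicalGeometry.SympAutOddA.recog hm (Or.inr h2) α)

/-! ### descent of the form -/

section descent

variable {g : Equiv.Perm (Fin m ⊕ Fin m → F)} {φ : F ≃+* F} {l e : F}

/-- combinations with coefficients in the fixed field -/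
def S (φ : F ≃+* F) {ι : Type*} [Fintype ι] (b : ι → (Fin m ⊕ Fin m → F)) :
    (ι → K0 φ) →ₗ[K0 φ] (Fin m ⊕ Fin m → F) where
  toFun x := ∑ i, (x i : F) • b i
  map_add' x y := by
    rw [← Finset.sum_add_distrib]
    refine Finset.sum_congr rfl fun i _ => ?_
    rw [← add_smul]
    rfl
  map_smul' a x := by
    rw [RingHom.id_apply, Finset.smul_sum]
    refine Finset.sum_congr rfl fun i _ => ?_
    change ((a * x i : K0 φ) : F) • b i = (a : F) • (x i : F) • b i
    rw [smul_smul]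
    rfl

theorem g_S (hg : IsSemi g φ l) {ι : Type*} [Fintype ι] {b : ι → (Fin m ⊕ Fin m → F)} (hb : ∀ i, g (b i) = b i)
    (x : ι → K0 φ) : g (S φ b x) = S φ b x := by
  change g (∑ i, (x i : F) • b i) = _
  rw [(toSemi hg).map_sum]
  refine Finset.sum_congr rfl fun i _ => ?_
  rw [hg.2.1, hb]
  congr 1
  exact (x i).2

theorem form_mem (hg : IsSemi g φ l) (he : e ≠ 0) (hle : l * φ e = e) {u v : Fin m ⊕ Fin m → F} (hu : g u = u)
    (hv : g v = v) : e⁻¹ * sympForm m F u v ∈ K0 φ := by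
  rw [mem_K0]
  have h1 := hg.2.2 u v
  rw [hu, hv] at h1
  have h2 : φ e ≠ 0 := by simpa using he
  have h3 : l ≠ 0 := by
    rintro rfl
    rw [zero_mul] at hle
    exact he hle.symm
  rw [map_mul, map_inv₀]
  calc (φ e)⁻¹ * φ (sympForm m F u v) = (l * φ e)⁻¹ * (l * φ (sympForm m F u v)) := by
        field_simp
    _ = e⁻¹ * sympForm m F u v := by rw [hle, ← h1]

/-- the form over the fixed field -/
def B0 (hg : IsSemi g φ l) (he : e ≠ 0) (hle : l * φ e = e) {ι : Type*} [Fintype ι] (b : ι → (Fin m ⊕ Fin m → F))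
    (hb : ∀ i, g (b i) = b i) : LinearMap.BilinForm (K0 φ) (ι → K0 φ) :=
  LinearMap.mk₂ (K0 φ)
    (fun x y => (⟨e⁻¹ * sympForm m F (S φ b x) (S φ b y), form_mem hg he hle (g_S hg hb x) (g_S hg hb y)⟩ : K0 φ))
    (fun x x' y => Subtype.ext (by
      change e⁻¹ * sympForm m F (S φ b (x + x')) (S φ b y) =
        e⁻¹ * sympForm m F (S φ b x) (S φ b y) + e⁻¹ * sympForm m F (S φ b x') (S φ b y)
      rw [map_add, sympForm_add_left, mul_add]))
    (fun c x y => Subtype.ext (by
      change e⁻¹ * sympForm m F (S φ b (c • x)) (S φ b y) = (c : F) * (e⁻¹ * sympForm m F (S φ b x) (S φ b y))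
      rw [map_smul]
      change e⁻¹ * sympForm m F ((c : F) • S φ b x) (S φ b y) = _
      rw [sympForm_smul_left]
      ring))
    (fun x y y' => Subtype.ext (by
      change e⁻¹ * sympForm m F (S φ b x) (S φ b (y + y')) =
        e⁻¹ * sympForm m F (S φ b x) (S φ b y) + e⁻¹ * sympForm m F (S φ b x) (S φ b y')
      rw [map_add, sympForm_add_right, mul_add]))
    (fun c x y => Subtype.ext (by
      change e⁻¹ * sympForm m F (S φ b x) (S φ b (c • y)) = (c : F) * (e⁻¹ * sympForm m F (S φ b x) (S φ b y))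
      rw [map_smul]
      change e⁻¹ * sympForm m F (S φ b x) ((c : F) • S φ b y) = _
      rw [sympForm_smul_right]
      ring))

theorem B0_coe (hg : IsSemi g φ l) (he : e ≠ 0) (hle : l * φ e = e) {ι : Type*} [Fintype ι]
    (b : ι → (Fin m ⊕ Fin m → F)) (hb : ∀ i, g (b i) = b i) (x y : ι → K0 φ) :
    ((B0 hg he hle b hb x y : K0 φ) : F) = e⁻¹ * sympForm m F (S φ b x) (S φ b y) := rfl

/-- a symplectic basis (up to the factor `e`) of fixed vectors -/
theorem exists_c (hg : IsSemi g φ l) (he : e ≠ 0) (hle : l * φ e = e)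
    (b : Module.Basis (Fin m ⊕ Fin m) F (Fin m ⊕ Fin m → F)) (hb : ∀ i, g (b i) = b i) :
    ∃ c : Fin m ⊕ Fin m → (Fin m ⊕ Fin m → F), (∀ i, g (c i) = c i) ∧
      ∀ i j, sympForm m F (c i) (c j) = e * sympForm m F (Pi.single i 1) (Pi.single j 1) := by
  have hfin : Module.finrank (K0 φ) (Fin m ⊕ Fin m → K0 φ) = 2 * m := by
    rw [Module.finrank_fintype_fun_eq_card, Fintype.card_sum, Fintype.card_fin]
    ring
  obtain ⟨e₀, he₀⟩ := exists_linearEquiv_sympForm (B0 hg he hle b hb) (by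
    intro u
    apply Subtype.ext
    rw [B0_coe, sympForm_self, mul_zero]
    rfl) (by
    intro u hu
    have h1 : ∀ v, sympForm m F (S φ b u) v = 0 := by
      intro v
      have h2 : ∀ j, sympForm m F (S φ b u) (b j) = 0 := by
        intro j
        have h3 := congrArg Subtype.val (hu (Pi.single j 1))
        rw [B0_coe] at h3
        have h4 : S φ b (Pi.single j 1) = b j := by
          change ∑ i, ((Pi.single j (1 : K0 φ) : _ → K0 φ) i : F) • b i = b j
          rw [Finset.sum_eq_single j]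
          · rw [Pi.single_eq_same]
            change (1 : F) • b j = b j
            rw [one_smul]
          · intro i _ hi
            rw [Pi.single_eq_of_ne hi]
            change (0 : F) • b i = 0
            rw [zero_smul]
          · intro h
            exact absurd (Finset.mem_univ j) h
        rw [h4] at h3
        rcases mul_eq_zero.1 h3 with h5 | h5
        · exact absurd h5 (inv_ne_zero he)
        · exact h5
      rw [← b.sum_repr v]
      change sympBilin m F (S φ b u) _ = 0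
      rw [map_sum]
      refine Finset.sum_eq_zero fun j _ => ?_
      rw [map_smul]
      change b.repr v j • sympForm m F (S φ b u) (b j) = 0
      rw [h2, smul_zero]
    have h6 : S φ b u = 0 := eq_zero_of_forall_sympForm_right h1
    have h7 := Fintype.linearIndependent_iff.1 b.linearIndependent (fun i => (u i : F)) h6
    funext i
    exact Subtype.ext (h7 i)) hfin
  refine ⟨fun i => S φ b (e₀ (Pi.single i 1)), fun i => g_S hg hb _, fun i j => ?_⟩
  have h1 := congrArg Subtype.val (he₀ (Pi.single i 1) (Pi.single j 1))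
  rw [B0_coe, inv_mul_eq_iff_eq_mul₀ he] at h1
  rw [h1]
  congr 1
  rw [sympForm_eq_sum, sympForm_eq_sum]
  push_cast
  refine Finset.sum_congr rfl fun l _ => ?_
  simp only [Pi.single_apply]
  split_ifs <;> simp only [_root_.OneMemClass.coe_one, _root_.mul_one, _root_.sub_self, _root_.ZeroMemClass.coe_zero, _root_.MulZeroClass.mul_zero, _root_.sub_zero, _root_.zero_sub]

end descent

/-- **Semisimilitudes with `g ^ ℓ = 1` are conjugate to field automorphisms.** -/
theorem semi_conj [Finite F] (hm : 1 ≤ m) {g : Equiv.Perm (Fin m ⊕ Fin m → F)} {φ : F ≃+* F} {l : F}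
    (hg : IsSemi g φ l) {ℓ : ℕ} (hℓ : 0 < ℓ) (hφ : orderOf φ = ℓ) (hgl : g ^ ℓ = 1) :
    ∃ h : semiSim m F, g = h.1 * frobPerm m φ * h.1⁻¹ := by
  have h1 : ∏ i ∈ Finset.range ℓ, (φ ^ i) l = 1 := by
    have h2 := IsSemi.pow hg ℓ
    rw [hgl] at h2
    exact (SympGamma.IsSemi.unique hm h2 isSemi_one).2
  obtain ⟨e, he, hle⟩ := Descent.hilbert90 hφ hℓ h1
  obtain ⟨b, hb⟩ := Descent.exists_basis (toSemi hg) hφ hℓ hgl (ι := Fin m ⊕ Fin m)
    (by rw [Module.finrank_fintype_fun_eq_card])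
  obtain ⟨c, hc, hcc⟩ := exists_c hg he hle b hb
  let L : (Fin m ⊕ Fin m → F) →ₗ[F] (Fin m ⊕ Fin m → F) := Fintype.linearCombination F c
  have hL : ∀ v, L v = ∑ i, v i • c i := fun v => rfl
  have hLf : ∀ u v, sympForm m F (L u) (L v) = e * sympForm m F u v := by
    have hB : (sympBilin m F).compl₁₂ L L = e • sympBilin m F := by
      apply LinearMap.ext_basis (Pi.basisFun F (Fin m ⊕ Fin m)) (Pi.basisFun F (Fin m ⊕ Fin m))
      intro i j
      rw [LinearMap.compl₁₂_apply, Pi.basisFun_apply, Pi.basisFun_apply]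
      have h3 : ∀ i, L (Pi.single i 1) = c i := by
        intro i
        rw [hL, Finset.sum_eq_single i]
        · rw [Pi.single_eq_same, one_smul]
        · intro j _ hj
          rw [Pi.single_eq_of_ne hj, zero_smul]
        · intro h
          exact absurd (Finset.mem_univ i) h
      rw [h3, h3]
      exact hcc i j
    intro u v
    exact LinearMap.congr_fun₂ hB u v
  have hinj : Function.Injective L := by
    rw [injective_iff_map_eq_zero]
    intro v hv
    apply eq_zero_of_forall_sympForm_right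
    intro w
    have h4 := hLf v w
    rw [hv, sympForm_zero_left] at h4
    rcases mul_eq_zero.1 h4.symm with h5 | h5
    · exact absurd h5 he
    · exact h5
  let h : Equiv.Perm (Fin m ⊕ Fin m → F) := Equiv.ofBijective L (Finite.injective_iff_bijective.1 hinj)
  have hh : ∀ v, h v = L v := fun v => rfl
  have hs : IsSemi h (RingEquiv.refl F) e := by
    refine ⟨fun u v => ?_, fun a v => ?_, fun u v => ?_⟩
    · rw [hh, hh, hh, map_add]
    · rw [hh, hh, map_smul]
      rfl
    · rw [hh, hh, hLf]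
      rfl
  refine ⟨⟨h, _, _, he, hs⟩, ?_⟩
  rw [eq_mul_inv_iff_mul_eq]
  ext1 v
  rw [Equiv.Perm.mul_apply, Equiv.Perm.mul_apply, hh, hh, hL, hL, (toSemi hg).map_sum]
  refine Finset.sum_congr rfl fun i _ => ?_
  rw [hg.2.1, hc]
  rfl

theorem scal_eq (a : Fˣ) : Descent.scal (Fin m ⊕ Fin m → F) a = scal m F a := rfl

/-- **Automorphisms of prime order which are not linear are conjugate to field automorphisms.** -/
theorem exists_conj [Finite F] (hm : 1 ≤ m) {ℓ : ℕ} (hℓ : ℓ.Prime) {g : semiSim m F} {φ : F ≃+* F} {l : F}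
    (hl : l ≠ 0) (hg : IsSemi g.1 φ l) (hα : Psi m F g ^ ℓ = 1) (hφ : φ ≠ 1) :
    orderOf φ = ℓ ∧ ∃ h : semiSim m F,
      Psi m F g = Psi m F h * Psi m F ⟨frobPerm m φ, frob_mem φ⟩ * (Psi m F h)⁻¹ := by
  rw [← map_pow] at hα
  obtain ⟨a, ha⟩ := exists_scal_of_Psi_eq_one hm _ hα
  have ha' : g.1 ^ ℓ = scal m F a := ha
  have h1 := IsSemi.pow hg ℓ
  rw [ha'] at h1
  have h2 : φ ^ ℓ = 1 := (SympGamma.IsSemi.unique hm h1 (isSemi_scal a)).1
  have : Fact ℓ.Prime := ⟨hℓ⟩
  have hord : orderOf φ = ℓ := orderOf_eq_prime h2 hφ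
  refine ⟨hord, ?_⟩
  obtain ⟨c, hc⟩ := Descent.exists_scale (toSemi hg) hord hℓ.pos a.ne_zero (fun v => by rw [ha']; rfl)
    ⟨fun _ => 1, fun h => one_ne_zero (congrFun h (Sum.inl ⟨0, hm⟩))⟩
  rw [scal_eq] at hc
  have hs : scal m F c ∈ semiSim m F := ⟨_, _, mul_ne_zero c.ne_zero c.ne_zero, isSemi_scal c⟩
  obtain ⟨h, hh⟩ := semi_conj hm ((isSemi_scal c).mul hg) hℓ.pos (φ := φ) hord hc
  refine ⟨h, ?_⟩
  have h3 : (⟨scal m F c, hs⟩ : semiSim m F) * g = h * ⟨frobPerm m φ, frob_mem φ⟩ * h⁻¹ := Subtype.ext hh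
  rw [← map_inv, ← map_mul, ← map_mul, ← h3, map_mul, Psi_scal, one_mul]

/-- A linear automorphism of order `p`, the characteristic, is inner. -/
theorem inner_of_lin [Finite F] (hm : 1 ≤ m) {p : ℕ} [Fact p.Prime] [CharP F p] {g : semiSim m F} {l : F}
    (hl : l ≠ 0) (hg : IsSemi g.1 (1 : F ≃+* F) l) (hα : Psi m F g ^ p = 1) :
    Psi m F g ∈ (MulAut.conj : PSp m F →* _).range := by
  rw [← map_pow] at hα
  obtain ⟨a, ha⟩ := exists_scal_of_Psi_eq_one hm _ hα
  have ha' : g.1 ^ p = scal m F a := ha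
  obtain ⟨c, hc⟩ : ∃ c : F, c ^ p = a := by
    obtain ⟨c, hc⟩ := (Finite.injective_iff_surjective.1 (frobenius_inj F p)) a
    exact ⟨c, hc⟩
  have hc0 : c ≠ 0 := by
    rintro rfl
    rw [zero_pow (Fact.out : p.Prime).ne_zero] at hc
    exact a.ne_zero hc.symm
  have hc0' : c⁻¹ ≠ 0 := inv_ne_zero hc0
  let d : Fˣ := Units.mk0 c⁻¹ hc0'
  have hd : ∀ v, scal m F d v = c⁻¹ • v := fun v => rfl
  have hs : scal m F d ∈ semiSim m F := ⟨_, _, mul_ne_zero d.ne_zero d.ne_zero, isSemi_scal d⟩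
  obtain ⟨g', hg'⟩ : ∃ g' : semiSim m F, g' = ⟨scal m F d, hs⟩ * g := ⟨_, rfl⟩
  have hgs : IsSemi g'.1 (1 : F ≃+* F) ((d : F) * d * l) := by
    rw [hg']
    exact (isSemi_scal d).mul hg
  have hgp : g'.1 ^ p = 1 := by
    ext1 v
    rw [hg']
    change ((scal m F d * g.1) ^ p) v = v
    rw [Descent.pow_mul_apply (toSemi hg) (c := c⁻¹) (fun v => rfl), ha']
    have h1 : ∏ i ∈ Finset.range p, ((1 : F ≃+* F) ^ i) c⁻¹ = c⁻¹ ^ p := by
      rw [Finset.prod_congr rfl (fun i _ => by rw [one_pow]; rfl : ∀ i ∈ Finset.range p, ((1 : F ≃+* F) ^ i) c⁻¹ = c⁻¹),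
        Finset.prod_const, Finset.card_range]
    rw [h1, inv_pow, hc]
    change (a : F)⁻¹ • (a : F) • v = v
    rw [smul_smul, inv_mul_cancel₀ a.ne_zero, one_smul]
  have hl1 : (d : F) * d * l = 1 := by
    have h2 := IsSemi.pow hgs p
    rw [hgp] at h2
    have h3 := (SympGamma.IsSemi.unique hm h2 isSemi_one).2
    have h1 : ∏ i ∈ Finset.range p, ((1 : F ≃+* F) ^ i) ((d : F) * d * l) = ((d : F) * d * l) ^ p := by
      rw [Finset.prod_congr rfl (fun i _ => by rw [one_pow]; rfl :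
        ∀ i ∈ Finset.range p, ((1 : F ≃+* F) ^ i) ((d : F) * d * l) = (d : F) * d * l),
        Finset.prod_const, Finset.card_range]
    rw [h1] at h3
    have h4 : ((d : F) * d * l) ^ p = 1 ^ p := by rw [h3, one_pow]
    exact frobenius_inj F p h4
  rw [hl1] at hgs
  obtain ⟨A, hA⟩ := exists_rho_eq g'.1 hgs.1 (fun a v => hgs.2.1 a v) (fun u v => by
    rw [hgs.2.2, one_mul]
    rfl)
  have h5 : Psi m F g = Psi m F g' := by rw [hg', map_mul, Psi_scal, one_mul]
  refine ⟨QuotientGroup.mk A, ?_⟩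
  rw [h5]
  apply MulEquiv.ext
  intro x
  induction x using QuotientGroup.induction_on with
  | H B =>
    rw [Psi_mk]
    change (QuotientGroup.mk A * QuotientGroup.mk B * (QuotientGroup.mk A)⁻¹ : PSp m F) = _
    have h6 : conjHom m F g' B = A * B * A⁻¹ := by
      apply rho_injective
      rw [rho_conjHom, ← hA, map_mul, map_mul, map_inv]
    rw [h6]
    rfl

/-- the setting of `Fix` -/
theorem sett (hm : 1 ≤ m) (φ : F ≃+* F) :
    Sett (QuotientGroup.mk' (Subgroup.center (Matrix.symplecticGroup (Fin m) F)))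
      (conjHom m F ⟨frobPerm m φ, frob_mem φ⟩) (Psi m F ⟨frobPerm m φ, frob_mem φ⟩) (SpHerm.emb (K0 φ) F m) where
  surj := QuotientGroup.mk'_surjective _
  ker := by rw [QuotientGroup.ker_mk']
  compat h := rfl
  inj := emb_injective φ
  fix h := by
    have h1 : SpHerm.emb (K0 φ) F m h ∈ fixedSubgroup (conjHom m F ⟨frobPerm m φ, frob_mem φ⟩) := by
      rw [fixed_eq_range]
      exact ⟨h, rfl⟩
    exact h1
  comm a b ha hb := by
    rw [← fixed_eq_range]
    change conjHom m F ⟨frobPerm m φ, frob_mem φ⟩ ⁅a, b⁆ = ⁅a, b⁆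
    rw [map_commutatorElement, ha, hb]
  cen h := by
    rw [QuotientGroup.mk'_apply, QuotientGroup.eq_one_iff, Cfsg.Agent.LieClassical.SympCenter.mem_center_iff,
      Cfsg.Agent.LieClassical.SympCenter.mem_center_iff]
    have hco : ∀ i j, (SpHerm.emb (K0 φ) F m h).1 i j = ((h.1 i j : K0 φ) : F) := fun i j => rfl
    constructor
    · rintro ⟨r, hr⟩
      have i0 : Fin m ⊕ Fin m := Sum.inl ⟨0, hm⟩
      refine ⟨h.1 i0 i0, ?_⟩
      have h2 : ((h.1 i0 i0 : K0 φ) : F) = r := by
        rw [← hco, hr]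
        simp
      ext i j
      rw [← hco, hr, Matrix.smul_apply, Matrix.smul_apply, Matrix.one_apply, Matrix.one_apply]
      split_ifs with hij
      · rw [smul_eq_mul, smul_eq_mul, mul_one, mul_one, h2]
      · rw [smul_zero, smul_zero]
        rfl
    · rintro ⟨r, hr⟩
      refine ⟨(r : F), ?_⟩
      ext i j
      rw [hco, hr, Matrix.smul_apply, Matrix.smul_apply, Matrix.one_apply, Matrix.one_apply]
      split_ifs with hij
      · rw [smul_eq_mul, smul_eq_mul, mul_one, mul_one]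
      · rw [smul_zero, smul_zero]
        rfl

end Cfsg.Agent.CpAut.Psp

end

-- merged: Cfsg.Agent.CpAut.PspRow
section

/-!
# The row `PSp_2m(F)`, `F` of characteristic `p` odd, of S1814 (helper21)
-/

set_option autoImplicit false
set_option linter.unusedSectionVars false

namespace Cfsg.Agent.CpAut.PspRow

open Matrix Cfsg
open Cfsg.Agent.ClassicalGeometry.SympAutSemi Cfsg.Agent.ClassicalGeometry.SympGamma
open Cfsg.Agent.CpAut.Psp Cfsg.Agent.CpAut.Fix Cfsg.Agent.CpAut.SpLang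
open Cfsg.Agent.LThree (Comps)

/-- The fixed field has the same characteristic. -/
theorem charP_K0 {F : Type*} [Field F] {p : ℕ} [CharP F p] (σ : F ≃+* F) : CharP ↥(K0 σ) p :=
  (RingHom.charP_iff (K0 σ).subtype (K0 σ).subtype.injective p).2 inferInstance

theorem card_ge {E : Type*} [Field E] [Fintype E] {p : ℕ} [CharP E p] (hp : p.Prime) (hp2 : p ≠ 2) :
    3 ≤ Fintype.card E := by
  have : Fact p.Prime := ⟨hp⟩
  obtain ⟨k, -, hk⟩ := FiniteField.card E p
  have h1 : p ≤ Fintype.card E := by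
    rw [hk]
    exact Nat.le_self_pow k.ne_zero p
  have h2 := hp.two_le
  omega

theorem two_ne {E : Type*} [Field E] {p : ℕ} [CharP E p] (hp : p.Prime) (hp2 : p ≠ 2) : (2 : E) ≠ 0 := by
  intro h
  have h1 : ((2 : ℕ) : E) = 0 := by exact_mod_cast h
  rw [CharP.cast_eq_zero_iff E p] at h1
  exact hp2 ((Nat.prime_dvd_prime_iff_eq hp Nat.prime_two).1 h1)

/-- `PSp_2m(E)` is a `C_p`-group. -/
theorem inC {E : Type} [Field E] [Fintype E] {p : ℕ} [CharP E p] (hp : p.Prime) (hp2 : p ≠ 2) {m : ℕ} (hm : 2 ≤ m) :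
    InC p (PSp m E) := by
  have h3 := card_ge (E := E) hp hp2
  have : IsSimpleGroup (PSp m E) := S0270.result m hm (fun _ => h3)
  exact inC_quot hp2 (Or.inl (Or.inl (Or.inr (Or.inl ⟨E, inferInstance, inferInstance, inferInstance, m, hm,
    fun _ => h3, ⟨MulEquiv.refl _⟩⟩))))

/-- **The row `PSp_2m(F)`.** -/
theorem autC {F : Type} [Field F] [Fintype F] {p : ℕ} (hp : p.Prime) (hp2 : p ≠ 2) [CharP F p] {m : ℕ} (hm : 2 ≤ m) :
    AutC p (PSp m F) := by
  have : Fact p.Prime := ⟨hp⟩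
  have h3 := card_ge (E := F) hp hp2
  have hsimple : IsSimpleGroup (PSp m F) := S0270.result m hm (fun _ => h3)
  have hfilt : KFacts.RgdFilt.HasFilt p (PSp m F) :=
    KFacts.RgdLieCharP.hasFilt_of_lie (Or.inr (Or.inl ⟨F, inferInstance, inferInstance, inferInstance, m, hm,
      fun _ => h3, ⟨MulEquiv.refl _⟩⟩))
  refine CharP.autC_of_filt hp hfilt not_comm_quot ?_
  intro x hx hno
  have hx' : x ^ p = 1 := by rw [← hx]; exact pow_orderOf_eq_one x
  obtain ⟨g, rfl⟩ := exists_semi hm (two_ne hp hp2) x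
  obtain ⟨φ, l, hl, hg⟩ := g.2
  have hφ : φ ≠ 1 := by
    rintro rfl
    exact hno (inner_of_lin (by omega) hl hg hx')
  obtain ⟨-, h, hh⟩ := _root_.Cfsg.Agent.CpAut.Psp.exists_conj (by omega) hp hl hg hx' hφ
  have hchar : CharP ↥(K0 φ) p := charP_K0 φ
  have hfin : Fintype ↥(K0 φ) := Fintype.ofFinite _
  rw [hh]
  refine Comps.congr (fixedConj _ _) ?_
  exact (sett (by omega) φ).comps hp (inC hp hp2 hm)

end Cfsg.Agent.CpAut.PspRow

end

-- merged: Cfsg.Agent.CpAut.OrthMain
section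

/-!
# Automorphisms of order `p` of `PΩ(V, Q)` induced by semisimilitudes, characteristic `p` odd (helper21)

* `exists_form` : the form over the fixed field;
* `equiv_of_sim` : similar forms have isomorphic `Ω / Z`;
* `inC` : `Ω(V, Q) / Z` is a `C_p`-group, `dim V ≥ 7`;
* `inner_of_lin` : a similitude inducing an automorphism of order `p` induces an inner one;
* `comps` : components of the fixed points of a non-inner automorphism of order `p` induced by a semisimilitude.
-/

set_option autoImplicit false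
set_option linter.unusedSectionVars false

namespace Cfsg.Agent.CpAut.OrthMain

open QuadraticMap Cfsg
open Cfsg.Agent.LieClassical.OrthCore Cfsg.Agent.LieClassical.OrthTrans Cfsg.Agent.LieClassical.OrthForms
open Cfsg.Agent.LieClassical.OrthFinite
open Cfsg.Agent.ClassicalGeometry.OrthSemi
open Cfsg.Agent.ClassicalGeometry.OrthSemiForms
open Cfsg.Agent.CpAut.Descent (Semi)
open Cfsg.Agent.CpAut.Psl (fixf mem_fixf)
open Cfsg.Agent.CpAut.Fix Cfsg.Agent.CpAut.Orth
open Cfsg.Agent.LThree (Comps)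

section form

variable {F V : Type*} [Field F] [AddCommGroup V] [Module F V] {Q : QuadraticForm F V}
variable {ι : Type*} [Fintype ι] [DecidableEq ι] {σ : F ≃+* F} {M : Equiv.Perm V} {b : Module.Basis ι F V}

theorem form_mem {l e : F} (hM : IsSS Q σ l M) (he : e ≠ 0) (hle : l * σ e = e) {v : V} (hv : M v = v) :
    e⁻¹ * Q v ∈ fixf σ := by
  rw [mem_fixf]
  have h1 := hM.form v
  rw [hv] at h1
  have h2 : σ e ≠ 0 := by simpa using he
  have h3 : l ≠ 0 := hM.ne
  rw [map_mul, map_inv₀]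
  calc (σ e)⁻¹ * σ (Q v) = (l * σ e)⁻¹ * (l * σ (Q v)) := by field_simp
    _ = e⁻¹ * Q v := by rw [hle, ← h1]

/-- The form over the fixed field. -/
theorem exists_form {l e : F} (hM : IsSS Q σ l M) (hb : ∀ i, M (b i) = b i) (he : e ≠ 0) (hle : l * σ e = e) :
    ∃ Q₀ : QuadraticForm (fixf σ) (ι → fixf σ), ∀ x, Q (J σ b x) = e * (Q₀ x : F) := by
  obtain ⟨r, hr⟩ := (Algebra.linearMap (fixf σ) F).exists_leftInverse_of_injective
    (LinearMap.ker_eq_bot.2 (fixf σ).subtype.injective)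
  have hr' : ∀ a : fixf σ, r (a : F) = a := fun a => LinearMap.congr_fun hr a
  let Q₁ : QuadraticMap (fixf σ) V F := Q.restrictScalars (S := fixf σ)
  let Q₀ : QuadraticForm (fixf σ) (ι → fixf σ) :=
    (r ∘ₗ (LinearMap.mulLeft (fixf σ) e⁻¹)).compQuadraticMap (Q₁.comp (J σ b))
  refine ⟨Q₀, fun x => ?_⟩
  have h1 : Q₀ x = r (e⁻¹ * Q (J σ b x)) := rfl
  have h2 := form_mem hM he hle (M_J (toSemi hM) hb x)
  rw [h1, show e⁻¹ * Q (J σ b x) = ((⟨_, h2⟩ : fixf σ) : F) from rfl, hr']
  change Q (J σ b x) = e * (e⁻¹ * Q (J σ b x))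
  rw [mul_inv_cancel_left₀ he]

end form

/-! ### similar forms -/

section sim

variable {F V V' : Type*} [Field F] [AddCommGroup V] [Module F V] [AddCommGroup V'] [Module F V']

/-- conjugation by a linear equivalence -/
def cj (j : V' ≃ₗ[F] V) : (V' ≃ₗ[F] V') ≃* (V ≃ₗ[F] V) where
  toFun g := (j.symm.trans g).trans j
  invFun g := (j.trans g).trans j.symm
  left_inv g := by
    ext v
    change j.symm (j (g (j.symm (j v)))) = g v
    rw [j.symm_apply_apply, j.symm_apply_apply]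
  right_inv g := by
    ext v
    change j (j.symm (g (j (j.symm v)))) = g v
    rw [j.apply_symm_apply, j.apply_symm_apply]
  map_mul' g h := by
    ext v
    change j (g (h (j.symm v))) = j (g (j.symm (j (h (j.symm v)))))
    rw [j.symm_apply_apply]

theorem cj_apply (j : V' ≃ₗ[F] V) (g : V' ≃ₗ[F] V') (v : V) : cj j g v = j (g (j.symm v)) := rfl

theorem map_O {Q : QuadraticForm F V} {Q' : QuadraticForm F V'} {c : F} (hc : c ≠ 0) (j : V' ≃ₗ[F] V)
    (hj : ∀ x, Q (j x) = c * Q' x) : (O Q').map (cj j).toMonoidHom = O Q := by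
  ext g
  constructor
  · rintro ⟨h, hh, rfl⟩ v
    change Q (j (h (j.symm v))) = Q v
    rw [hj, hh, ← hj, j.apply_symm_apply]
  · intro hg
    refine ⟨(cj j).symm g, ?_, (cj j).apply_symm_apply g⟩
    intro v
    change Q' (j.symm (g (j v))) = Q' v
    have h1 : c * Q' (j.symm (g (j v))) = c * Q' v := by
      rw [← hj, ← hj, j.apply_symm_apply, hg]
    exact mul_left_cancel₀ hc h1

theorem equiv_of_sim {Q : QuadraticForm F V} {Q' : QuadraticForm F V'} (hG : Good Q) (hG' : Good Q') {c : F}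
    (hc : c ≠ 0) (j : V' ≃ₗ[F] V) (hj : ∀ x, Q (j x) = c * Q' x) : Nonempty (↥(E Q') ≃* ↥(E Q)) := by
  have h1 : (E Q').map (cj j).toMonoidHom = E Q := by
    rw [← hG.commutator_eq_E, ← hG'.commutator_eq_E, Subgroup.map_commutator, map_O hc j hj]
  exact ⟨((E Q').equivMapOfInjective (cj j).toMonoidHom (cj j).injective).trans (MulEquiv.subgroupCongr h1)⟩

end sim

/-! ### `Ω / Z` is a `C_p`-group -/

section inC

/-- `Ω(V, Q) / Z` is a `C_p`-group. -/
theorem inC {E₀ : Type} [Field E₀] [Fintype E₀] {p : ℕ} [CharP E₀ p] (hp : p.Prime) (hp2 : p ≠ 2) {V : Type*}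
    [AddCommGroup V] [Module E₀ V] [Module.Finite E₀ V] {Q : QuadraticForm E₀ V} (hQ : Nondeg Q)
    (hd : 7 ≤ Module.finrank E₀ V) : InC p (↥(E Q) ⧸ Subgroup.center ↥(E Q)) := by
  have : Fact p.Prime := ⟨hp⟩
  have h2 : (2 : E₀) ≠ 0 := PspRow.two_ne hp hp2
  have hodd : Odd (Fintype.card E₀) := Cfsg.Agent.LieClassical.PomegaCard.odd_card_iff.2 h2
  have hG : Good Q := good_of_finite hQ (by omega)
  rcases GenOrth.normal_form (F := E₀) _ hQ rfl with ⟨k, hk, c, hc, j, hj⟩ | ⟨k, hk, c, hc, j, hj⟩ |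
    ⟨k, hk, a, b, hab, c, hc, j, hj⟩
  · have hG' : Good (oddForm k E₀) := good_odd (by omega) h2
    obtain ⟨e⟩ := equiv_of_sim hG hG' hc j (fun x => by rw [hj, coe_oddForm])
    have e1 : POmega E₀ ⇑(oddForm k E₀) ≃* ↥(E Q) ⧸ Subgroup.center ↥(E Q) :=
      (pomegaEquiv hG').trans (quotientCenterCongr e)
    rw [coe_oddForm] at e1
    refine (CpQuot.Congr.inC_iff e1 p).1 ?_
    have : IsSimpleGroup (POmega E₀ (quadFormOdd k E₀)) := by
      rw [← coe_oddForm]
      exact isSimpleGroup_POmega_of_good hG'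
    exact inC_quot hp2 (Or.inl (Or.inl (Or.inr (Or.inr (Or.inr (Or.inl ⟨E₀, inferInstance, inferInstance,
      inferInstance, k, by omega, hodd, ⟨MulEquiv.refl _⟩⟩))))))
  · have hG' : Good (plusForm k E₀) := good_plus (by omega)
    obtain ⟨e⟩ := equiv_of_sim hG hG' hc j (fun x => by rw [hj, coe_plusForm])
    have e1 : POmega E₀ ⇑(plusForm k E₀) ≃* ↥(E Q) ⧸ Subgroup.center ↥(E Q) :=
      (pomegaEquiv hG').trans (quotientCenterCongr e)
    rw [coe_plusForm] at e1
    refine (CpQuot.Congr.inC_iff e1 p).1 ?_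
    have : IsSimpleGroup (POmega E₀ (quadFormPlus k E₀)) := by
      rw [← coe_plusForm]
      exact isSimpleGroup_POmega_of_good hG'
    exact inC_quot hp2 (Or.inl (Or.inl (Or.inr (Or.inr (Or.inr (Or.inr (Or.inl ⟨E₀, inferInstance, inferInstance,
      inferInstance, k, by omega, ⟨MulEquiv.refl _⟩⟩)))))))
  · have hG' : Good (minusForm k E₀ a b) := good_minus (by omega) a b hab
    obtain ⟨e⟩ := equiv_of_sim hG hG' hc j (fun x => by rw [hj, coe_minusForm])
    have e1 : POmega E₀ ⇑(minusForm k E₀ a b) ≃* ↥(E Q) ⧸ Subgroup.center ↥(E Q) :=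
      (pomegaEquiv hG').trans (quotientCenterCongr e)
    rw [coe_minusForm] at e1
    refine (CpQuot.Congr.inC_iff e1 p).1 ?_
    have : IsSimpleGroup (POmega E₀ (quadFormMinus k E₀ a b)) := by
      rw [← coe_minusForm]
      exact isSimpleGroup_POmega_of_good hG'
    exact inC_quot hp2 (Or.inl (Or.inl (Or.inr (Or.inr (Or.inr (Or.inr (Or.inr (Or.inl ⟨E₀, inferInstance,
      inferInstance, inferInstance, k + 1, a, b, by omega, hab, ⟨MulEquiv.refl _⟩⟩))))))))

end inC

/-! ### the automorphisms -/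

section aut

variable {F : Type} {V : Type*} [Field F] [Finite F] [AddCommGroup V] [Module F V] [Module.Finite F V]
  {Q : QuadraticForm F V}

/-- powers of a scalar multiple of a linear map -/
theorem pow_smul {M N : Equiv.Perm V} (hM : Semi M (1 : F ≃+* F)) {c : F} (hN : ∀ v, N v = c • M v) (k : ℕ) (v : V) :
    (N ^ k) v = c ^ k • (M ^ k) v := by
  rw [Descent.pow_mul_apply hM hN]
  congr 1
  rw [Finset.prod_congr rfl (fun i _ => by rw [one_pow]; rfl : ∀ i ∈ Finset.range k, ((1 : F ≃+* F) ^ i) c = c),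
    Finset.prod_const, Finset.card_range]

/-- A similitude inducing an automorphism of order `p` induces an inner automorphism. -/
theorem inner_of_lin (hG : Good Q) {p : ℕ} [Fact p.Prime] [CharP F p] (hp2 : p ≠ 2) {M : Gam Q} {l : F}
    (hM : IsSS Q (1 : F ≃+* F) l M.1) (hα : Psi Q M ^ p = 1) :
    Psi Q M ∈ (MulAut.conj : ↥(E Q) ⧸ Subgroup.center ↥(E Q) →* _).range := by
  rw [← map_pow, ← MonoidHom.mem_ker, ker_Psi hG] at hα
  obtain ⟨a, ha⟩ := hα
  have ha' : ∀ v, (M.1 ^ p) v = (a : F) • v := by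
    intro v
    have h1 : (scal Q a).1 = M.1 ^ p := congrArg Subtype.val ha
    rw [← h1]
    rfl
  obtain ⟨c, hc⟩ : ∃ c : F, c ^ p = a := by
    obtain ⟨c, hc⟩ := (Finite.injective_iff_surjective.1 (frobenius_inj F p)) a
    exact ⟨c, hc⟩
  have hc0 : c ≠ 0 := by
    rintro rfl
    rw [zero_pow (Fact.out : p.Prime).ne_zero] at hc
    exact a.ne_zero hc.symm
  let d : Fˣ := Units.mk0 c⁻¹ (inv_ne_zero hc0)
  obtain ⟨N, hN⟩ : ∃ N : Gam Q, N = scal Q d * M := ⟨_, rfl⟩
  have hNv : ∀ v, N.1 v = c⁻¹ • M.1 v := by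
    intro v
    rw [hN]
    rfl
  have hNs : IsSS Q (1 : F ≃+* F) (c⁻¹ * c⁻¹ * l) N.1 := by
    refine ⟨mul_ne_zero (mul_ne_zero (inv_ne_zero hc0) (inv_ne_zero hc0)) hM.ne, fun u v => ?_, fun x v => ?_,
      fun v => ?_⟩
    · rw [hNv, hNv, hNv, hM.add, smul_add]
    · rw [hNv, hNv, hM.smul, smul_comm]
    · rw [hNv, QuadraticMap.map_smul, hM.form, smul_eq_mul, mul_assoc (c⁻¹ * c⁻¹)]
  have hNp : N.1 ^ p = 1 := by
    ext1 v
    rw [pow_smul (toSemi hM) hNv, ha', smul_smul, inv_pow, hc, inv_mul_cancel₀ a.ne_zero, one_smul]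
    rfl
  have hl1 : c⁻¹ * c⁻¹ * l = 1 := by
    have h2 := isSS_pow hNs p
    rw [hNp] at h2
    have h3 := (isSS_unique (exists_ne hG) h2 isSS_one).2
    rw [Finset.prod_congr rfl (fun i _ => by rw [one_pow]; rfl :
      ∀ i ∈ Finset.range p, ((1 : F ≃+* F) ^ i) (c⁻¹ * c⁻¹ * l) = c⁻¹ * c⁻¹ * l),
      Finset.prod_const, Finset.card_range] at h3
    have h4 : (c⁻¹ * c⁻¹ * l) ^ p = 1 ^ p := by rw [h3, one_pow]
    exact frobenius_inj F p h4
  rw [hl1] at hNs
  -- the linear map
  let n : V ≃ₗ[F] V :=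
    { N.1 with
      map_add' := hNs.add
      map_smul' := hNs.smul }
  have hn : ∀ v, n v = N.1 v := fun v => rfl
  have hnO : n ∈ O Q := by
    intro v
    rw [hn, hNs.form, one_mul]
    rfl
  have hnp : n ^ p = 1 := by
    have h1 : ∀ (k : ℕ) (v : V), (n ^ k) v = (N.1 ^ k) v := by
      intro k
      induction k with
      | zero => exact fun v => rfl
      | succ k ih =>
        intro v
        rw [pow_succ, pow_succ, LinearEquiv.mul_apply, Equiv.Perm.mul_apply, ih, hn]
    apply LinearEquiv.ext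
    intro v
    rw [h1, hNp]
    rfl
  have hnE : n ∈ E Q := Cfsg.Agent.ETable.Orth.mem_E_of_pow hG hnO ((Fact.out : p.Prime).odd_of_ne_two hp2) hnp
  have h5 : Psi Q M = Psi Q N := by
    have h6 : Psi Q (scal Q d) = 1 := by
      rw [← MonoidHom.mem_ker, ker_Psi hG]
      exact ⟨d, rfl⟩
    simp only [hN, map_mul, h6, one_mul]
  refine ⟨QuotientGroup.mk ⟨n, hnE⟩, ?_⟩
  rw [h5]
  apply MulEquiv.ext
  intro x
  induction x using QuotientGroup.induction_on with
  | H k =>
    rw [Psi_mk]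
    change (QuotientGroup.mk (⟨n, hnE⟩ : ↥(E Q)) * QuotientGroup.mk k * (QuotientGroup.mk (⟨n, hnE⟩ : ↥(E Q)))⁻¹ :
      ↥(E Q) ⧸ Subgroup.center ↥(E Q)) = _
    have h7 : conjE Q N k = (⟨n, hnE⟩ : ↥(E Q)) * k * (⟨n, hnE⟩ : ↥(E Q))⁻¹ := by
      apply Subtype.ext
      rw [coe_conjE]
      apply LinearEquiv.ext
      intro v
      obtain ⟨w, rfl⟩ := N.1.surjective v
      rw [conjLin_apply']
      change N.1 (k.1 w) = n (k.1 (n⁻¹ (N.1 w)))
      have h8 : n⁻¹ (N.1 w) = w := by
        rw [← hn]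
        exact n.symm_apply_apply w
      rw [h8, hn]
    rw [h7]
    rfl

/-- **The components of the fixed points.** -/
theorem comps (hG : Good Q) (hd : 7 ≤ Module.finrank F V) {p : ℕ} (hp : p.Prime) (hp2 : p ≠ 2) [CharP F p]
    {x : MulAut (↥(E Q) ⧸ Subgroup.center ↥(E Q))} (hx : x ∈ (Psi Q).range) (hxp : orderOf x = p)
    (hno : x ∉ (MulAut.conj : ↥(E Q) ⧸ Subgroup.center ↥(E Q) →* _).range) : Comps p ↥(fixedSubgroup x) := by
  classical
  have : Fact p.Prime := ⟨hp⟩
  have hfinV : Finite V := Module.finite_of_finite F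
  obtain ⟨M, rfl⟩ := hx
  obtain ⟨σ, l, hM⟩ := M.2
  have hx' : Psi Q M ^ p = 1 := by rw [← hxp]; exact pow_orderOf_eq_one _
  have hσ : σ ≠ 1 := by
    rintro rfl
    exact hno (inner_of_lin hG hp2 hM hx')
  have h1 := hx'
  rw [← map_pow, ← MonoidHom.mem_ker, ker_Psi hG] at h1
  obtain ⟨a, ha⟩ := h1
  have ha' : (scal Q a).1 = M.1 ^ p := congrArg Subtype.val ha
  have hσp : σ ^ p = 1 := by
    have h2 := isSS_pow hM p
    rw [← ha'] at h2
    obtain ⟨τ, d, h3⟩ := (scal Q a).2
    have h4 : IsSS Q (1 : F ≃+* F) ((a : F) * a) (scal Q a).1 :=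
      ⟨mul_ne_zero a.ne_zero a.ne_zero, fun u v => smul_add _ _ _, fun t v => smul_comm _ _ _, fun v => by
        change Q ((a : F) • v) = _
        rw [QuadraticMap.map_smul]
        rfl⟩
    exact (isSS_unique (exists_ne hG) h2 h4).1
  have hord : orderOf σ = p := orderOf_eq_prime hσp hσ
  obtain ⟨v₀, hv₀⟩ := exists_ne hG
  obtain ⟨c, hc⟩ := Descent.exists_scale (toSemi hM) hord hp.pos a.ne_zero (fun v => by rw [← ha']; rfl)
    ⟨v₀, by rintro rfl; exact hv₀ (QuadraticMap.map_zero Q)⟩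
  -- `N = c M`, `N ^ p = 1`
  obtain ⟨N, hN⟩ : ∃ N : Gam Q, N = scal Q c * M := ⟨_, rfl⟩
  have hNv : N.1 = Descent.scal V c * M.1 := by
    rw [hN]
    rfl
  have hNs : IsSS Q σ (c * c * l) N.1 := by
    have hNv' : ∀ v, N.1 v = (c : F) • M.1 v := fun v => by rw [hNv]; rfl
    refine ⟨mul_ne_zero (mul_ne_zero c.ne_zero c.ne_zero) hM.ne, fun u v => ?_, fun x v => ?_, fun v => ?_⟩
    · rw [hNv', hNv', hNv', hM.add, smul_add]
    · rw [hNv', hNv', hM.smul, smul_comm]
    · rw [hNv', QuadraticMap.map_smul, hM.form, smul_eq_mul, mul_assoc ((c : F) * c)]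
  have hNp : N.1 ^ p = 1 := by rw [hNv]; exact hc
  have h5 : Psi Q M = Psi Q N := by
    have h6 : Psi Q (scal Q c) = 1 := by
      rw [← MonoidHom.mem_ker, ker_Psi hG]
      exact ⟨c, rfl⟩
    simp only [hN, map_mul, h6, one_mul]
  have h7 : ∏ i ∈ Finset.range p, (σ ^ i) ((c : F) * c * l) = 1 := by
    have h8 := isSS_pow hNs p
    rw [hNp] at h8
    exact (isSS_unique (exists_ne hG) h8 isSS_one).2
  obtain ⟨e, he, hle⟩ := Descent.hilbert90 hord hp.pos h7
  obtain ⟨b, hb⟩ := Descent.exists_basis (toSemi hNs) hord hp.pos hNp (ι := Fin (Module.finrank F V))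
    (by rw [Fintype.card_fin])
  obtain ⟨Q₀, hQ₀⟩ := exists_form hNs hb he hle
  have h2 : (2 : F) ≠ 0 := PspRow.two_ne hp hp2
  have hchar : CharP ↥(fixf σ) p := (RingHom.charP_iff (fixf σ).subtype (fixf σ).subtype.injective p).2 inferInstance
  have hfin : Fintype ↥(fixf σ) := Fintype.ofFinite _
  have hnd : Nondeg Q₀ := nondeg_zero hQ₀ hG.nondeg
  have hrk : Module.finrank (fixf σ) (Fin (Module.finrank F V) → fixf σ) = Module.finrank F V := by
    rw [Module.finrank_fintype_fun_eq_card, Fintype.card_fin]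
  have hG₀ : Good Q₀ := good_of_finite hnd (by omega)
  have hne : Nonempty (Fin (Module.finrank F V)) := ⟨⟨0, by omega⟩⟩
  have hE : Finite (V ≃ₗ[F] V) := Finite.of_injective (fun g : V ≃ₗ[F] V => (g : V → V)) DFunLike.coe_injective
  rw [h5]
  exact (sett h2 hG hG₀ hNs hb he hQ₀).comps hp (inC hp hp2 hnd (by omega))

end aut

end Cfsg.Agent.CpAut.OrthMain

end

-- merged: Cfsg.Agent.CpAut.OrthRow
section

/-!
# The rows `PΩ_{2m+1}(q)`, `PΩ⁺_{2m}(q)` (`m ≥ 5`), `PΩ⁻_{2m}(q)`, `q` a power of `p` odd, of S1814 (helper21)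
-/

set_option autoImplicit false
set_option linter.unusedSectionVars false

namespace Cfsg.Agent.CpAut.OrthRow

open QuadraticMap Cfsg
open Cfsg.Agent.LieClassical.OrthCore Cfsg.Agent.LieClassical.OrthTrans Cfsg.Agent.LieClassical.OrthForms
open Cfsg.Agent.LieClassical.OrthFinite
open Cfsg.Agent.ClassicalGeometry.OrthSemi
open Cfsg.Agent.ClassicalGeometry.OrthSemiForms
open Cfsg.Agent.CpAut.Fix
open Cfsg.Agent.LThree (Comps)

/-- The general statement. -/
theorem autC_of_good {F : Type} [Field F] [Fintype F] {p : ℕ} (hp : p.Prime) (hp2 : p ≠ 2) [CharP F p] {ι : Type}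
    [Fintype ι] [DecidableEq ι] {Q : QuadraticForm F (ι → F)} (hG : Good Q) (hd : 7 ≤ Fintype.card ι)
    (hs : Function.Surjective (Psi Q))
    (hfilt : KFacts.RgdLieCharP.IsLieFilt p (↥(E Q) ⧸ Subgroup.center ↥(E Q))) : AutC p (POmega F ⇑Q) := by
  classical
  have hsimple : IsSimpleGroup (↥(E Q) ⧸ Subgroup.center ↥(E Q)) :=
    Cfsg.Agent.LieClassical.OrthSimple.good_isSimpleGroup hG
  have hE : Finite ((ι → F) ≃ₗ[F] (ι → F)) :=
    Finite.of_injective (fun g : (ι → F) ≃ₗ[F] (ι → F) => (g : (ι → F) → (ι → F))) DFunLike.coe_injective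
  refine AutC.congr (pomegaEquiv hG).symm (CharP.autC_of_filt hp (KFacts.RgdLieCharP.hasFilt_of_lie hfilt)
    not_comm_quot ?_)
  intro x hx hno
  exact OrthMain.comps hG (by rwa [Module.finrank_fintype_fun_eq_card]) hp hp2 (hs x) hx hno

/-- **The row `PΩ_{2m+1}(F)`.** -/
theorem autC_odd {F : Type} [Field F] [Fintype F] {p : ℕ} (hp : p.Prime) (hp2 : p ≠ 2) [CharP F p] {m : ℕ}
    (hm : 3 ≤ m) : AutC p (POmega F (quadFormOdd m F)) := by
  have h2 : (2 : F) ≠ 0 := PspRow.two_ne hp hp2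
  have hodd : Odd (Fintype.card F) := Cfsg.Agent.LieClassical.PomegaCard.odd_card_iff.2 h2
  have hG : Good (oddForm m F) := good_odd (by omega) h2
  have e := (pomegaEquiv hG).symm
  have h1 := autC_of_good hp hp2 hG (by
    rw [Fintype.card_sum, Fintype.card_sum, Fintype.card_fin, Fintype.card_unit]
    omega) (AutOrth.Final.surjective_odd hm h2) (by
      rw [coe_oddForm] at e
      exact Or.inr (Or.inr (Or.inr (Or.inl ⟨F, inferInstance, inferInstance, inferInstance, m, hm, hodd, ⟨e⟩⟩))))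
  rwa [coe_oddForm] at h1

/-- **The row `PΩ⁺_{2m}(F)`, `m ≥ 5`.** -/
theorem autC_plus {F : Type} [Field F] [Fintype F] {p : ℕ} (hp : p.Prime) (hp2 : p ≠ 2) [CharP F p] {m : ℕ}
    (hm : 5 ≤ m) : AutC p (POmega F (quadFormPlus m F)) := by
  have hG : Good (plusForm m F) := good_plus (by omega)
  have e := (pomegaEquiv hG).symm
  have h1 := autC_of_good hp hp2 hG (by
    rw [Fintype.card_sum, Fintype.card_fin]
    omega) (AutOrth.Final.surjective_plus hm) (by
      rw [coe_plusForm] at e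
      exact Or.inr (Or.inr (Or.inr (Or.inr (Or.inl ⟨F, inferInstance, inferInstance, inferInstance, m, by omega,
        ⟨e⟩⟩)))))
  rwa [coe_plusForm] at h1

/-- **The row `PΩ⁻_{2m}(F)`.** -/
theorem autC_minus {F : Type} [Field F] [Fintype F] {p : ℕ} (hp : p.Prime) (hp2 : p ≠ 2) [CharP F p] {m : ℕ}
    (hm : 4 ≤ m) (a b : F) (hab : ∀ z₁ z₂ : F, z₁ ^ 2 + a * z₁ * z₂ + b * z₂ ^ 2 = 0 → z₁ = 0 ∧ z₂ = 0) :
    AutC p (POmega F (quadFormMinus (m - 1) F a b)) := by
  have hG : Good (minusForm (m - 1) F a b) := good_minus (by omega) a b hab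
  have e := (pomegaEquiv hG).symm
  have h1 := autC_of_good hp hp2 hG (by
    rw [Fintype.card_sum, Fintype.card_sum, Fintype.card_fin, Fintype.card_fin]
    omega) (AutOrth.Final.surjective_minus (by omega) hab) (by
      rw [coe_minusForm] at e
      exact Or.inr (Or.inr (Or.inr (Or.inr (Or.inr (Or.inl ⟨F, inferInstance, inferInstance, inferInstance, m, a, b,
        hm, hab, ⟨e⟩⟩))))))
  rwa [coe_minusForm] at h1

end Cfsg.Agent.CpAut.OrthRow

end
end
end
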